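import Cfsg.Agent.Lib.LargeFischer.General.Free

/-!
# The index of the normal subgroup divides twelve

An element of order seven splits the space into two totally isotropic halves of dimension six, on one of which
its centraliser with the normal subgroup of order three is semiregular; the Frattini argument then bounds the index.
-/

set_option autoImplicit false
set_option maxHeartbeats 1000000
set_option linter.style.haveILetI false
set_option linter.unusedSectionVars false

namespace CfsgLib.LargeFischer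

open QuadraticMap
open CfsgLib.Schur.Tails.UFour (H4 card_H4)

namespace SevenBound

section Maps

variable {V : Type*} [AddCommGroup V] [Module (ZMod 2) V] {K : Type*} [Group K] [DistribMulAction K V]

/-- The first cubic in an element of order seven. -/
def opA (x : K) : V →+ V :=
  AddMonoidHom.mk' (fun v => x ^ 3 • v + x • v + v) fun a b => by simp only [smul_add]; abel

/-- The second cubic in an element of order seven. -/
def opB (x : K) : V →+ V :=
  AddMonoidHom.mk' (fun v => x ^ 3 • v + x ^ 2 • v + v) fun a b => by simp only [smul_add]; abel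

theorem opA_apply (x : K) (v : V) : opA x v = x ^ 3 • v + x • v + v := rfl

theorem opB_apply (x : K) (v : V) : opB x v = x ^ 3 • v + x ^ 2 • v + v := rfl

theorem opA_smul {x g : K} (h : Commute g x) (v : V) : opA x (g • v) = g • opA x v := by
  simp only [opA_apply, smul_add, smul_smul, (h.pow_right 3).eq, h.eq]

theorem opB_smul {x g : K} (h : Commute g x) (v : V) : opB x (g • v) = g • opB x v := by
  simp only [opB_apply, smul_add, smul_smul, (h.pow_right 3).eq, (h.pow_right 2).eq]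

theorem mem_kerA {x g : K} (h : Commute g x) {v : V} (hv : v ∈ (opA (V := V) x).ker) :
    g • v ∈ (opA (V := V) x).ker := by
  rw [AddMonoidHom.mem_ker, opA_smul h, AddMonoidHom.mem_ker.1 hv, smul_zero]

theorem mem_kerB {x g : K} (h : Commute g x) {v : V} (hv : v ∈ (opB (V := V) x).ker) :
    g • v ∈ (opB (V := V) x).ker := by
  rw [AddMonoidHom.mem_ker, opB_smul h, AddMonoidHom.mem_ker.1 hv, smul_zero]

/-- A group without fixed points on the nonzero elements of a subgroup has order dividing their number. -/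
theorem dvd_pred [Finite V] {A : Subgroup K} {W : AddSubgroup V} (hW : ∀ a ∈ A, ∀ w ∈ W, a • w ∈ W)
    (h : ∀ a ∈ A, ∀ w ∈ W, a • w = w → w ≠ 0 → a = 1) : Nat.card ↥A ∣ Nat.card ↥W - 1 := by
  classical
  letI : MulAction ↥A {w : V // w ∈ W ∧ w ≠ 0} :=
    { smul := fun a w => ⟨(a : K) • (w : V), hW a a.2 w w.2.1, fun e => w.2.2
        (by rw [← inv_smul_smul (a : K) (w : V), e, smul_zero])⟩
      one_smul := fun w => Subtype.ext (one_smul K (w : V))
      mul_smul := fun a b w => Subtype.ext (mul_smul (a : K) (b : K) (w : V)) }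
  have hfree : ∀ w : {w : V // w ∈ W ∧ w ≠ 0}, MulAction.stabilizer ↥A w = ⊥ := fun w => by
    refine (Subgroup.eq_bot_iff_forall _).2 fun a ha => Subtype.ext ?_
    exact h a a.2 w w.2.1 (congrArg Subtype.val (MulAction.mem_stabilizer_iff.1 ha)) w.2.2
  have h1 := Nat.card_congr (MulAction.selfEquivOrbitsQuotientProd hfree)
  rw [Nat.card_prod] at h1
  have h2 : Nat.card {w : V // w ∈ W ∧ w ≠ 0} = Nat.card ↥W - 1 := by
    have e : ({w | w ∈ W ∧ w ≠ 0} : Set V) = (W : Set V) \ {0} := rfl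
    show Nat.card ↥({w | w ∈ W ∧ w ≠ 0} : Set V) = _
    rw [Nat.card_coe_set_eq, e, Set.ncard_sdiff_singleton_of_mem W.zero_mem, ← Nat.card_coe_set_eq]
    rfl
  rw [← h2, h1]
  exact dvd_mul_left _ _

end Maps

theorem eq_one_of_pows {G : Type*} [Group G] {g : G} {a b : ℕ} (ha : g ^ a = 1) (hb : g ^ b = 1)
    (hab : Nat.gcd a b = 1) : g = 1 := by
  have := pow_gcd_eq_one.2 ⟨ha, hb⟩
  rwa [hab, pow_one] at this

end SevenBound

open SevenBound

variable {V : Type*} [AddCommGroup V] [Module (ZMod 2) V] [Finite V]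
  {K : Type*} [Group K] [Finite K] [DistribMulAction K V]
  {q : QuadraticForm (ZMod 2) V} {n : K} {M : Subgroup K} {φ : ↥M →* ↥H4}

namespace SevenBound

section Split

variable {x : K} (c : Gen q n M φ) (hxM : x ∈ M) (hx : orderOf x = 7)

include hx

theorem x_seven : x ^ 7 = 1 := by rw [← hx]; exact pow_orderOf_eq_one x

theorem pow_seven_add (i : ℕ) : x ^ (i + 7) = x ^ i := by rw [pow_add, x_seven hx, mul_one]

omit hx

theorem A_inter_B {v : V} (hA : v ∈ (opA (V := V) x).ker) (hB : v ∈ (opB (V := V) x).ker) : v = 0 := by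
  rw [AddMonoidHom.mem_ker, opA_apply] at hA
  rw [AddMonoidHom.mem_ker, opB_apply] at hB
  have h1 : x • v = x ^ 2 • v := add_left_cancel (add_right_cancel (hA.trans hB.symm))
  rw [pow_two, mul_smul] at h1
  have h2 : x • v = v := (MulAction.injective x h1).symm
  have h3 : x ^ 3 • v = v := by rw [pow_succ, pow_two, mul_smul, mul_smul, h2, h2, h2]
  rw [h3, h2, vadd_self, zero_add] at hA
  exact hA

theorem A_inter_fix {v : V} (hA : v ∈ (opA (V := V) x).ker) (h2 : x • v = v) : v = 0 := by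
  rw [AddMonoidHom.mem_ker, opA_apply] at hA
  have h3 : x ^ 3 • v = v := by rw [pow_succ, pow_two, mul_smul, mul_smul, h2, h2, h2]
  rw [h3, h2, vadd_self, zero_add] at hA
  exact hA

theorem B_inter_fix {v : V} (hB : v ∈ (opB (V := V) x).ker) (h2 : x • v = v) : v = 0 := by
  rw [AddMonoidHom.mem_ker, opB_apply] at hB
  have h3 : x ^ 3 • v = v := by rw [pow_succ, pow_two, mul_smul, mul_smul, h2, h2, h2]
  have h4 : x ^ 2 • v = v := by rw [pow_two, mul_smul, h2, h2]
  rw [h3, h4, vadd_self, zero_add] at hB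
  exact hB

include c

theorem A_isotropic {u v : V} (hu : u ∈ (opA (V := V) x).ker) (hv : v ∈ (opA (V := V) x).ker) :
    polar q u v = 0 := by
  let f : ↥(opA (V := V) x).ker → ↥(opA (V := V) x).ker := fun w => ⟨opB x (w : V), by
    have := w.2
    rw [AddMonoidHom.mem_ker] at this ⊢
    rw [opB_apply, map_add, map_add, opA_smul ((Commute.refl x).pow_left 3),
      opA_smul ((Commute.refl x).pow_left 2), this]
    simp⟩
  have hf : Function.Injective f := fun a b e => by
    have e' : opB x (a : V) = opB x (b : V) := congrArg Subtype.val e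
    refine Subtype.ext (sub_eq_zero.1 (A_inter_B (sub_mem a.2 b.2) ?_))
    rw [AddMonoidHom.mem_ker, map_sub, e', sub_self]
  obtain ⟨w, hw⟩ := (Finite.injective_iff_surjective.1 hf) ⟨v, hv⟩
  have hv' : v = opB x (w : V) := (congrArg Subtype.val hw).symm
  have hu' : (x ^ 3)⁻¹ • u ∈ (opA (V := V) x).ker := mem_kerA (((Commute.refl x).pow_left 3).inv_left) hu
  have e1 : polar q u (x ^ 3 • (w : V)) = polar q ((x ^ 3)⁻¹ • u) (w : V) := by
    rw [← c.polar_smul (x ^ 3) ((x ^ 3)⁻¹ • u), smul_inv_smul]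
  have e2 : polar q u (x ^ 2 • (w : V)) = polar q (x • (x ^ 3)⁻¹ • u) (w : V) := by
    rw [← c.polar_smul (x ^ 2) (x • (x ^ 3)⁻¹ • u), smul_smul (x ^ 2) x, ← pow_succ, smul_inv_smul]
  have e3 : polar q u (w : V) = polar q (x ^ 3 • (x ^ 3)⁻¹ • u) (w : V) := by rw [smul_inv_smul]
  have h : polar q u v = polar q (opA x ((x ^ 3)⁻¹ • u)) (w : V) := by
    rw [hv', opB_apply, opA_apply, polar_add_right, polar_add_right, polar_add_left, polar_add_left, e1, e2, e3]
    abel
  rw [h, AddMonoidHom.mem_ker.1 hu', polar_zero_left]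

theorem B_isotropic {u v : V} (hu : u ∈ (opB (V := V) x).ker) (hv : v ∈ (opB (V := V) x).ker) :
    polar q u v = 0 := by
  let f : ↥(opB (V := V) x).ker → ↥(opB (V := V) x).ker := fun w => ⟨opA x (w : V), by
    have := w.2
    rw [AddMonoidHom.mem_ker] at this ⊢
    rw [opA_apply, map_add, map_add, opB_smul ((Commute.refl x).pow_left 3), opB_smul (Commute.refl x), this]
    simp⟩
  have hf : Function.Injective f := fun a b e => by
    have e' : opA x (a : V) = opA x (b : V) := congrArg Subtype.val e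
    refine Subtype.ext (sub_eq_zero.1 (A_inter_B ?_ (sub_mem a.2 b.2)))
    rw [AddMonoidHom.mem_ker, map_sub, e', sub_self]
  obtain ⟨w, hw⟩ := (Finite.injective_iff_surjective.1 hf) ⟨v, hv⟩
  have hv' : v = opA x (w : V) := (congrArg Subtype.val hw).symm
  have hu' : (x ^ 3)⁻¹ • u ∈ (opB (V := V) x).ker := mem_kerB (((Commute.refl x).pow_left 3).inv_left) hu
  have e1 : polar q u (x ^ 3 • (w : V)) = polar q ((x ^ 3)⁻¹ • u) (w : V) := by
    rw [← c.polar_smul (x ^ 3) ((x ^ 3)⁻¹ • u), smul_inv_smul]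
  have e2 : polar q u (x • (w : V)) = polar q (x ^ 2 • (x ^ 3)⁻¹ • u) (w : V) := by
    rw [← c.polar_smul x (x ^ 2 • (x ^ 3)⁻¹ • u), smul_smul x (x ^ 2), ← pow_succ', smul_inv_smul]
  have e3 : polar q u (w : V) = polar q (x ^ 3 • (x ^ 3)⁻¹ • u) (w : V) := by rw [smul_inv_smul]
  have h : polar q u v = polar q (opB x ((x ^ 3)⁻¹ • u)) (w : V) := by
    rw [hv', opA_apply, opB_apply, polar_add_right, polar_add_right, polar_add_left, polar_add_left, e1, e2, e3]
    abel
  rw [h, AddMonoidHom.mem_ker.1 hu', polar_zero_left]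

theorem fix_perp_A {u v : V} (hu : x • u = u) (hv : v ∈ (opA (V := V) x).ker) : polar q u v = 0 := by
  have h3 : x ^ 3 • u = u := by rw [pow_succ, pow_two, mul_smul, mul_smul, hu, hu, hu]
  have h := congrArg (polar q u) (AddMonoidHom.mem_ker.1 hv)
  have h0 : polar q u 0 = 0 := polar_zero_right q u
  rw [opA_apply, polar_add_right, polar_add_right] at h
  have e1 : polar q u (x • v) = polar q u v := by rw [← c.polar_smul x u v, hu]
  have e3 : polar q u (x ^ 3 • v) = polar q u v := by rw [← c.polar_smul (x ^ 3) u v, h3]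
  rw [e1, e3, CharTwo.add_self_eq_zero, zero_add, h0] at h
  exact h

theorem fix_perp_B {u v : V} (hu : x • u = u) (hv : v ∈ (opB (V := V) x).ker) : polar q u v = 0 := by
  have h3 : x ^ 3 • u = u := by rw [pow_succ, pow_two, mul_smul, mul_smul, hu, hu, hu]
  have h4 : x ^ 2 • u = u := by rw [pow_two, mul_smul, hu, hu]
  have h := congrArg (polar q u) (AddMonoidHom.mem_ker.1 hv)
  have h0 : polar q u 0 = 0 := polar_zero_right q u
  rw [opB_apply, polar_add_right, polar_add_right] at h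
  have e1 : polar q u (x ^ 2 • v) = polar q u v := by rw [← c.polar_smul (x ^ 2) u v, h4]
  have e3 : polar q u (x ^ 3 • v) = polar q u v := by rw [← c.polar_smul (x ^ 3) u v, h3]
  rw [e1, e3, CharTwo.add_self_eq_zero, zero_add, h0] at h
  exact h

omit c
include hx

theorem decompose (v : V) : ∃ a b d : V, x • a = a ∧ b ∈ (opA (V := V) x).ker ∧ d ∈ (opB (V := V) x).ker ∧
    v = a + b + d := by
  have e7 : ∀ w : V, x ^ 7 • w = w := fun w => by rw [x_seven hx, one_smul]
  refine ⟨v + x • v + x ^ 2 • v + x ^ 3 • v + x ^ 4 • v + x ^ 5 • v + x ^ 6 • v,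
    v + x • v + x ^ 2 • v + x ^ 4 • v, v + x ^ 3 • v + x ^ 5 • v + x ^ 6 • v, ?_, ?_, ?_, ?_⟩
  · simp only [smul_add, smul_smul, ← pow_succ', ← pow_two, e7]
    abel
  · rw [AddMonoidHom.mem_ker, opA_apply]
    simp only [smul_add, smul_smul, ← pow_add, ← pow_succ, ← pow_succ', ← pow_two]
    norm_num only
    rw [e7,
      show x ^ 3 • v + x ^ 4 • v + x ^ 5 • v + v + (x • v + x ^ 2 • v + x ^ 3 • v + x ^ 5 • v) +
          (v + x • v + x ^ 2 • v + x ^ 4 • v) = (x ^ 3 • v + x ^ 3 • v) + (x ^ 4 • v + x ^ 4 • v) +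
          (x ^ 5 • v + x ^ 5 • v) + (x • v + x • v) + (x ^ 2 • v + x ^ 2 • v) + (v + v) by abel]
    simp only [vadd_self]
  · have e8 : x ^ 8 • v = x • v := by rw [show (8 : ℕ) = 1 + 7 from rfl, pow_seven_add hx, pow_one]
    have e9 : x ^ 9 • v = x ^ 2 • v := by rw [show (9 : ℕ) = 2 + 7 from rfl, pow_seven_add hx]
    rw [AddMonoidHom.mem_ker, opB_apply]
    simp only [smul_add, smul_smul, ← pow_add]
    norm_num only
    rw [e7, e8, e9,
      show x ^ 3 • v + x ^ 6 • v + x • v + x ^ 2 • v + (x ^ 2 • v + x ^ 5 • v + v + x • v) +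
          (v + x ^ 3 • v + x ^ 5 • v + x ^ 6 • v) = (x ^ 3 • v + x ^ 3 • v) + (x ^ 6 • v + x ^ 6 • v) +
          (x ^ 5 • v + x ^ 5 • v) + (x • v + x • v) + (x ^ 2 • v + x ^ 2 • v) + (v + v) by abel]
    simp only [vadd_self]
  · rw [show v + x • v + x ^ 2 • v + x ^ 3 • v + x ^ 4 • v + x ^ 5 • v + x ^ 6 • v +
        (v + x • v + x ^ 2 • v + x ^ 4 • v) + (v + x ^ 3 • v + x ^ 5 • v + x ^ 6 • v) = v + ((v + v) +
        (x • v + x • v) + (x ^ 2 • v + x ^ 2 • v) + (x ^ 3 • v + x ^ 3 • v) + (x ^ 4 • v + x ^ 4 • v) +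
        (x ^ 5 • v + x ^ 5 • v) + (x ^ 6 • v + x ^ 6 • v)) by abel]
    simp only [vadd_self, add_zero]

include c hxM

theorem comm : Commute x n := c.commute hxM

theorem order_xn : orderOf (x * n) = 21 := by
  rw [(comm c hxM hx).orderOf_mul_eq_mul_orderOf_of_coprime (by rw [hx, c.ordn]; decide), hx, c.ordn]

/-- An element of the group of order twenty-one fixing a vector not fixed by `x` is trivial. -/
theorem semireg {g : K} (hg : g ∈ Subgroup.zpowers (x * n)) {v : V} (hv : v ≠ 0) (hxv : x • v ≠ v)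
    (h : g • v = v) : g = 1 := by
  obtain ⟨i, rfl⟩ := Subgroup.mem_zpowers_iff.1 hg
  have hpow : ∀ j : ℕ, ((x * n) ^ i) ^ j • v = v := fun j => by
    induction j with
    | zero => rw [pow_zero, one_smul]
    | succ j ih => rw [pow_succ, mul_smul, h, ih]
  have hcomm := comm c hxM hx
  refine eq_one_of_pows (a := 7) (b := 3) ?_ ?_ (by norm_num)
  · by_contra hne
    refine hv (c.free (c.smul_zn_eq (x := ((x * n) ^ i) ^ 7) ?_ hne (hpow 7)))
    have : ((x * n) ^ i) ^ 7 = (n ^ 7) ^ i := by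
      rw [← zpow_natCast ((x * n) ^ i), ← zpow_mul, mul_comm i, zpow_mul, zpow_natCast, hcomm.mul_pow,
        x_seven hx, one_mul]
    rw [this]
    exact zpow_mem (pow_mem (Subgroup.mem_zpowers n) 7) _
  · by_contra hne
    have hmem : ((x * n) ^ i) ^ 3 ∈ Subgroup.zpowers x := by
      rw [← zpow_natCast ((x * n) ^ i), ← zpow_mul, mul_comm i, zpow_mul, zpow_natCast, hcomm.mul_pow,
        show n ^ 3 = 1 by rw [← c.ordn]; exact pow_orderOf_eq_one n, mul_one]
      exact zpow_mem (pow_mem (Subgroup.mem_zpowers x) 3) _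
    haveI : Fact (Nat.Prime 7) := ⟨by norm_num⟩
    haveI : Fact (Nat.card ↥(Subgroup.zpowers x)).Prime := ⟨by rw [Nat.card_zpowers, hx]; norm_num⟩
    have hgen := mem_zpowers_of_prime_card (g := (⟨_, hmem⟩ : ↥(Subgroup.zpowers x)))
      (g' := ⟨x, Subgroup.mem_zpowers x⟩) rfl fun e => hne (congrArg Subtype.val e)
    obtain ⟨j, hj⟩ := Subgroup.mem_zpowers_iff.1 hgen
    have hj' : (((x * n) ^ i) ^ 3) ^ j = x := by simpa using congrArg Subtype.val hj
    refine hxv ?_
    have hstab : x ∈ MulAction.stabilizer K v := by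
      rw [← hj']
      exact zpow_mem (MulAction.mem_stabilizer_iff.2 (hpow 3)) _
    exact MulAction.mem_stabilizer_iff.1 hstab

/-- A totally isotropic subgroup invariant under the group of order twenty-one, on whose nonzero vectors `x`
fixes nothing, has order 1 or 64. -/
theorem card_one_or {S : AddSubgroup V} (hS : ∀ g ∈ Subgroup.zpowers (x * n), ∀ v ∈ S, g • v ∈ S)
    (hx0 : ∀ v ∈ S, x • v = v → v = 0) (hiso : ∀ u ∈ S, ∀ v ∈ S, polar q u v = 0) :
    Nat.card ↥S = 1 ∨ Nat.card ↥S = 64 := by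
  have h21 : 21 ∣ Nat.card ↥S - 1 := by
    rw [← order_xn c hxM hx, ← Nat.card_zpowers]
    exact dvd_pred hS fun g hg v hv e hv0 => semireg c hxM hx hg hv0 (fun e' => hv0 (hx0 v hv e')) e
  have hle : Nat.card ↥S * Nat.card ↥S ≤ 4 ^ 6 := by
    rw [← c.cardV, ← perpSub_card q c.nondeg S]
    exact Nat.mul_le_mul_right _ (Nat.card_mono (Set.toFinite _) fun u hu v hv => hiso u hu v hv)
  have hk : Nat.card ↥S = 2 ^ Module.finrank (ZMod 2) ↥(AddSubgroup.toZModSubmodule 2 S) :=
    card_eq_two_pow (V := ↥(AddSubgroup.toZModSubmodule 2 S))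
  generalize Module.finrank (ZMod 2) ↥(AddSubgroup.toZModSubmodule 2 S) = k at hk
  rw [hk, ← pow_add] at hle
  have : k + k ≤ 12 := (Nat.pow_le_pow_iff_right (show 1 < 2 by norm_num)).1 (hle.trans (by norm_num))
  rw [hk] at h21 ⊢
  obtain rfl | hk0 := Nat.eq_zero_or_pos k
  · exact .inl rfl
  have hk6 : k ≤ 6 := by omega
  interval_cases k <;> first | exact .inr rfl | (exfalso; norm_num at h21)

theorem inv_xn {W : AddSubgroup V} (hW : ∀ g : K, Commute g x → ∀ v ∈ W, g • v ∈ W) :
    ∀ g ∈ Subgroup.zpowers (x * n), ∀ v ∈ W, g • v ∈ W := by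
  intro g hg
  obtain ⟨i, rfl⟩ := Subgroup.mem_zpowers_iff.1 hg
  exact hW _ (((Commute.refl x).mul_left (comm c hxM hx).symm).zpow_left i)

theorem card_A : Nat.card ↥(opA (V := V) x).ker = 64 ∧ Nat.card ↥(opB (V := V) x).ker = 64 := by
  have hA := card_one_or c hxM hx (inv_xn c hxM hx fun g hg v hv => mem_kerA hg hv)
    (fun v hv e => A_inter_fix hv e) fun u hu v hv => A_isotropic c hu hv
  have hB := card_one_or c hxM hx (inv_xn c hxM hx fun g hg v hv => mem_kerB hg hv)
    (fun v hv e => B_inter_fix hv e) fun u hu v hv => B_isotropic c hu hv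
  have hfix : ¬ ∀ v : V, x • v = v := fun h => by
    rw [c.faithful x h, orderOf_one] at hx
    omega
  constructor
  · refine hA.resolve_left fun e => hfix fun v => ?_
    rw [AddSubgroup.card_eq_one] at e
    have hB0 : ∀ d ∈ (opB (V := V) x).ker, d = 0 := fun d hd => c.nondeg d fun w => by
      obtain ⟨a, b, d', ha, hb, hd', rfl⟩ := decompose hx w
      rw [e, AddSubgroup.mem_bot] at hb
      rw [hb, add_zero, polar_add_right, B_isotropic c hd hd', QuadraticMap.polar_comm, fix_perp_B c ha hd, add_zero]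
    obtain ⟨a, b, d, ha, hb, hd, rfl⟩ := decompose hx v
    rw [e, AddSubgroup.mem_bot] at hb
    rw [hb, hB0 d hd, add_zero, add_zero, ha]
  · refine hB.resolve_left fun e => hfix fun v => ?_
    rw [AddSubgroup.card_eq_one] at e
    have hA0 : ∀ d ∈ (opA (V := V) x).ker, d = 0 := fun d hd => c.nondeg d fun w => by
      obtain ⟨a, b, d', ha, hb, hd', rfl⟩ := decompose hx w
      rw [e, AddSubgroup.mem_bot] at hd'
      rw [hd', add_zero, polar_add_right, A_isotropic c hd hb, QuadraticMap.polar_comm, fix_perp_A c ha hd, add_zero]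
    obtain ⟨a, b, d, ha, hb, hd, rfl⟩ := decompose hx v
    rw [e, AddSubgroup.mem_bot] at hd
    rw [hd, hA0 b hb, add_zero, add_zero, ha]

theorem split (v : V) : ∃ a ∈ (opA (V := V) x).ker, ∃ b ∈ (opB (V := V) x).ker, v = a + b := by
  let f : ↥(opA (V := V) x).ker × ↥(opB (V := V) x).ker → V := fun p => (p.1 : V) + (p.2 : V)
  have hf : Function.Injective f := fun p p' e => by
    have e1 : (p.1 : V) - p'.1 = (p'.2 : V) - p.2 := sub_eq_sub_iff_add_eq_add.2 (by rw [add_comm (p'.2 : V)]; exact e)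
    have h0 : (p.1 : V) - p'.1 = 0 := A_inter_B (sub_mem p.1.2 p'.1.2) (by rw [e1]; exact sub_mem p'.2.2 p.2.2)
    refine Prod.ext (Subtype.ext (sub_eq_zero.1 h0)) (Subtype.ext ?_)
    rw [h0] at e1
    exact (sub_eq_zero.1 e1.symm).symm
  obtain ⟨h1, h2⟩ := card_A c hxM hx
  obtain ⟨⟨a, b⟩, e⟩ := (hf.bijective_of_nat_card_le (by rw [c.cardV, Nat.card_prod, h1, h2]; norm_num)).2 v
  exact ⟨a, a.2, b, b.2, e.symm⟩

/-- The centraliser of `x` and `n` has order dividing 63. -/
theorem card_cent : Nat.card ↥(Subgroup.centralizer ({x, n} : Set K)) ∣ 63 := by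
  have hC : ∀ g ∈ Subgroup.centralizer ({x, n} : Set K), Commute g x ∧ Commute g n := fun g hg =>
    ⟨(Subgroup.mem_centralizer_iff.1 hg x (by simp)).symm, (Subgroup.mem_centralizer_iff.1 hg n (by simp)).symm⟩
  have h := dvd_pred (A := Subgroup.centralizer ({x, n} : Set K)) (W := (opA (V := V) x).ker)
    (fun g hg v hv => mem_kerA (hC g hg).1 hv) ?_
  · rwa [(card_A c hxM hx).1] at h
  intro g hg u hu hgu hu0
  obtain ⟨hgx, hgn⟩ := hC g hg
  let S : AddSubgroup V :=
    { carrier := {w | w ∈ (opA (V := V) x).ker ∧ g • w = w}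
      zero_mem' := ⟨zero_mem _, smul_zero g⟩
      add_mem' := fun {a b} ha hb => ⟨add_mem ha.1 hb.1, by rw [smul_add, ha.2, hb.2]⟩
      neg_mem' := fun {a} ha => ⟨neg_mem ha.1, by rw [smul_neg, ha.2]⟩ }
  have hS := card_one_or c hxM hx (S := S) (fun a ha v hv => by
      refine ⟨inv_xn c hxM hx (fun g hg v hv => mem_kerA hg hv) a ha v hv.1, ?_⟩
      obtain ⟨i, rfl⟩ := Subgroup.mem_zpowers_iff.1 ha
      rw [smul_smul, ((hgx.mul_right hgn).zpow_right i).eq, ← smul_smul, hv.2])
    (fun v hv e => A_inter_fix hv.1 e) fun a ha b hb => A_isotropic c ha.1 hb.1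
  have h64 : Nat.card ↥S = 64 := hS.resolve_left fun e => hu0 (by
    have : u ∈ S := ⟨hu, hgu⟩
    rwa [AddSubgroup.card_eq_one.1 e, AddSubgroup.mem_bot] at this)
  have hSA : (S : Set V) = ((opA (V := V) x).ker : Set V) :=
    Set.eq_of_subset_of_ncard_le (fun v hv => hv.1)
      (by rw [← Nat.card_coe_set_eq, ← Nat.card_coe_set_eq]; exact ((card_A c hxM hx).1.trans h64.symm).le)
      (Set.toFinite _)
  have hfixA : ∀ a ∈ (opA (V := V) x).ker, g • a = a := fun a ha => (hSA.ge ha).2
  refine c.faithful g fun v => ?_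
  obtain ⟨a, ha, b, hb, rfl⟩ := split c hxM hx v
  rw [smul_add, hfixA a ha]
  congr 1
  refine eq_of_vadd (c.nondeg _ fun w => ?_)
  obtain ⟨a', ha', b', hb', rfl⟩ := split c hxM hx w
  have h1 : polar q (g • b + b) b' = 0 := B_isotropic c (add_mem (mem_kerB hgx hb) hb) hb'
  have h2 : polar q (g • b + b) a' = 0 := by
    rw [polar_add_left]
    conv_lhs => enter [1]; rw [← hfixA a' ha', c.polar_smul]
    exact CharTwo.add_self_eq_zero _
  rw [polar_add_right, h1, h2, add_zero]

end Split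

end SevenBound

namespace Gen

variable (c : Gen q n M φ)

include c

/-- The data from the normaliser of a Sylow 7-subgroup of `M`. -/
theorem sylow_data : ∃ (N : Subgroup K) (R : Type) (_ : CommGroup R) (_ : Finite R) (f : ↥N →* R),
    Function.Surjective f ∧ (∀ r : R, r ^ 2 = 1) ∧ Nat.card R ∣ 4 ∧ (∀ g : ↥N, f g = 1 → g ^ 189 = 1) ∧
    Nat.card ↥N = 63 * M.index ∧ Nat.card ↥(M.subgroupOf N) = 63 ∧ N ⊔ M = ⊤ ∧ Nat.card ↥N ∣ 756 := by
  haveI : Fact (Nat.Prime 7) := ⟨by norm_num⟩
  haveI := c.normalM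
  obtain ⟨x0, hx0⟩ := exists_prime_orderOf_dvd_card' (G := ↥M) 7 (by rw [c.card_M]; norm_num)
  set x : K := (x0 : K) with hxdef
  have hxM : x ∈ M := x0.2
  have hx : orderOf x = 7 := by rw [hxdef, Subgroup.orderOf_coe, hx0]
  have hfac : (Nat.card ↥M).factorization 7 = 1 := by
    rw [c.card_M, show 9797760 = 7 * 1399680 by norm_num, Nat.factorization_mul (by norm_num) (by norm_num)]
    simp [Nat.Prime.factorization_self (show Nat.Prime 7 by norm_num),
      Nat.factorization_eq_zero_of_not_dvd (show ¬ 7 ∣ 1399680 by norm_num)]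
  let P : Sylow 7 ↥M := Sylow.ofCard (Subgroup.zpowers x0) (by rw [Nat.card_zpowers, hx0, hfac, pow_one])
  set X : Subgroup K := Subgroup.zpowers x with hX
  set N : Subgroup K := Subgroup.normalizer (X : Set K) with hN
  have hsup : N ⊔ M = ⊤ := by
    have h := Sylow.normalizer_sup_eq_top P
    have e : (P : Subgroup ↥M).map M.subtype = X := by
      show (Subgroup.zpowers x0).map M.subtype = _
      rw [MonoidHom.map_zpowers]
      rfl
    rw [e] at h
    exact h
  have hidx : M.index = M.relIndex N := by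
    rw [← Subgroup.relIndex_top_right, ← hsup, Subgroup.relIndex_sup_right]
  have hZN : (Subgroup.zpowers n).Normal := ⟨fun g hg k => by
    obtain ⟨i, rfl⟩ := Subgroup.mem_zpowers_iff.1 hg
    rw [← conj_zpow]
    exact zpow_mem (c.normal k) i⟩
  -- the action of the normaliser on the two cyclic groups
  have hX7 : Nat.card ↥X = 7 := by rw [hX, Nat.card_zpowers, hx]
  let A := (ZMod (Nat.card ↥X))ˣ × (ZMod (Nat.card ↥(Subgroup.zpowers n)))ˣ
  let ψ : ↥N →* A :=
    ((IsCyclic.mulAutMulEquiv ↥X).toMonoidHom.comp X.normalizerMonoidHom).prod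
      ((IsCyclic.mulAutMulEquiv ↥(Subgroup.zpowers n)).toMonoidHom.comp
        ((MulAut.conjNormal (H := Subgroup.zpowers n)).comp N.subtype))
  have hA : Nat.card A = 12 := by
    show Nat.card (_ × _) = _
    rw [Nat.card_prod, ← Nat.card_congr (IsCyclic.mulAutMulEquiv ↥X).toEquiv,
      ← Nat.card_congr (IsCyclic.mulAutMulEquiv ↥(Subgroup.zpowers n)).toEquiv, IsCyclic.card_mulAut,
      IsCyclic.card_mulAut, hX7, c.card_zn]
    decide
  haveI : Finite A := Nat.finite_of_card_ne_zero (by rw [hA]; norm_num)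
  have hA6 : ∀ a : A, a ^ 6 = 1 := by
    have h1 : ∀ a : (ZMod (Nat.card ↥X))ˣ, a ^ 6 = 1 := by rw [hX7]; decide
    have h2 : ∀ a : (ZMod (Nat.card ↥(Subgroup.zpowers n)))ˣ, a ^ 6 = 1 := by rw [c.card_zn]; decide
    exact fun a => Prod.ext (h1 a.1) (h2 a.2)
  have hker : ∀ g : ↥N, ψ g = 1 → (g : K) ∈ Subgroup.centralizer ({x, n} : Set K) := fun g hg => by
    have h1 : X.normalizerMonoidHom g = 1 := (IsCyclic.mulAutMulEquiv ↥X).map_eq_one_iff.1 (congrArg Prod.fst hg)
    have h2 : MulAut.conjNormal (H := Subgroup.zpowers n) (g : K) = 1 :=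
      (IsCyclic.mulAutMulEquiv ↥(Subgroup.zpowers n)).map_eq_one_iff.1 (congrArg Prod.snd hg)
    have e1 : (g : K) * x * (g : K)⁻¹ = x := by
      have := congrArg (fun a : MulAut ↥X => ((a ⟨x, Subgroup.mem_zpowers x⟩ : ↥X) : K)) h1
      simpa using this
    have e2 : (g : K) * n * (g : K)⁻¹ = n := by
      have := congrArg (fun a : MulAut ↥(Subgroup.zpowers n) =>
        ((a ⟨n, Subgroup.mem_zpowers n⟩ : ↥(Subgroup.zpowers n)) : K)) h2
      simpa using this
    rw [Subgroup.mem_centralizer_iff]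
    rintro h (rfl | rfl)
    exacts [(mul_inv_eq_iff_eq_mul.1 e1).symm, (mul_inv_eq_iff_eq_mul.1 e2).symm]
  have hcent := SevenBound.card_cent c hxM hx
  have hN756 : Nat.card ↥N ∣ 756 := by
    rw [← ψ.ker.card_mul_index, Subgroup.index_ker]
    refine Nat.mul_dvd_mul (?_ : _ ∣ 63) (hA ▸ Subgroup.card_subgroup_dvd_card _)
    rw [← Subgroup.card_map_of_injective (f := N.subtype) N.subtype_injective]
    refine (Subgroup.card_dvd_of_le ?_).trans hcent
    rintro _ ⟨g, hg, rfl⟩
    exact hker g hg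
  -- the normaliser in `M` has order 63
  have hNM : Nat.card ↥(M.subgroupOf N) = Nat.card ↥(N.subgroupOf M) := by
    rw [← Subgroup.inf_subgroupOf_right M N, ← Subgroup.inf_subgroupOf_right N M,
      Nat.card_congr (Subgroup.subgroupOfEquivOfLe inf_le_right).toEquiv,
      Nat.card_congr (Subgroup.subgroupOfEquivOfLe inf_le_right).toEquiv, inf_comm]
  have h63 : Nat.card ↥(N.subgroupOf M) = 63 := by
    have hd756 : Nat.card ↥(N.subgroupOf M) ∣ 756 := by
      rw [← hNM]; exact (Subgroup.card_subgroup_dvd_card _).trans hN756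
    have hxn : x * n ∈ N := by
      refine mul_mem (Subgroup.le_normalizer (Subgroup.mem_zpowers x)) (Subgroup.mem_normalizer_iff.2 fun h => ?_)
      constructor
      · intro hh
        obtain ⟨i, rfl⟩ := Subgroup.mem_zpowers_iff.1 hh
        rw [((SevenBound.comm c hxM hx).zpow_left i).symm.eq, mul_inv_cancel_right]
        exact hh
      · intro hh
        obtain ⟨i, hi⟩ := Subgroup.mem_zpowers_iff.1 hh
        have hcm : Commute n (n * h * n⁻¹) := hi ▸ ((SevenBound.comm c hxM hx).zpow_left i).symm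
        have : n * h * n⁻¹ = h := by
          have := hcm.inv_left.eq
          calc n * h * n⁻¹ = (n * h * n⁻¹) * n⁻¹ * n := by group
            _ = n⁻¹ * (n * h * n⁻¹) * n := by rw [this]
            _ = h := by group
        rwa [← this]
    have h21 : 21 ∣ Nat.card ↥(N.subgroupOf M) := by
      rw [← SevenBound.order_xn c hxM hx, ← Subgroup.orderOf_mk (x * n) (mul_mem hxM c.nM),
        ← Subgroup.orderOf_mk (H := N.subgroupOf M) ⟨x * n, mul_mem hxM c.nM⟩ (Subgroup.mem_subgroupOf.2 hxn)]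
      exact orderOf_dvd_natCard _
    have hP : Subgroup.normalizer (P : Set ↥M) = N.subgroupOf M := by
      have hmem : ∀ m : ↥M, m ∈ (P : Subgroup ↥M) ↔ (m : K) ∈ X := fun m => by
        show m ∈ Subgroup.zpowers x0 ↔ _
        simp only [hX, Subgroup.mem_zpowers_iff]
        exact exists_congr fun i => ⟨fun e => by rw [← e]; simp [hxdef], fun e => Subtype.ext (by simpa [hxdef] using e)⟩
      ext m
      rw [Subgroup.mem_subgroupOf, hN, show ((P : Set ↥M)) = ((P : Subgroup ↥M) : Set ↥M) from rfl,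
        Subgroup.mem_normalizer_iff, Subgroup.mem_normalizer_iff]
      constructor
      · intro h k
        by_cases hk : k ∈ M
        · have := h ⟨k, hk⟩
          rw [hmem, hmem] at this
          simpa using this
        · have hXM : X ≤ M := Subgroup.zpowers_le.2 hxM
          exact iff_of_false (fun e => hk (hXM e)) fun e => hk <| by
            have := mul_mem (mul_mem (inv_mem m.2) (hXM e)) m.2
            simpa [mul_assoc] using this
      · intro h k
        rw [hmem, hmem]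
        simpa using h k
    have h7 : Nat.card (Sylow 7 ↥M) ≡ 1 [MOD 7] := card_sylow_modEq_one 7 ↥M
    rw [P.card_eq_index_normalizer, hP] at h7
    have hmul := (N.subgroupOf M).card_mul_index
    rw [c.card_M] at hmul
    generalize Nat.card ↥(N.subgroupOf M) = d at *
    generalize (N.subgroupOf M).index = e at *
    obtain ⟨k, rfl⟩ := h21
    have hk : k ∣ 36 := Nat.dvd_of_mul_dvd_mul_left (by norm_num : 0 < 21) (by simpa using hd756)
    have hk36 : k ≤ 36 := Nat.le_of_dvd (by norm_num) hk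
    unfold Nat.ModEq at h7
    interval_cases k <;> omega
  -- the elementary quotient
  let f0 : ↥N →* A := (powMonoidHom 3).comp ψ
  haveI : Finite ↥f0.range := inferInstance
  obtain ⟨R, iR, iF, ⟨e⟩⟩ : ∃ (R : Type) (_ : CommGroup R) (_ : Finite R), Nonempty (↥f0.range ≃* R) :=
    ⟨↥f0.range, inferInstance, inferInstance, ⟨MulEquiv.refl _⟩⟩
  refine ⟨N, R, iR, iF, e.toMonoidHom.comp f0.rangeRestrict, e.surjective.comp f0.rangeRestrict_surjective,
    fun r => ?_, ?_, fun g hg => ?_, ?_, hNM.trans h63, hsup, hN756⟩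
  · obtain ⟨⟨_, g, rfl⟩, rfl⟩ := e.surjective r
    rw [← map_pow, e.map_eq_one_iff]
    exact Subtype.ext (show (ψ g ^ 3) ^ 2 = 1 by rw [← pow_mul]; exact hA6 _)
  · rw [← Nat.card_congr e.toEquiv]
    have h2 : IsPGroup 2 ↥f0.range := fun a => ⟨1, by
      obtain ⟨_, g, rfl⟩ := a
      exact Subtype.ext (show (ψ g ^ 3) ^ 2 = 1 by rw [← pow_mul]; exact hA6 _)⟩
    haveI : Fact (Nat.Prime 2) := ⟨Nat.prime_two⟩
    obtain ⟨k, hk⟩ := IsPGroup.iff_card.1 h2
    have h12 : 2 ^ k ∣ 4 * 3 := by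
      rw [← hk]; exact (Subgroup.card_subgroup_dvd_card _).trans (by rw [hA])
    rw [hk]
    exact ((Nat.Coprime.pow_left k (by norm_num : Nat.Coprime 2 3)).dvd_of_dvd_mul_right h12)
  · have h3 : ψ (g ^ 3) = 1 := by
      rw [map_pow]
      exact congrArg Subtype.val (e.map_eq_one_iff.1 hg : f0.rangeRestrict g = 1)
    have h63' : ((g ^ 3 : ↥N) : K) ^ 63 = 1 := by
      refine orderOf_dvd_iff_pow_eq_one.1 (dvd_trans ?_ hcent)
      exact (Subgroup.orderOf_mk ((g ^ 3 : ↥N) : K) (hker _ h3)) ▸ orderOf_dvd_natCard _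
    exact Subtype.ext (by rw [Subgroup.coe_pow] at h63' ⊢; rw [← pow_mul] at h63'; simpa using h63')
  · rw [hidx, ← (M.subgroupOf N).card_mul_index, hNM.trans h63]
    rfl

/-- The index of the normal subgroup divides twelve. -/
theorem index_dvd : M.index ∣ 12 := by
  obtain ⟨N, R, _, _, f, _, _, _, _, hN, _, _, h756⟩ := c.sylow_data
  rw [hN] at h756
  exact Nat.dvd_of_mul_dvd_mul_left (by norm_num : 0 < 63) (by simpa using h756)

/-- Without subgroups of index two above `M` the index is odd. -/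
theorem odd_index (h : ∀ L : Subgroup K, M ≤ L → L.index ≠ 2) : Odd M.index := by
  haveI := c.normalM
  haveI : Fact (Nat.Prime 2) := ⟨Nat.prime_two⟩
  obtain ⟨N, R, _, _, f, hf, hR2, hR4, hker, hN, hNM, hsup, _⟩ := c.sylow_data
  rw [← Nat.not_even_iff_odd]
  intro hev
  have hN2 : 2 ∣ Nat.card ↥N := hN ▸ dvd_mul_of_dvd_right hev.two_dvd 63
  have hRev : 2 ∣ Nat.card R := by
    rw [← f.ker.card_mul_index, Subgroup.index_ker, MonoidHom.range_eq_top.2 hf, Subgroup.card_top] at hN2
    refine (Nat.prime_two.dvd_mul.1 hN2).resolve_left fun h2 => ?_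
    obtain ⟨g, hg⟩ := exists_prime_orderOf_dvd_card' (G := ↥f.ker) 2 h2
    have h189 : g ^ 189 = 1 := Subtype.ext (hker g g.2)
    have := orderOf_dvd_of_pow_eq_one h189
    rw [hg] at this
    omega
  obtain ⟨R0, hR0⟩ : ∃ R0 : Subgroup R, R0.index = 2 := by
    obtain ⟨k, -, hk⟩ := (Nat.dvd_prime_pow Nat.prime_two (m := 2)).1 hR4
    obtain ⟨j, rfl⟩ : ∃ j, k = j + 1 := ⟨k - 1, by
      rcases k with _ | k
      · rw [hk] at hRev; norm_num at hRev
      · rfl⟩
    obtain ⟨R0, hR0⟩ := Sylow.exists_subgroup_card_pow_prime (G := R) 2 (n := j) (hk ▸ pow_dvd_pow 2 (Nat.le_succ j))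
    refine ⟨R0, ?_⟩
    have := R0.card_mul_index
    rw [hR0, hk, pow_succ] at this
    exact Nat.eq_of_mul_eq_mul_left (by positivity) this
  set N0 := (R0.comap f).map N.subtype with hN0
  have hcard0 : Nat.card ↥N0 * 2 = 63 * M.index := by
    rw [hN0, Subgroup.card_map_of_injective N.subtype_injective, ← hR0, ← Subgroup.index_comap_of_surjective R0 hf,
      Subgroup.card_mul_index, hN]
  have hinf : M ⊓ N0 = M ⊓ N := by
    refine le_antisymm (inf_le_inf_left M (Subgroup.map_subtype_le _)) fun g hg => ⟨hg.1, ?_⟩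
    refine ⟨⟨g, hg.2⟩, ?_, rfl⟩
    show f ⟨g, hg.2⟩ ∈ R0
    have h63 : (⟨g, hg.2⟩ : ↥N) ^ 63 = 1 := by
      have h : (⟨⟨g, hg.2⟩, Subgroup.mem_subgroupOf.2 hg.1⟩ : ↥(M.subgroupOf N)) ^ 63 = 1 := by
        rw [← hNM]; exact pow_card_eq_one'
      exact congrArg Subtype.val h
    rw [SevenBound.eq_one_of_pows (g := f ⟨g, hg.2⟩) (a := 2) (b := 63) (hR2 _) (by rw [← map_pow, h63, map_one]) (by norm_num)]
    exact one_mem _
  have h630 : Nat.card ↥(M.subgroupOf N0) = 63 := by
    rw [← hNM, ← Subgroup.inf_subgroupOf_right M N, ← Subgroup.inf_subgroupOf_right M N0,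
      Nat.card_congr (Subgroup.subgroupOfEquivOfLe inf_le_right).toEquiv,
      Nat.card_congr (Subgroup.subgroupOfEquivOfLe inf_le_right).toEquiv, hinf]
  have hrel : M.relIndex N0 * 2 = M.index := by
    have := (M.subgroupOf N0).card_mul_index
    rw [h630] at this
    rw [← this, mul_assoc] at hcard0
    exact Nat.eq_of_mul_eq_mul_left (by norm_num) hcard0
  refine h (N0 ⊔ M) le_sup_right ?_
  have := Subgroup.relIndex_mul_index (le_sup_right : M ≤ N0 ⊔ M)
  rw [Subgroup.relIndex_sup_right, ← hrel] at this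
  refine Nat.eq_of_mul_eq_mul_left (Nat.pos_of_ne_zero fun e => ?_) this
  rw [e, zero_mul] at hrel
  exact Subgroup.index_ne_zero_of_finite hrel.symm

/-- Index four gives a complementing four-group. -/
theorem exists_four (h : M.index = 4) :
    ∃ S : Subgroup K, Nat.card ↥S = 4 ∧ S ⊓ M = ⊥ ∧ ∀ x ∈ S, x * x = 1 ∧ ∀ y ∈ S, x * y = y * x := by
  haveI : Fact (Nat.Prime 2) := ⟨Nat.prime_two⟩
  obtain ⟨N, R, _, _, f, _, hR2, _, hker, hN, hNM, _, _⟩ := c.sylow_data
  obtain ⟨S, hS⟩ := Sylow.exists_subgroup_card_pow_prime (G := ↥N) 2 (n := 2) (by rw [hN, h]; norm_num)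
  have hinj : ∀ g ∈ S, f g = 1 → g = 1 := fun g hg e => by
    have h4 : (⟨g, hg⟩ : ↥S) ^ 4 = 1 := by
      rw [show (4 : ℕ) = Nat.card ↥S by rw [hS]; norm_num]; exact pow_card_eq_one'
    exact SevenBound.eq_one_of_pows (a := 4) (b := 189) (congrArg Subtype.val h4) (hker g e) (by norm_num)
  refine ⟨S.map N.subtype, by rw [Subgroup.card_map_of_injective N.subtype_injective, hS]; norm_num, ?_, ?_⟩
  · refine (Subgroup.eq_bot_iff_forall _).2 ?_
    rintro _ ⟨⟨g, hg, rfl⟩, hgM⟩
    have h4 : (⟨g, hg⟩ : ↥S) ^ 4 = 1 := by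
      rw [show (4 : ℕ) = Nat.card ↥S by rw [hS]; norm_num]; exact pow_card_eq_one'
    have h63 : (⟨g, Subgroup.mem_subgroupOf.2 hgM⟩ : ↥(M.subgroupOf N)) ^ 63 = 1 := by
      rw [← hNM]; exact pow_card_eq_one'
    have := SevenBound.eq_one_of_pows (a := 4) (b := 63) (g := g) (congrArg Subtype.val h4)
      (congrArg Subtype.val h63) (by norm_num)
    rw [this, map_one]
  · rintro _ ⟨g, hg, rfl⟩
    refine ⟨?_, ?_⟩
    · rw [← map_mul, hinj (g * g) (mul_mem hg hg) (by rw [map_mul, ← pow_two, hR2]), map_one]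
    · rintro _ ⟨k, hk, rfl⟩
      rw [← map_mul, ← map_mul]
      refine congrArg _ ?_
      have := hinj (g * k * (k * g)⁻¹) (mul_mem (mul_mem hg hk) (inv_mem (mul_mem hk hg)))
        (by rw [map_mul, map_inv, map_mul, map_mul, mul_comm (f g), mul_inv_cancel])
      exact mul_inv_eq_one.1 this

end Gen

end CfsgLib.LargeFischer
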