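import Cfsg.Agent.Lib.InvolChar.LargeExtraChar

/-!
# Characters of order two of the centraliser: the orbits on which the central involution has value one

As `char_zero_of_index`, except that the cosets on which the character is one at the conjugate of the central
involution form a part whose sum is given.
-/

set_option autoImplicit false
set_option linter.style.haveILetI false
set_option linter.unusedSectionVars false
set_option linter.unusedVariables false

namespace CfsgLib.LargeFischer.CharSplit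

open Subgroup CfsgLib.InvolChar.OrbitTransfer CfsgLib.InvolChar.LargeExtraChar

variable {G : Type*} [Group G] [Finite G]

/-- The value at the conjugate attached to a coset only depends on the orbit. -/
theorem value_smul {z : G} {χ : G → ZMod 2} (hχ : Additive' (centralizer ({z} : Set G)) χ) {a : G}
    (ha : a ∈ centralizer ({z} : Set G)) {c : G ⧸ centralizer ({z} : Set G)}
    (hy : cj z c ∈ centralizer ({z} : Set G)) :
    χ ((a • c).out⁻¹ * z * (a • c).out) = χ (c.out⁻¹ * z * c.out) := by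
  have hu : c.out⁻¹ * z * c.out ∈ centralizer ({z} : Set G) := by
    refine mem_centralizer_singleton_iff.2 ?_
    have e : c.out * z * c.out⁻¹ * z = z * (c.out * z * c.out⁻¹) := mem_centralizer_singleton_iff.1 hy
    calc c.out⁻¹ * z * c.out * z = c.out⁻¹ * (z * (c.out * z * c.out⁻¹)) * c.out := by group
      _ = c.out⁻¹ * (c.out * z * c.out⁻¹ * z) * c.out := by rw [e]
      _ = z * (c.out⁻¹ * z * c.out) := by group
  have hh : (a * c.out)⁻¹ * (a • c).out ∈ centralizer ({z} : Set G) := by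
    rw [← QuotientGroup.eq, QuotientGroup.out_eq']
    conv_rhs => rw [← QuotientGroup.out_eq' c]
    rfl
  set h := (a * c.out)⁻¹ * (a • c).out with hdef
  have e1 : (a • c).out = a * c.out * h := by rw [hdef]; group
  have e2 : a⁻¹ * z * a = z := by
    rw [mul_assoc, ← mem_centralizer_singleton_iff.1 ha, inv_mul_cancel_left]
  rw [e1, show (a * c.out * h)⁻¹ * z * (a * c.out * h) = h⁻¹ * (c.out⁻¹ * (a⁻¹ * z * a) * c.out) * h⁻¹⁻¹ by group,
    e2, conj' hχ (inv_mem hh) hu]

theorem char_zero_split (hno : ∀ f : G →* Multiplicative (ZMod 2), ∀ g, f g = 1) {z : G} (hzz : z * z = 1) (hz1 : z ≠ 1)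
    (E : Subgroup G) (hEH : E ≤ centralizer ({z} : Set G))
    (hEn : ∀ h ∈ centralizer ({z} : Set G), ∀ e ∈ E, h * e * h⁻¹ ∈ E)
    (hext : Cfsg.IsExtraspecial 2 E) (hcent : centralizer (E : Set G) ≤ E)
    {χ : G → ZMod 2} (hχ : Additive' (centralizer ({z} : Set G)) χ)
    (hfour : ∀ c : G ⧸ centralizer ({z} : Set G), cj z c ≠ z → cj z c ∈ centralizer ({z} : Set G) →
      χ (c.out⁻¹ * z * c.out) = 0 →
      ∀ p ∈ E, p • c = c → χ (c.out⁻¹ * p * c.out) ≠ 0 → (MulAction.stabilizer E c).index ≠ 2)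
    {x : G} (hx : x ∈ centralizer ({z} : Set G)) [Fintype (G ⧸ centralizer ({z} : Set G))]
    (hT : ∀ S : Finset (G ⧸ centralizer ({z} : Set G)), (∀ c, c ∈ S ↔ cj z c ≠ z ∧
      cj z c ∈ centralizer ({z} : Set G) ∧ χ (c.out⁻¹ * z * c.out) = 1) →
      ∃ r : G ⧸ centralizer ({z} : Set G) → G, (∀ c, (r c : G ⧸ centralizer ({z} : Set G)) = c) ∧
        ∑ c ∈ S, kappa χ r x c = 0) :
    χ x = 0 := by
  classical
  haveI : Fact (Nat.Prime 2) := ⟨Nat.prime_two⟩
  set H := centralizer ({z} : Set G) with hH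
  have hzH : z ∈ H := mem_centralizer_singleton_iff.2 rfl
  have hzE : z ∈ E := hcent (mem_centralizer_iff.2 fun e he => mem_centralizer_singleton_iff.1 (hEH he))
  obtain ⟨w, hwc, -, hw⟩ := CfsgLib.LargeExtra.exists_centre_gen hext
  have hzcen : (⟨z, hzE⟩ : E) ∈ center E := mem_center_iff.2 fun e =>
    Subtype.ext (mem_centralizer_singleton_iff.1 (hEH e.2))
  have hcen : ∀ e : E, e ∈ center E → (e : G) = 1 ∨ (e : G) = z := by
    rcases hw _ hzcen with h | h
    · exact absurd (congrArg Subtype.val h) hz1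
    · intro e he
      rcases hw e he with h' | h'
      · exact Or.inl (congrArg Subtype.val h')
      · exact Or.inr (congrArg Subtype.val (h'.trans h.symm))
  have hsq : ∀ e ∈ E, e * e = 1 ∨ e * e = z := fun e he =>
    hcen _ (CfsgLib.LargeExtra.sq_mem_center hext ⟨e, he⟩)
  have hcm : ∀ a ∈ E, ∀ b ∈ E, a * b * a⁻¹ * b⁻¹ = 1 ∨ a * b * a⁻¹ * b⁻¹ = z := fun a ha b hb =>
    hcen _ (CfsgLib.LargeExtra.comm_mem_center hext ⟨a, ha⟩ ⟨b, hb⟩)
  have hCE : ∀ y : G, (∀ e ∈ E, y * e = e * y) → y = 1 ∨ y = z := by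
    intro y hy
    have hyE : y ∈ E := hcent (mem_centralizer_iff.2 fun e he => (hy e he).symm)
    exact hcen ⟨y, hyE⟩ (mem_center_iff.2 fun e => Subtype.ext (hy e e.2).symm)
  -- stabilizer values
  have hmemH : ∀ a, ∀ c : G ⧸ H, a • c = c → c.out⁻¹ * a * c.out ∈ H := fun a c hac => by
    rw [mul_assoc, ← QuotientGroup.eq, QuotientGroup.out_eq']
    conv_lhs => rw [← hac, ← QuotientGroup.out_eq' c]
    rfl
  have hyy : ∀ c : G ⧸ H, cj z c * cj z c = 1 := fun c => by
    show c.out * z * c.out⁻¹ * (c.out * z * c.out⁻¹) = 1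
    rw [show c.out * z * c.out⁻¹ * (c.out * z * c.out⁻¹) = c.out * (z * z) * c.out⁻¹ by group, hzz]
    group
  have hy1 : ∀ c : G ⧸ H, cj z c ≠ 1 := fun c h => hz1 (by
    have : z = c.out⁻¹ * (cj z c) * c.out := by unfold cj; group
    rw [this, h]; group)
  -- the three sets
  let S0 := Finset.univ.filter fun c : G ⧸ H => cj z c = z
  let S1 := Finset.univ.filter fun c : G ⧸ H => cj z c ≠ z ∧ cj z c ∈ H ∧ χ (c.out⁻¹ * z * c.out) = 0
  let S3 := Finset.univ.filter fun c : G ⧸ H => cj z c ≠ z ∧ cj z c ∈ H ∧ χ (c.out⁻¹ * z * c.out) = 1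
  let S2 := Finset.univ.filter fun c : G ⧸ H => cj z c ∉ H
  have hne : ∀ g : G, g ∈ H → ∀ c : G ⧸ H, (cj z (g • c) = z ↔ cj z c = z) ∧ (cj z (g • c) ∈ H ↔ cj z c ∈ H) := by
    intro g hg c
    rw [cj_smul]
    refine ⟨?_, ?_⟩
    · constructor
      · intro h
        have := congrArg (fun t => g⁻¹ * t * g) h
        rw [show g⁻¹ * (g * cj z c * g⁻¹) * g = cj z c by group, mul_assoc g⁻¹, ← mem_centralizer_singleton_iff.1 hg,
          inv_mul_cancel_left] at this
        exact this
      · intro h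
        rw [h, mem_centralizer_singleton_iff.1 hg, mul_inv_cancel_right]
    · exact ⟨fun h => by simpa [mul_assoc] using mul_mem (mul_mem (inv_mem hg) h) hg,
        fun h => mul_mem (mul_mem hg h) (inv_mem hg)⟩
  have hval : ∀ g : G, g ∈ H → ∀ c : G ⧸ H, cj z c ∈ H →
      χ ((g • c).out⁻¹ * z * (g • c).out) = χ (c.out⁻¹ * z * c.out) := fun g hg c hy => value_smul hχ hg hy
  have hmem1 : ∀ g : G, g ∈ H → ∀ c : G ⧸ H, (g • c ∈ S1 ↔ c ∈ S1) := by
    intro g hg c
    simp only [S1, Finset.mem_filter, Finset.mem_univ, true_and]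
    rw [Ne, Ne, (hne g hg c).1, (hne g hg c).2]
    refine and_congr_right fun _ => and_congr_right fun hy => ?_
    rw [hval g hg c hy]
  have hzpow : ∀ a, x * a * x⁻¹ ∈ zpowers z ↔ a ∈ zpowers z := by
    have hfix : ∀ g ∈ H, ∀ a ∈ zpowers z, g * a * g⁻¹ ∈ zpowers z := by
      intro g hg a ha
      obtain ⟨k, rfl⟩ := mem_zpowers_iff.1 ha
      rw [((show Commute g z from mem_centralizer_singleton_iff.1 hg).zpow_right k).eq, mul_inv_cancel_right]
      exact zpow_mem_zpowers z k
    exact fun a => ⟨fun h => by simpa [mul_assoc] using hfix x⁻¹ (inv_mem hx) _ h, hfix x hx a⟩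
  have hxE : ∀ a, x * a * x⁻¹ ∈ E ↔ a ∈ E := fun a =>
    ⟨fun h => by simpa [mul_assoc] using hEn x⁻¹ (inv_mem hx) _ h, hEn x hx a⟩
  -- the fixed points outside `H`
  obtain ⟨r2, hr2, hs2⟩ := exists_section hχ (x := x) (zpowers z) hzpow S2
    (fun a ha c hc => by
      simp only [S2, Finset.mem_filter, Finset.mem_univ, true_and] at hc ⊢
      rw [(hne a (zpowers_le.2 hzH ha) c).2]; exact hc)
    (fun c => by simp only [S2, Finset.mem_filter, Finset.mem_univ, true_and]; rw [(hne x hx c).2])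
    (fun _ _ => 0) (fun _ _ _ _ _ _ => (add_zero 0).symm)
    (fun c hc a ha hac => by
      simp only [S2, Finset.mem_filter, Finset.mem_univ, true_and] at hc
      obtain ⟨k, rfl⟩ := mem_zpowers_iff.1 ha
      have h2' : z ^ (2 : ℤ) = 1 := by rw [zpow_two]; exact hzz
      rcases Int.even_or_odd' k with ⟨j, rfl | rfl⟩
      · rw [zpow_mul, h2', one_zpow, mul_one, inv_mul_cancel, map_one' hχ]
      · refine absurd ?_ hc
        rw [zpow_add, zpow_mul, h2', one_zpow, one_mul, zpow_one] at hac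
        exact mem_centralizer_singleton_iff.2 ((smul_eq_iff_comm z c).1 hac).symm)
    (fun _ _ _ _ _ => rfl)
    (fun c hc => by
      simp only [S2, Finset.mem_filter, Finset.mem_univ, true_and] at hc
      have h1 : Nat.card (zpowers z) = 2 := by
        rw [Nat.card_zpowers]; exact orderOf_eq_prime (by rw [sq]; exact hzz) hz1
      rw [orb_card]
      have h3 := card_mul_index (MulAction.stabilizer (zpowers z) c)
      rw [h1] at h3
      rcases (Nat.dvd_prime Nat.prime_two).1 (Dvd.intro_left _ h3) with h | h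
      · exfalso
        refine hc (mem_centralizer_singleton_iff.2 ((smul_eq_iff_comm z c).1 ?_).symm)
        have hst : (⟨z, mem_zpowers z⟩ : zpowers z) ∈ MulAction.stabilizer (zpowers z) c := by
          rw [index_eq_one.1 h]; exact mem_top _
        exact hst
      · rw [h])
    (fun c _ a _ h => absurd rfl h)
  -- the fixed points in `H`
  have hω : ∀ c ∈ S1, ∃ ω : G → ZMod 2, (∀ a ∈ E, ∀ a' ∈ E, ω (a * a') = ω a + ω a') ∧
      (∀ a ∈ E, a • c = c → ω a = χ (c.out⁻¹ * a * c.out)) ∧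
      ((∀ a ∈ E, a • c = c → χ (c.out⁻¹ * a * c.out) = 0) → ∀ a ∈ E, ω a = 0) ∧
      2 ∣ Nat.card (orb E c) ∧
      (∀ a ∈ E, ω a ≠ 0 → 4 ∣ Nat.card (orb E c) ∧ ∀ b ∈ E, ∀ d ∈ orb E c, b • b • d = d) := by
    intro c hc
    simp only [S1, Finset.mem_filter, Finset.mem_univ, true_and] at hc
    obtain ⟨hyz, hyH, hv0⟩ := hc
    set y := cj z c
    have hzc : z • c = c := (smul_eq_iff_comm z c).2 (mem_centralizer_singleton_iff.1 hyH).symm
    set P := MulAction.stabilizer E c
    have hPmem : ∀ a : E, a ∈ P ↔ (a : G) * y = y * a := fun a => smul_eq_iff_comm (a : G) c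
    have hEc : Nat.card E = Nat.card P * P.index := (card_mul_index P).symm
    obtain ⟨k, hk⟩ : ∃ k, P.index = 2 ^ k := by
      obtain ⟨n, hn⟩ := (IsPGroup.iff_card.1 hext.1.1)
      have hd : P.index ∣ 2 ^ n := hn ▸ Dvd.intro_left _ (card_mul_index P)
      obtain ⟨k, -, hk⟩ := (Nat.dvd_prime_pow Nat.prime_two).1 hd
      exact ⟨k, hk⟩
    have hk0 : k ≠ 0 := by
      rintro rfl
      rw [pow_zero, index_eq_one] at hk
      rcases hCE y (fun e he => ((hPmem ⟨e, he⟩).1 (hk ▸ mem_top _)).symm) with h | h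
      · exact hy1 c h
      · exact hyz h
    have heven : 2 ∣ Nat.card (orb E c) := by rw [orb_card, hk]; exact dvd_pow_self 2 hk0
    by_cases hν : ∀ a ∈ E, a • c = c → χ (c.out⁻¹ * a * c.out) = 0
    · exact ⟨fun _ => 0, fun _ _ _ _ => (add_zero 0).symm, fun a ha hac => (hν a ha hac).symm,
        fun _ _ _ => rfl, heven, fun a _ h => absurd rfl h⟩
    push Not at hν
    obtain ⟨p, hpE, hpc, hp1⟩ := hν
    have hp1' : χ (c.out⁻¹ * p * c.out) = 1 :=
      (zmod2_cases _).resolve_left hp1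
    have hνmul : ∀ a b, a • c = c → b • c = c →
        χ (c.out⁻¹ * (a * b) * c.out) = χ (c.out⁻¹ * a * c.out) + χ (c.out⁻¹ * b * c.out) := by
      intro a b ha hb
      rw [← hχ _ (hmemH a c ha) _ (hmemH b c hb)]
      congr 1; group
    have hνz : χ (c.out⁻¹ * z * c.out) = 0 := hv0
    have hνinv : ∀ a, a • c = c → χ (c.out⁻¹ * a⁻¹ * c.out) = χ (c.out⁻¹ * a * c.out) := fun a ha => by
      rw [show c.out⁻¹ * a⁻¹ * c.out = (c.out⁻¹ * a * c.out)⁻¹ by group, map_inv' hχ (hmemH a c ha)]
    let P0 : Subgroup E :=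
      { carrier := {a | (a : G) • c = c ∧ χ (c.out⁻¹ * a * c.out) = 0}
        one_mem' := ⟨one_smul G c, by rw [OneMemClass.coe_one, mul_one, inv_mul_cancel, map_one' hχ]⟩
        mul_mem' := fun {a b} ha hb => ⟨by rw [Subgroup.coe_mul, mul_smul, hb.1, ha.1], by
          rw [Subgroup.coe_mul, hνmul _ _ ha.1 hb.1, ha.2, hb.2, add_zero]⟩
        inv_mem' := fun {a} ha => ⟨by rw [Subgroup.coe_inv, inv_smul_eq_iff, ha.1], by
          rw [Subgroup.coe_inv, hνinv _ ha.1, ha.2]⟩ }
    have hZP0 : center E ≤ P0 := by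
      intro e he
      rcases hcen e he with h | h
      · rw [show e = 1 from Subtype.ext h]; exact one_mem P0
      · exact ⟨by rw [h]; exact hzc, by rw [h]; exact hνz⟩
    set p' : E := ⟨p, hpE⟩
    obtain ⟨L, hP0L, hL⟩ := Finite.exists_le_maximal
      (p := fun L : Subgroup E => P0 ≤ L ∧ p' ∉ L) (a := P0) ⟨le_rfl, fun h => hp1 h.2⟩
    haveI : L.Normal := ⟨fun m hm g => by
      rw [show g * m * g⁻¹ = (g * m * g⁻¹ * m⁻¹) * m by group]
      exact mul_mem (hP0L (hZP0 (CfsgLib.LargeExtra.comm_mem_center hext g m))) hm⟩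
    have hout : ∀ a, a ∉ L → p'⁻¹ * a ∈ L := by
      intro a ha
      have hp : p' ∈ L ⊔ zpowers a := by
        by_contra hno
        exact ha (hL.2 ⟨hP0L.trans le_sup_left, hno⟩ le_sup_left (mem_sup_right (mem_zpowers a)))
      obtain ⟨l, hl, b, hb, e⟩ := mem_sup_of_normal_left.1 hp
      obtain ⟨i, rfl⟩ := mem_zpowers_iff.1 hb
      have h2' : a ^ (2 : ℤ) ∈ L := by
        rw [zpow_two]; exact hP0L (hZP0 (CfsgLib.LargeExtra.sq_mem_center hext a))
      rcases Int.even_or_odd' i with ⟨j, rfl | rfl⟩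
      · exact absurd (e ▸ mul_mem hl (by rw [zpow_mul]; exact zpow_mem h2' j)) hL.1.2
      · have e' : p' = (l * (a ^ (2 : ℤ)) ^ j) * a := by
          rw [← e, zpow_add, zpow_mul, zpow_one, mul_assoc]
        have hm : l * (a ^ (2 : ℤ)) ^ j ∈ L := mul_mem hl (zpow_mem h2' j)
        generalize l * (a ^ (2 : ℤ)) ^ j = m at e' hm
        rw [e', _root_.mul_inv_rev]
        simpa using (inferInstance : L.Normal).conj_mem _ (inv_mem hm) a⁻¹
    have hLP : ∀ a : E, (a : G) • c = c → (a ∈ L ↔ χ (c.out⁻¹ * a * c.out) = 0) := by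
      intro a hac
      refine ⟨fun haL => ?_, fun h => hP0L ⟨hac, h⟩⟩
      by_contra h
      have h' := (zmod2_cases _).resolve_left h
      have hq : a⁻¹ * p' ∈ P0 := ⟨by
          rw [Subgroup.coe_mul, mul_smul, Subgroup.coe_inv, hpc, inv_smul_eq_iff, hac], by
          rw [Subgroup.coe_mul, Subgroup.coe_inv, hνmul _ _ (by rw [inv_smul_eq_iff, hac]) hpc, hνinv _ hac, h', hp1']
          exact zmod2_one_add⟩
      exact hL.1.2 (by simpa using mul_mem haL (hP0L hq))
    refine ⟨fun a => if h : a ∈ E then (if (⟨a, h⟩ : E) ∈ L then 0 else 1) else 0, ?_, ?_, ?_, heven, ?_⟩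
    · intro a ha a' ha'
      simp only [dif_pos ha, dif_pos ha', dif_pos (mul_mem ha ha')]
      rw [show (⟨a * a', mul_mem ha ha'⟩ : E) = (⟨a, ha⟩ : E) * ⟨a', ha'⟩ from rfl]
      by_cases h : (⟨a, ha⟩ : E) ∈ L
      · simp only [mul_mem_cancel_left h, if_pos h, zero_add]
      · by_cases h' : (⟨a', ha'⟩ : E) ∈ L
        · simp only [mul_mem_cancel_right h', if_pos h', if_neg h, add_zero]
        · have hm : (⟨a, ha⟩ : E) * ⟨a', ha'⟩ ∈ L := by
            have h3 := (inferInstance : L.Normal).conj_mem _ (hout _ h) p'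
            rw [mul_inv_cancel_left] at h3
            have := mul_mem (mul_mem h3 (hP0L (hZP0 (CfsgLib.LargeExtra.sq_mem_center hext p')))) (hout _ h')
            simpa [mul_assoc] using this
          simp only [if_neg h, if_neg h', if_pos hm]
          exact zmod2_one_add.symm
    · intro a ha hac
      simp only [dif_pos ha]
      have := hLP ⟨a, ha⟩ hac
      split_ifs with h
      · exact (this.1 h).symm
      · exact ((zmod2_cases _).resolve_left (mt this.2 h)).symm
    · intro h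
      exact absurd (h p hpE hpc) hp1
    intro a _ _
    refine ⟨?_, fun b hb d hd => ?_⟩
    · rw [orb_card, hk]
      rcases Nat.lt_or_ge k 2 with hk2 | hk2
      · exfalso
        have hk1 : k = 1 := by omega
        subst hk1
        exact hfour c hyz hyH hv0 p hpE hpc hp1 (by rw [← pow_one 2]; exact hk)
      · exact (pow_dvd_pow 2 hk2 :)
    · rw [smul_smul]
      obtain ⟨a', ha', rfl⟩ := hd
      rcases hsq b hb with h | h <;> rw [h]
      · exact one_smul G _
      · rw [smul_smul, ← mem_centralizer_singleton_iff.1 (hEH ha'), mul_smul, hzc]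
  choose! ω hω1 hω2 hω3 hω4 hω5 using hω
  obtain ⟨r1, hr1, hs1⟩ := exists_section hχ (x := x) E hxE S1
    (fun a ha c hc => (hmem1 a (hEH ha) c).2 hc)
    (fun c => hmem1 x hx c)
    ω hω1 hω2 hω3 hω4 hω5
  -- combine
  obtain ⟨r3, hr3, hs3⟩ := hT S3 fun c => by simp only [S3, Finset.mem_filter, Finset.mem_univ, true_and]; rfl
  let r : G ⧸ H → G := fun c => if c ∈ S1 then r1 c else if c ∈ S2 then r2 c else if c ∈ S3 then r3 c else c.out
  have hr : ∀ c, (r c : G ⧸ H) = c := fun c => by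
    simp only [r]
    split_ifs
    · exact hr1 c
    · exact hr2 c
    · exact hr3 c
    · exact QuotientGroup.out_eq' c
  have htot := sum_kappa_eq_zero hno hχ hr x
  have hk1 : ∑ c ∈ S1, kappa χ r x c = 0 := by
    rw [← hs1]
    refine Finset.sum_congr rfl fun c hc => ?_
    have hxc : x • c ∈ S1 := (hmem1 x hx c).2 hc
    simp only [kappa, r, if_pos hc, if_pos hxc]
  have hk2 : ∑ c ∈ S2, kappa χ r x c = 0 := by
    rw [← hs2]
    refine Finset.sum_congr rfl fun c hc => ?_
    have hxc : x • c ∈ S2 := by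
      simp only [S2, Finset.mem_filter, Finset.mem_univ, true_and] at hc ⊢
      rw [(hne x hx c).2]; exact hc
    have hn1 : ∀ d ∈ S2, d ∉ S1 := fun d hd hd' => by
      simp only [S1, S2, Finset.mem_filter, Finset.mem_univ, true_and] at hd hd'
      exact hd hd'.2.1
    simp only [kappa, r, if_neg (hn1 c hc), if_neg (hn1 _ hxc), if_pos hc, if_pos hxc]
  have hk3 : ∑ c ∈ S3, kappa χ r x c = 0 := by
    rw [← hs3]
    refine Finset.sum_congr rfl fun c hc => ?_
    have hxc : x • c ∈ S3 := by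
      simp only [S3, Finset.mem_filter, Finset.mem_univ, true_and] at hc ⊢
      rw [(hne x hx c).2, Ne, (hne x hx c).1, hval x hx c hc.2.1]; exact hc
    have hn1 : ∀ d ∈ S3, d ∉ S1 ∧ d ∉ S2 := fun d hd => by
      simp only [S1, S2, S3, Finset.mem_filter, Finset.mem_univ, true_and] at hd ⊢
      exact ⟨fun h => zero_ne_one (h.2.2.symm.trans hd.2.2), fun h => h hd.2.1⟩
    simp only [kappa, r, if_neg (hn1 c hc).1, if_neg (hn1 _ hxc).1, if_neg (hn1 c hc).2, if_neg (hn1 _ hxc).2,
      if_pos hc, if_pos hxc]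
  have hS0 : S0 = {((1 : G) : G ⧸ H)} := by
    ext c
    simp only [S0, Finset.mem_filter, Finset.mem_univ, true_and, Finset.mem_singleton]
    constructor
    · intro h
      rw [← QuotientGroup.out_eq' c, QuotientGroup.eq, mul_one, inv_mem_iff, mem_centralizer_singleton_iff]
      exact mul_inv_eq_iff_eq_mul.1 h
    · intro h
      have hm : c.out ∈ H := by
        rw [← inv_mem_iff, ← mul_one c.out⁻¹, ← QuotientGroup.eq, QuotientGroup.out_eq', h]
      show c.out * z * c.out⁻¹ = z
      rw [mem_centralizer_singleton_iff.1 hm, mul_inv_cancel_right]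
  have huniv : ∑ c, kappa χ r x c = ∑ c ∈ S0, kappa χ r x c +
      ((∑ c ∈ S1, kappa χ r x c + ∑ c ∈ S2, kappa χ r x c) + ∑ c ∈ S3, kappa χ r x c) := by
    have e : ∀ c : G ⧸ H, kappa χ r x c = (if c ∈ S0 then kappa χ r x c else 0) +
        (((if c ∈ S1 then kappa χ r x c else 0) + (if c ∈ S2 then kappa χ r x c else 0)) +
          (if c ∈ S3 then kappa χ r x c else 0)) := by
      intro c
      have hc4 : c ∈ S0 ∨ c ∈ S1 ∨ c ∈ S2 ∨ c ∈ S3 := by
        simp only [S0, S1, S2, S3, Finset.mem_filter, Finset.mem_univ, true_and]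
        by_cases h0 : cj z c = z
        · exact .inl h0
        · by_cases h1 : cj z c ∈ H
          · rcases zmod2_cases (χ (c.out⁻¹ * z * c.out)) with h2 | h2
            · exact .inr (.inl ⟨h0, h1, h2⟩)
            · exact .inr (.inr (.inr ⟨h0, h1, h2⟩))
          · exact .inr (.inr (.inl h1))
      simp only [S0, S1, S2, S3, Finset.mem_filter, Finset.mem_univ, true_and] at hc4 ⊢
      rcases hc4 with h | h | h | h
      · rw [if_pos h, if_neg (fun h' => h'.1 h), if_neg (fun h' => h' (by rw [h]; exact hzH)),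
          if_neg (fun h' => h'.1 h)]; simp
      · rw [if_neg h.1, if_pos h, if_neg (fun h' => h' h.2.1),
          if_neg (fun h' => zero_ne_one (h.2.2.symm.trans h'.2.2))]; simp
      · rw [if_neg (fun h' => h (by rw [h']; exact hzH)), if_neg (fun h' => h h'.2.1), if_pos h,
          if_neg (fun h' => h h'.2.1)]; simp
      · rw [if_neg h.1, if_neg (fun h' => zero_ne_one (h'.2.2.symm.trans h.2.2)), if_neg (fun h' => h' h.2.1),
          if_pos h]; simp
    rw [Finset.sum_congr rfl fun c _ => e c, Finset.sum_add_distrib, Finset.sum_add_distrib, Finset.sum_add_distrib]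
    simp only [Finset.sum_ite_mem, Finset.univ_inter]
  rw [huniv, hk1, hk2, hk3, add_zero, add_zero, add_zero, hS0, Finset.sum_singleton] at htot
  set c0 := ((1 : G) : G ⧸ H)
  have hxc0 : x • c0 = c0 := by
    show ((x * 1 : G) : G ⧸ H) = _
    rw [QuotientGroup.eq]
    simpa using inv_mem hx
  have hrH : r c0 ∈ H := by
    have := QuotientGroup.eq.1 (hr c0)
    simpa using this
  rw [kappa, hxc0] at htot
  rw [← conj' hχ (inv_mem hrH) hx, inv_inv]
  exact htot

end CfsgLib.LargeFischer.CharSplit
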