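import Cfsg.Agent.Lib.LargeFischer.U43Norm
import Cfsg.Agent.Lib.Cores.Basic

/-!
# A Sylow two-subgroup of the unitary group of dimension four over nine elements has a large Frattini subgroup
-/

set_option autoImplicit false
set_option linter.style.haveILetI false
set_option maxRecDepth 20000

namespace CfsgLib.LargeFischer.U43

open CfsgLib.Schur.Tails.UFour (H4)

/-- A group generated by three elements with squares and commutators in a subgroup of order two is small. -/
theorem card_three {S : Type*} [Group S] [Finite S] {y : S} (hy : y * y = 1)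
    (hsq : ∀ a : S, a * a = 1 ∨ a * a = y) (hcm : ∀ a b : S, a * b * a⁻¹ * b⁻¹ = 1 ∨ a * b * a⁻¹ * b⁻¹ = y)
    {g₀ g₁ g₂ : S} (hgen : Subgroup.closure ({g₀, g₁, g₂} : Set S) = ⊤) : Nat.card S ≤ 16 := by
  have hYmem : ∀ w, w ∈ Subgroup.zpowers y → w = 1 ∨ w = y := by
    intro w hw
    obtain ⟨i, rfl⟩ := Subgroup.mem_zpowers_iff.1 hw
    have h2 : y ^ (2 : ℤ) = 1 := by rw [zpow_two]; exact hy
    rcases Int.even_or_odd' i with ⟨j, rfl | rfl⟩
    · exact .inl (by rw [zpow_mul, h2, one_zpow])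
    · exact .inr (by rw [zpow_add, zpow_mul, h2, one_zpow, one_mul, zpow_one])
  haveI hn : (Subgroup.zpowers y).Normal := ⟨fun w hw a => by
    have e : a * w * a⁻¹ = (a * w * a⁻¹ * w⁻¹) * w := by group
    rw [e]
    refine mul_mem ?_ hw
    rcases hcm a w with h | h <;> rw [h]
    · exact one_mem _
    · exact Subgroup.mem_zpowers y⟩
  let A := S ⧸ Subgroup.zpowers y
  have hsqA : ∀ a : A, a * a = 1 := by
    intro a
    obtain ⟨a, rfl⟩ := QuotientGroup.mk_surjective a
    rw [← QuotientGroup.mk_mul, QuotientGroup.eq_one_iff]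
    rcases hsq a with h | h <;> rw [h]
    · exact one_mem _
    · exact Subgroup.mem_zpowers y
  have hcomm : ∀ a b : A, a * b = b * a := fun a b => by
    calc a * b = (b * b) * (a * b) * (a * a) := by rw [hsqA, hsqA, one_mul, mul_one]
      _ = b * ((b * a) * (b * a)) * a := by group
      _ = b * a := by rw [hsqA, mul_one]
  have hnorm : ∀ B : Subgroup A, B.Normal := fun B => ⟨fun b hb a => by rwa [hcomm a, mul_inv_cancel_right]⟩
  let mk := QuotientGroup.mk' (Subgroup.zpowers y)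
  have hcz : ∀ a : A, Nat.card ↥(Subgroup.zpowers a) ≤ 2 := fun a => by
    rw [Nat.card_zpowers]
    exact Nat.le_of_dvd (by norm_num) (orderOf_dvd_of_pow_eq_one (by rw [pow_two]; exact hsqA a))
  have htop : Subgroup.zpowers (mk g₀) ⊔ Subgroup.zpowers (mk g₁) ⊔ Subgroup.zpowers (mk g₂) = ⊤ := by
    refine top_le_iff.1 fun w _ => ?_
    obtain ⟨a, rfl⟩ := QuotientGroup.mk'_surjective _ w
    have hle : Subgroup.closure ({g₀, g₁, g₂} : Set S) ≤
        (Subgroup.zpowers (mk g₀) ⊔ Subgroup.zpowers (mk g₁) ⊔ Subgroup.zpowers (mk g₂)).comap mk := by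
      rw [Subgroup.closure_le]
      rintro b (rfl | rfl | rfl)
      · exact Subgroup.mem_sup_left (Subgroup.mem_sup_left (Subgroup.mem_zpowers _))
      · exact Subgroup.mem_sup_left (Subgroup.mem_sup_right (Subgroup.mem_zpowers _))
      · exact Subgroup.mem_sup_right (Subgroup.mem_zpowers _)
    exact hle (hgen ▸ Subgroup.mem_top a)
  haveI := hnorm (Subgroup.zpowers (mk g₀))
  haveI := hnorm (Subgroup.zpowers (mk g₀) ⊔ Subgroup.zpowers (mk g₁))
  have h2 := Nat.le_of_dvd (Nat.mul_pos Nat.card_pos Nat.card_pos)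
    (CfsgLib.Cores.card_sup_dvd_mul (Subgroup.zpowers (mk g₀) ⊔ Subgroup.zpowers (mk g₁)) (Subgroup.zpowers (mk g₂)))
  have h1 := Nat.le_of_dvd (Nat.mul_pos Nat.card_pos Nat.card_pos)
    (CfsgLib.Cores.card_sup_dvd_mul (Subgroup.zpowers (mk g₀)) (Subgroup.zpowers (mk g₁)))
  rw [htop, Subgroup.card_top] at h2
  have h8 : Nat.card A ≤ 8 := by
    have := hcz (mk g₀); have := hcz (mk g₁); have := hcz (mk g₂)
    nlinarith
  have hy2 : Nat.card ↥(Subgroup.zpowers y) ≤ 2 := by
    rw [Nat.card_zpowers]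
    exact Nat.le_of_dvd (by norm_num) (orderOf_dvd_of_pow_eq_one (by rw [pow_two]; exact hy))
  rw [Subgroup.card_eq_card_quotient_mul_card_subgroup (Subgroup.zpowers y)]
  nlinarith

/-- There is no two-subgroup of full order with squares and commutators in a subgroup of order two. -/
theorem no_small_frattini {S : Subgroup ↥H4} (hS : Nat.card ↥S = 128) {y : ↥H4} (hyS : y ∈ S) (hy : y * y = 1)
    (hsq : ∀ a ∈ S, a * a = 1 ∨ a * a = y)
    (hcm : ∀ a ∈ S, ∀ b ∈ S, a * b * a⁻¹ * b⁻¹ = 1 ∨ a * b * a⁻¹ * b⁻¹ = y) : False := by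
  obtain ⟨g, hg⟩ := exists_conj_le (E := S) (IsPGroup.of_card (n := 7) (by rw [hS]; norm_num))
  have he : S.map (MulAut.conj g).toMonoidHom = TG := Subgroup.eq_of_le_of_card_ge hg (by
    rw [Subgroup.card_map_of_injective (MulEquiv.injective _), hS, card_TG])
  let θ : ↥S →* ↥H4 := (MulAut.conj g).toMonoidHom.comp S.subtype
  have hθ : θ.range = TG := by rw [MonoidHom.range_comp, Subgroup.range_subtype, he]
  have hgm : ∀ k, k < 3 → ∃ a : ↥S, θ a = E_ (tGens.getD k 0) := fun k hk => by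
    show _ ∈ θ.range
    rw [hθ, TG]
    exact Subgroup.subset_closure ⟨k, hk, rfl⟩
  obtain ⟨a₀, h₀⟩ := hgm 0 (by norm_num)
  obtain ⟨a₁, h₁⟩ := hgm 1 (by norm_num)
  obtain ⟨a₂, h₂⟩ := hgm 2 (by norm_num)
  have hinj : Function.Injective θ := fun a b h => Subtype.ext ((MulAut.conj g).injective h)
  have hgen : Subgroup.closure ({a₀, a₁, a₂} : Set ↥S) = ⊤ := by
    refine Subgroup.map_injective hinj ?_
    rw [MonoidHom.map_closure, ← MonoidHom.range_eq_map, hθ, Set.image_insert_eq, Set.image_pair, h₀, h₁, h₂, TG]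
    congr 1
    ext σ
    constructor
    · rintro (rfl | rfl | rfl)
      exacts [⟨0, by norm_num, rfl⟩, ⟨1, by norm_num, rfl⟩, ⟨2, by norm_num, rfl⟩]
    · rintro ⟨k, hk, rfl⟩
      interval_cases k <;> simp
  have h := card_three (y := (⟨y, hyS⟩ : ↥S)) (Subtype.ext hy)
    (fun a => (hsq a a.2).imp Subtype.ext Subtype.ext)
    (fun a b => (hcm a a.2 b b.2).imp Subtype.ext Subtype.ext) hgen
  omega

end CfsgLib.LargeFischer.U43
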