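import Cfsg.Agent.Lib.LargeFischer.General.Sub
import Cfsg.Agent.Lib.LargeFischer.General.Small

/-!
# A weakly closed central involution is isolated

`u` is a conjugate of `z` centralising `z`. Conjugating back, the part of `Q` centralising `u` maps into the
centraliser modulo `Q` with kernel its intersection with the conjugate of `Q`, and weak closure makes this
intersection small, so that the image is a two-subgroup of the unitary group with tiny Frattini subgroup.
-/

set_option autoImplicit false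
set_option linter.unusedSectionVars false
set_option linter.style.haveILetI false
set_option maxHeartbeats 1000000
set_option linter.unusedSimpArgs false

namespace CfsgLib.LargeFischer.GModel

open Subgroup QuadraticMap
open CfsgLib.Schur.Tails.UFour (H4 card_H4)

variable {G : Type*} [Group G] [Finite G] {z : G} {Q : Subgroup (centralizer ({z} : Set G))} [Q.Normal]
  {V : Type*} [AddCommGroup V] [Module (ZMod 2) V] [DistribMulAction ((centralizer ({z} : Set G)) ⧸ Q) V] [Finite V]
  {q : QuadraticForm (ZMod 2) V} {π : ↥Q → V} {n : (centralizer ({z} : Set G)) ⧸ Q}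
  {M : Subgroup ((centralizer ({z} : Set G)) ⧸ Q)} {φ : ↥M →* ↥H4} (m : GModel z Q q π n M φ)

set_option quotPrecheck false
local notation "CC" => (centralizer ({z} : Set G))

include m

theorem isolated (hfree : ∀ v : V, n • v = v → v = 0) (hz : orderOf z = 2) (hS : Cfsg.IsExtraspecial 2 Q)
    (hB : ∀ (g : G) (b : centralizer ({z} : Set G)),
      g⁻¹ * (b : G) * g ∈ Q.map (centralizer ({z} : Set G)).subtype →
      (QuotientGroup.mk b : (centralizer ({z} : Set G)) ⧸ Q) ∈ M)
    (hweak : ∀ g : G, g * z * g⁻¹ ∈ Q.map (centralizer ({z} : Set G)).subtype → g * z * g⁻¹ = z)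
    (hzQ : z ∈ Q.map (centralizer ({z} : Set G)).subtype)
    (h : G) (hu : h * z * h⁻¹ ∈ centralizer ({z} : Set G)) : h * z * h⁻¹ = z := by
  classical
  set Qg := Q.map (Subgroup.subtype CC) with hQg
  by_contra hne
  set u := h * z * h⁻¹ with hudef
  clear_value u
  obtain ⟨hzz, hz1⟩ := m.z_sq hz
  have hQmem : ∀ a : ↥Q, ((a : CC) : G) ∈ Qg := fun a => ⟨_, a.2, rfl⟩
  have hmemQg : ∀ {y : G}, y ∈ Qg → ∃ a : ↥Q, ((a : CC) : G) = y := by
    rintro _ ⟨a, ha, rfl⟩
    exact ⟨⟨a, ha⟩, rfl⟩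
  obtain ⟨zQ, hzQe⟩ := hmemQg hzQ
  have huQ : u ∉ Qg := fun e => hne (hudef.trans (hweak h (hudef ▸ e)))
  have huz : u * z = z * u := mem_centralizer_singleton_iff.1 hu
  have huu : u * u = 1 := by
    rw [hudef, show h * z * h⁻¹ * (h * z * h⁻¹) = h * (z * z) * h⁻¹ by group, hzz, mul_one, mul_inv_cancel]
  -- the image of `u`
  set uc : CC := ⟨u, hu⟩ with huc
  set ū : CC ⧸ Q := QuotientGroup.mk uc with hubar
  have huM : ū ∈ M := hB h uc (by
    show h⁻¹ * u * h ∈ Qg
    rw [hudef, show h⁻¹ * (h * z * h⁻¹) * h = z by group]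
    exact hzQ)
  have hun : ū * n = n * ū := m.gen.commute huM
  have hu2 : ū * ū = 1 := by
    rw [hubar, ← QuotientGroup.mk_mul, show uc * uc = 1 from Subtype.ext huu, QuotientGroup.mk_one]
  have hu1 : ū ≠ 1 := fun e => huQ ⟨uc, (QuotientGroup.eq_one_iff uc).1 e, rfl⟩
  obtain ⟨k, hk3, hk5, hkC, hkW⟩ := Gen.linear_cases m.gen hfree hu2 hu1 hun
  set CV := fixOne (V := V) ū with hCV
  set W := (moveHom (V := V) ū).range with hW
  -- the other frame
  have hR : ∀ y : G, h⁻¹ * y * h ∈ Qg → y * u = u * y := by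
    intro y hy
    obtain ⟨a, ha⟩ := hmemQg hy
    have h1 := m.z_comm (a : CC)
    rw [ha] at h1
    calc y * u = h * ((h⁻¹ * y * h) * z) * h⁻¹ := by rw [hudef]; group
      _ = u * y := by rw [h1, hudef]; group
  have hweakR : ∀ g : G, h⁻¹ * (g * z * g⁻¹) * h ∈ Qg → g * z * g⁻¹ = u := by
    intro g hg
    have h1 := hweak (h⁻¹ * g) (by
      rw [show h⁻¹ * g * z * (h⁻¹ * g)⁻¹ = h⁻¹ * (g * z * g⁻¹) * h by group]; exact hg)
    rw [show h⁻¹ * g * z * (h⁻¹ * g)⁻¹ = h⁻¹ * (g * z * g⁻¹) * h by group] at h1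
    calc g * z * g⁻¹ = h * (h⁻¹ * (g * z * g⁻¹) * h) * h⁻¹ := by group
      _ = u := by rw [h1, hudef]
  have hzR : ¬ h⁻¹ * z * h ∈ Qg := by
    intro e
    have h1 := hweakR 1 (by simpa using e)
    exact hne (by simpa using h1.symm)
  -- the part of `Q` centralising `u`
  let P : Subgroup ↥Q := (centralizer ({u} : Set G)).comap ((Subgroup.subtype CC).comp Q.subtype)
  have hPiff : ∀ {a : ↥Q}, a ∈ P ↔ ((a : CC) : G) * u = u * ((a : CC) : G) := fun {a} =>
    mem_centralizer_singleton_iff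
  have hzP : zQ ∈ P := hPiff.2 (by rw [hzQe]; exact huz.symm)
  let D : Subgroup ↥Q := Qg.comap ((MulAut.conj h⁻¹).toMonoidHom.comp ((Subgroup.subtype CC).comp Q.subtype))
  have hDiff : ∀ {a : ↥Q}, a ∈ D ↔ h⁻¹ * ((a : CC) : G) * h ∈ Qg := fun {a} => by
    show (MulAut.conj h⁻¹) ((a : CC) : G) ∈ Qg ↔ _
    simp [MulAut.conj_apply]
  have hDP : D ≤ P := fun a ha => hPiff.2 (hR _ (hDiff.1 ha))
  have hzD : zQ ∉ D := fun e => hzR (by rw [← hzQe]; exact hDiff.1 e)
  -- `D` is injected by the chart and centralises `P`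
  have hD0 : ∀ {d : ↥Q}, d ∈ D → π d = 0 → d = 1 := by
    intro d hd h0
    rcases (m.ker d).1 h0 with e | e
    · exact Subtype.ext (Subtype.ext e)
    · exact absurd hd (by rw [show d = zQ from Subtype.ext (Subtype.ext (e.trans hzQe.symm))]; exact hzD)
  have hcentQ : ∀ a b : ↥Q, π (a * b * a⁻¹ * b⁻¹) = 0 := fun a b => by
    rw [m.pi_mul, m.pi_mul, m.pi_mul, m.pi_inv, m.pi_inv,
      show π a + π b + π a + π b = (π a + π a) + (π b + π b) by abel, vadd_self, vadd_self, add_zero]
  have hQn : ∀ c : CC, ∀ y ∈ Qg, (c : G) * y * (c : G)⁻¹ ∈ Qg := fun c y hy => by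
    obtain ⟨a, ha, rfl⟩ := hy
    exact ⟨c * a * c⁻¹, (inferInstance : Q.Normal).conj_mem a ha c, rfl⟩
  have hPn : ∀ a : ↥Q, a ∈ P → ∀ d ∈ D, a * d * a⁻¹ ∈ D := by
    intro a ha d hd
    have hc : h⁻¹ * ((a : CC) : G) * h ∈ CC := mem_centralizer_singleton_iff.2 (by
      have h1 := hPiff.1 ha
      rw [hudef] at h1
      calc h⁻¹ * ((a : CC) : G) * h * z = h⁻¹ * (((a : CC) : G) * (h * z * h⁻¹)) * h := by group
        _ = h⁻¹ * ((h * z * h⁻¹) * ((a : CC) : G)) * h := by rw [h1]
        _ = z * (h⁻¹ * ((a : CC) : G) * h) := by group)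
    refine hDiff.2 ?_
    have h2 := hQn ⟨_, hc⟩ _ (hDiff.1 hd)
    convert h2 using 1
    simp only [Subgroup.coe_mul, Subgroup.coe_inv]
    group
  have hDcomm : ∀ a ∈ P, ∀ d ∈ D, ((a : CC) : G) * ((d : CC) : G) = ((d : CC) : G) * ((a : CC) : G) := by
    intro a ha d hd
    have h1 := hD0 (mul_mem (hPn a ha d hd) (inv_mem hd)) (hcentQ a d)
    rw [mul_inv_eq_one, mul_inv_eq_iff_eq_mul] at h1
    exact congrArg (fun t : ↥Q => ((t : CC) : G)) h1
  -- conjugates of `u` by elements of `Q`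
  have hconj : ∀ a : ↥Q, ((a : CC) : G) * u * ((a : CC) : G)⁻¹ =
      u * (((MulAut.conjNormal uc a * a⁻¹ : ↥Q) : CC) : G) := by
    intro a
    have : (((MulAut.conjNormal uc a * a⁻¹ : ↥Q) : CC) : G) = u * ((a : CC) : G) * u⁻¹ * ((a : CC) : G)⁻¹ := by
      simp [MulAut.conjNormal_apply, huc]
    rw [this, inv_eq_of_mul_eq_one_right huu]
    simp only [← mul_assoc, huu, one_mul]
  have hconjw : ∀ a d : ↥Q, d ∈ D → ((a : CC) : G) * u * ((a : CC) : G)⁻¹ = u * ((d : CC) : G) → d = 1 := by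
    intro a d hd e
    have h1 := hweakR (((a : CC) : G) * h) (by
      rw [show ((a : CC) : G) * h * z * (((a : CC) : G) * h)⁻¹ = ((a : CC) : G) * u * ((a : CC) : G)⁻¹ by
        rw [hudef]; group, e,
        show h⁻¹ * (u * ((d : CC) : G)) * h = (h⁻¹ * u * h) * (h⁻¹ * ((d : CC) : G) * h) by group]
      refine mul_mem ?_ (hDiff.1 hd)
      rw [hudef, show h⁻¹ * (h * z * h⁻¹) * h = z by group]
      exact hzQ)
    rw [show ((a : CC) : G) * h * z * (((a : CC) : G) * h)⁻¹ = ((a : CC) : G) * u * ((a : CC) : G)⁻¹ by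
        rw [hudef]; group, e] at h1
    exact Subtype.ext (Subtype.ext (mul_left_cancel (h1.trans (mul_one u).symm)))
  -- a vector of `W` in the image of `D`
  have hlift : ∀ d ∈ D, π d ∈ W → d ≠ 1 → ∃ e : ↥Q,
      ((e : CC) : G) * u * ((e : CC) : G)⁻¹ = u * (((d : CC) : G) * z) := by
    intro d hd hdW hd1
    obtain ⟨v, hv⟩ := hdW
    obtain ⟨e, rfl⟩ := m.surj v
    rw [m.move_eq] at hv
    refine ⟨e, ?_⟩
    rcases m.pi_eq hv.symm with h1 | h1
    · exfalso
      exact hd1 (hconjw e d hd (by rw [hconj, h1]))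
    · rw [hconj, h1]
  have hperpW : ∀ {a : ↥Q} {v : V}, ū • π a = π a → v ∈ W → polar q v (π a) = 0 := fun {a v} ha hv =>
    Gen.move_fix_perp m.gen hfree hv ha
  have hPfix : ∀ a ∈ P, ū • π a = π a := fun a ha => (m.fixed_iff uc a).2 (.inl (by
    show u * ((a : CC) : G) * u⁻¹ = _
    rw [← hPiff.1 ha, mul_inv_cancel_right]))
  have hzc : ∀ a : ↥Q, ((a : CC) : G) * z = z * ((a : CC) : G) := fun a => m.z_comm (a : CC)
  set Ā := m.img P with hA
  set Db := m.img D with hDbar
  have hAC : Ā ≤ CV := by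
    rintro _ ⟨a, ha, rfl⟩
    exact hPfix a ha
  have hDA : Db ≤ perpSub q Ā := by
    rintro _ ⟨d, hd, rfl⟩ _ ⟨a, ha, rfl⟩
    exact m.perp_of_comm (hDcomm a ha d hd).symm
  have hDcard : Nat.card ↥D = Nat.card ↥Db := by
    refine Nat.card_congr (Equiv.ofBijective (fun d => (⟨π (d : ↥Q), _, d.2, rfl⟩ : ↥Db)) ⟨?_, ?_⟩)
    · intro d d' e
      have e' : π (d : ↥Q) = π (d' : ↥Q) := congrArg Subtype.val e
      refine Subtype.ext (mul_inv_eq_one.1 (hD0 (mul_mem d.2 (inv_mem d'.2)) ?_))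
      rw [m.pi_mul, m.pi_inv, e', vadd_self]
    · rintro ⟨_, d, hd, rfl⟩
      exact ⟨⟨d, hd⟩, rfl⟩
  -- the main estimate
  have hmain : Nat.card ↥Db * Nat.card ↥CV ≤ 4 * Nat.card ↥Ā := by
    by_cases hcase : ∀ a : ↥Q, ū • π a = π a → a ∈ P
    · -- every fixed vector comes from the centraliser
      have hAe : Ā = CV := le_antisymm hAC fun v hv => by
        obtain ⟨a, rfl⟩ := m.surj v
        exact ⟨a, hcase a hv, rfl⟩
      have hWp : perpSub q CV = W := by
        have hle : W ≤ perpSub q CV := fun v hv c hc => Gen.move_fix_perp m.gen hfree hv hc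
        refine (SetLike.coe_injective (Set.eq_of_subset_of_ncard_le hle ?_ (Set.toFinite _))).symm
        rw [← Nat.card_coe_set_eq, ← Nat.card_coe_set_eq]
        show Nat.card ↥(perpSub q CV) ≤ Nat.card ↥W
        have h1 := perpSub_card q m.gen.nondeg CV
        rw [← card_fix_mul_move (V := V) ū] at h1
        change Nat.card ↥(perpSub q CV) * Nat.card ↥CV = Nat.card ↥CV * Nat.card ↥W at h1
        rw [mul_comm (Nat.card ↥CV)] at h1
        exact (Nat.eq_of_mul_eq_mul_right Nat.card_pos h1).le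
      have hDW : Db ≤ W := by rw [← hWp, ← hAe]; exact hDA
      have h4 : Nat.card ↥Db ≤ 4 := by
        by_contra hbig
        have hgt : 4 < (Db : Set V).ncard := by rw [← Nat.card_coe_set_eq]; show 4 < Nat.card ↥Db; omega
        obtain ⟨δ₁, h1, h1'⟩ : ∃ v ∈ Db, v ∉ ({0} : Set V) := by
          by_contra hh
          push Not at hh
          have := Set.ncard_le_ncard (s := (Db : Set V)) hh (Set.toFinite _)
          rw [Set.ncard_singleton] at this
          omega
        obtain ⟨δ₂, h2, h2'⟩ : ∃ v ∈ Db, v ∉ ({0, δ₁} : Set V) := by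
          by_contra hh
          push Not at hh
          have := Set.ncard_le_ncard (s := (Db : Set V)) hh (Set.toFinite _)
          have := Set.ncard_insert_le (0 : V) {δ₁}
          rw [Set.ncard_singleton] at this
          omega
        obtain ⟨δ₃, h3, h3'⟩ : ∃ v ∈ Db, v ∉ ({0, δ₁, δ₂, δ₁ + δ₂} : Set V) := by
          by_contra hh
          push Not at hh
          have := Set.ncard_le_ncard (s := (Db : Set V)) hh (Set.toFinite _)
          have := Set.ncard_insert_le (0 : V) {δ₁, δ₂, δ₁ + δ₂}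
          have := Set.ncard_insert_le δ₁ {δ₂, δ₁ + δ₂}
          have := Set.ncard_insert_le δ₂ {δ₁ + δ₂}
          rw [Set.ncard_singleton] at this
          omega
        simp only [Set.mem_insert_iff, Set.mem_singleton_iff, not_or] at h1' h2' h3'
        obtain ⟨d₁, hd₁, rfl⟩ := h1
        obtain ⟨e₁, he₁⟩ := hlift d₁ hd₁ (hDW ⟨d₁, hd₁, rfl⟩) fun e => h1' (by rw [e, m.pi_one])
        have hval : ∀ v ∈ Db, v ≠ 0 → v ≠ π d₁ → polar q (π e₁) v = 1 := by
          rintro _ ⟨d, hd, rfl⟩ hv0 hv1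
          refine (z2_cases _).resolve_left fun h0 => hv1 ?_
          obtain ⟨e, he⟩ := hlift d hd (hDW ⟨d, hd, rfl⟩) fun e => hv0 (by rw [e, m.pi_one])
          have hc := (m.polar_iff e₁ d).1 h0
          have h5 := hconjw (e₁ * e) (d₁ * d) (mul_mem hd₁ hd) (by
            simp only [Subgroup.coe_mul]
            calc ((e₁ : CC) : G) * ((e : CC) : G) * u * (((e₁ : CC) : G) * ((e : CC) : G))⁻¹
                = ((e₁ : CC) : G) * (((e : CC) : G) * u * ((e : CC) : G)⁻¹) * ((e₁ : CC) : G)⁻¹ := by group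
              _ = (((e₁ : CC) : G) * u * ((e₁ : CC) : G)⁻¹) *
                  ((((e₁ : CC) : G) * ((d : CC) : G)) * z * ((e₁ : CC) : G)⁻¹) := by rw [he]; group
              _ = u * (((d₁ : CC) : G) * z) * (((d : CC) : G) * (((e₁ : CC) : G) * z) * ((e₁ : CC) : G)⁻¹) := by
                  rw [he₁, hc]; group
              _ = u * (((d₁ : CC) : G) * z) * (((d : CC) : G) * z) := by rw [hzc e₁]; group
              _ = u * ((d₁ : CC) : G) * (z * ((d : CC) : G)) * z := by group
              _ = u * ((d₁ : CC) : G) * ((d : CC) : G) * (z * z) := by rw [← hzc d]; group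
              _ = u * (((d₁ : CC) : G) * ((d : CC) : G)) := by rw [hzz]; group)
          rw [eq_comm]
          exact eq_of_vadd (by rw [← m.pi_mul, h5, m.pi_one])
        have a2 := hval δ₂ h2 h2'.1 h2'.2
        have a3 := hval δ₃ h3 h3'.1 h3'.2.1
        have a23 := hval (δ₂ + δ₃) (Db.add_mem h2 h3) (fun e => h3'.2.2.1 (eq_of_vadd e).symm)
          (fun e => h3'.2.2.2 (by rw [← e, add_comm δ₂ δ₃, add_assoc, vadd_self, add_zero]))
        rw [QuadraticMap.polar_add_right, a2, a3] at a23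
        exact absurd a23 (by decide)
      rw [hAe]
      exact Nat.mul_le_mul_right _ h4
    · -- some fixed vector does not
      push Not at hcase
      obtain ⟨e₀, he₀, he₀P⟩ := hcase
      have he₀u : ((e₀ : CC) : G) * u * ((e₀ : CC) : G)⁻¹ = u * z := by
        rcases (m.fixed_iff uc e₀).1 he₀ with e | e
        · exact absurd (hPiff.2 (mul_inv_eq_iff_eq_mul.1 e).symm) he₀P
        · change u * ((e₀ : CC) : G) * u⁻¹ = ((e₀ : CC) : G) * z at e
          rw [inv_eq_of_mul_eq_one_right huu] at e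
          calc ((e₀ : CC) : G) * u * ((e₀ : CC) : G)⁻¹ = (u * u) * ((e₀ : CC) : G) * u * ((e₀ : CC) : G)⁻¹ := by
                rw [huu, one_mul]
            _ = u * (u * ((e₀ : CC) : G) * u) * ((e₀ : CC) : G)⁻¹ := by group
            _ = u * z := by rw [e, hzc e₀]; group
      have hmeet : ∀ v ∈ Db, v ∈ W → v = 0 := by
        rintro _ ⟨d, hd, rfl⟩ hdW
        by_contra hv0
        obtain ⟨e, he⟩ := hlift d hd hdW fun e => hv0 (by rw [e, m.pi_one])
        have hc := (m.polar_iff e₀ d).1 (by rw [QuadraticMap.polar_comm]; exact hperpW he₀ hdW)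
        have h5 := hconjw (e₀ * e) d hd (by
          simp only [Subgroup.coe_mul]
          calc ((e₀ : CC) : G) * ((e : CC) : G) * u * (((e₀ : CC) : G) * ((e : CC) : G))⁻¹
              = ((e₀ : CC) : G) * (((e : CC) : G) * u * ((e : CC) : G)⁻¹) * ((e₀ : CC) : G)⁻¹ := by group
            _ = (((e₀ : CC) : G) * u * ((e₀ : CC) : G)⁻¹) *
                ((((e₀ : CC) : G) * ((d : CC) : G)) * z * ((e₀ : CC) : G)⁻¹) := by rw [he]; group
            _ = u * z * (((d : CC) : G) * (((e₀ : CC) : G) * z) * ((e₀ : CC) : G)⁻¹) := by rw [he₀u, hc]; group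
            _ = u * (z * ((d : CC) : G)) * z := by rw [hzc e₀]; group
            _ = u * ((d : CC) : G) * (z * z) := by rw [← hzc d]; group
            _ = u * ((d : CC) : G) := by rw [hzz, mul_one])
        exact hv0 (by rw [h5, m.pi_one])
      have hCle : Nat.card ↥CV ≤ 2 * Nat.card ↥Ā := by
        let F : ↥CV → Bool × ↥Ā := fun v =>
          if hv : (v : V) ∈ Ā then (true, ⟨v, hv⟩) else (false, ⟨(v : V) + π e₀, by
            obtain ⟨a, ha⟩ := m.surj (v : V)
            have haf : ū • π a = π a := by rw [ha]; exact v.2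
            refine ⟨a * e₀, hPiff.2 ?_, by rw [m.pi_mul, ha]⟩
            have hau : ((a : CC) : G) * u * ((a : CC) : G)⁻¹ = u * z := by
              rcases (m.fixed_iff uc a).1 haf with e | e
              · exact absurd ⟨a, hPiff.2 (mul_inv_eq_iff_eq_mul.1 e).symm, ha⟩ hv
              · change u * ((a : CC) : G) * u⁻¹ = ((a : CC) : G) * z at e
                rw [inv_eq_of_mul_eq_one_right huu] at e
                calc ((a : CC) : G) * u * ((a : CC) : G)⁻¹ = (u * u) * ((a : CC) : G) * u * ((a : CC) : G)⁻¹ := by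
                      rw [huu, one_mul]
                  _ = u * (u * ((a : CC) : G) * u) * ((a : CC) : G)⁻¹ := by group
                  _ = u * z := by rw [e, hzc a]; group
            simp only [Subgroup.coe_mul]
            refine mul_inv_eq_iff_eq_mul.1 ?_
            calc ((a : CC) : G) * ((e₀ : CC) : G) * u * (((a : CC) : G) * ((e₀ : CC) : G))⁻¹
                = ((a : CC) : G) * (((e₀ : CC) : G) * u * ((e₀ : CC) : G)⁻¹) * ((a : CC) : G)⁻¹ := by group
              _ = (((a : CC) : G) * u * ((a : CC) : G)⁻¹) * (((a : CC) : G) * z * ((a : CC) : G)⁻¹) := by rw [he₀u]; group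
              _ = u * (z * z) := by rw [hau, hzc a]; group
              _ = u := by rw [hzz, mul_one]⟩)
        have hF : Function.Injective F := by
          intro v w e
          simp only [F] at e
          split_ifs at e <;> simp only [Prod.mk.injEq, Subtype.mk.injEq] at e
          · exact Subtype.ext e.2
          · exact absurd e.1 (by decide)
          · exact absurd e.1 (by decide)
          · exact Subtype.ext (add_right_cancel e.2)
        have := Nat.card_le_card_of_injective F hF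
        rwa [Nat.card_prod, Nat.card_eq_fintype_card (α := Bool), Fintype.card_bool] at this
      have hWA : W ≤ perpSub q Ā := fun v hv c hc => Gen.move_fix_perp m.gen hfree hv (hAC hc)
      have hsum : Nat.card ↥Db * Nat.card ↥W ≤ Nat.card ↥(perpSub q Ā) := by
        rw [← Nat.card_prod]
        refine Nat.card_le_card_of_injective
          (fun p => (⟨(p.1 : V) + (p.2 : V), (perpSub q Ā).add_mem (hDA p.1.2) (hWA p.2.2)⟩ : ↥(perpSub q Ā))) ?_
        rintro ⟨a, b⟩ ⟨a', b'⟩ e
        have e' : (a : V) + (b : V) = (a' : V) + (b' : V) := congrArg Subtype.val e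
        have h0 : (a : V) - a' = 0 := hmeet _ (Db.sub_mem a.2 a'.2) (by
          rw [show (a : V) - a' = (b' : V) - b by rw [sub_eq_sub_iff_add_eq_add, e', add_comm]]
          exact W.sub_mem b'.2 b.2)
        have ha : a = a' := Subtype.ext (sub_eq_zero.1 h0)
        subst ha
        exact Prod.ext rfl (Subtype.ext (add_left_cancel e'))
      have h1 := perpSub_card q m.gen.nondeg Ā
      have h2 := card_fix_mul_move (V := V) ū
      rw [← h1] at h2
      have h3 : Nat.card ↥Db * Nat.card ↥Ā ≤ Nat.card ↥CV := by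
        have h4 : (Nat.card ↥Db * Nat.card ↥Ā) * Nat.card ↥W ≤ Nat.card ↥CV * Nat.card ↥W := by
          calc _ = (Nat.card ↥Db * Nat.card ↥W) * Nat.card ↥Ā := by ring
            _ ≤ Nat.card ↥(perpSub q Ā) * Nat.card ↥Ā := Nat.mul_le_mul_right _ hsum
            _ = _ := h2.symm
        exact Nat.le_of_mul_le_mul_right h4 Nat.card_pos
      have hApos : 0 < Nat.card ↥Ā := Nat.card_pos
      nlinarith
  -- the image in the unitary group
  let cP : ↥P →* CC := ((MulAut.conj h⁻¹).toMonoidHom.comp (((Subgroup.subtype CC).comp Q.subtype).comp P.subtype)).codRestrict CC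
    fun a => mem_centralizer_singleton_iff.2 (by
      show (MulAut.conj h⁻¹) (((a : ↥Q) : CC) : G) * z = z * (MulAut.conj h⁻¹) (((a : ↥Q) : CC) : G)
      have h1 := hPiff.1 a.2
      rw [hudef] at h1
      simp only [MulAut.conj_apply, inv_inv]
      calc h⁻¹ * (((a : ↥Q) : CC) : G) * h * z = h⁻¹ * ((((a : ↥Q) : CC) : G) * (h * z * h⁻¹)) * h := by group
        _ = h⁻¹ * ((h * z * h⁻¹) * (((a : ↥Q) : CC) : G)) * h := by rw [h1]
        _ = z * (h⁻¹ * (((a : ↥Q) : CC) : G) * h) := by group)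
  have hcP : ∀ a : ↥P, ((cP a : CC) : G) = h⁻¹ * (((a : ↥Q) : CC) : G) * h := fun a => by
    show (MulAut.conj h⁻¹) (((a : ↥Q) : CC) : G) = _
    simp [MulAut.conj_apply]
  let ΨX : ↥P →* ↥M := ((QuotientGroup.mk' Q).comp cP).codRestrict M fun a => hB h⁻¹ _ (by
    rw [hcP, inv_inv, show h * (h⁻¹ * (((a : ↥Q) : CC) : G) * h) * h⁻¹ = (((a : ↥Q) : CC) : G) by group]
    exact hQmem _)
  let Ψ : ↥P →* ↥H4 := φ.comp ΨX
  obtain ⟨tQ, hQt⟩ := IsPGroup.iff_card.1 hS.1.1
  haveI := Fact.mk Nat.prime_two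
  have hP2 : IsPGroup 2 ↥P := (IsPGroup.of_card (G := ↥Q) hQt).to_subgroup P
  have hΨX : ∀ a : ↥P, Ψ a = 1 → (a : ↥Q) ∈ D := by
    intro a ha
    have h1 : ((ΨX a : ↥M) : CC ⧸ Q) ∈ Subgroup.zpowers n := (m.gen.ker _).1 ha
    have h2 : ((ΨX a : ↥M) : CC ⧸ Q) = 1 := by
      obtain ⟨i, hi⟩ := hP2 a
      have h2i : ((ΨX a : ↥M) : CC ⧸ Q) ^ (2 ^ i) = 1 := by
        rw [← SubgroupClass.coe_pow, ← map_pow, hi, map_one]; rfl
      obtain ⟨j, hj⟩ := mem_zpowers_iff.1 h1
      have h3 : ((ΨX a : ↥M) : CC ⧸ Q) ^ 3 = 1 := by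
        rw [← hj, ← zpow_natCast, ← zpow_mul, mul_comm, zpow_mul, zpow_natCast]
        rw [show n ^ 3 = n * n * n by rw [pow_succ, pow_two], m.gen.n_three, one_zpow]
      have hd := Nat.dvd_gcd (orderOf_dvd_of_pow_eq_one h2i) (orderOf_dvd_of_pow_eq_one h3)
      rw [Nat.Coprime.gcd_eq_one (Nat.Coprime.pow_left _ (by norm_num))] at hd
      exact orderOf_eq_one_iff.1 (Nat.dvd_one.1 hd)
    refine hDiff.2 ?_
    have h3 : cP a ∈ Q := (QuotientGroup.eq_one_iff _).1 h2
    exact ⟨cP a, h3, hcP a⟩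
  have hrange : Nat.card ↥P ≤ Nat.card ↥Ψ.range * Nat.card ↥D := by
    have h1 := Ψ.ker.card_mul_index
    rw [index_ker] at h1
    have h2 : Nat.card ↥Ψ.ker ≤ Nat.card ↥D :=
      Nat.card_le_card_of_injective (fun a => (⟨((a : ↥P) : ↥Q), hΨX _ (MonoidHom.mem_ker.1 a.2)⟩ : ↥D))
        fun a b e => Subtype.ext (Subtype.ext (congrArg (fun t : ↥D => (t : ↥Q)) e))
    nlinarith
  rw [m.card_img hz hzQe hzP, hDcard] at hrange
  have hbound : Nat.card ↥CV ≤ 2 * Nat.card ↥Ψ.range := by
    have hp : 0 < Nat.card ↥Db := Nat.card_pos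
    nlinarith [Nat.mul_le_mul_left (Nat.card ↥Ψ.range) hmain]
  rw [hkC] at hbound
  -- squares and commutators
  have hsqP : ∀ a : ↥P, a * a = 1 ∨ a * a = ⟨zQ, hzP⟩ := fun a => by
    rcases (m.ker ((a : ↥Q) * a)).1 (by rw [m.pi_mul, vadd_self]) with e | e
    · exact .inl (Subtype.ext (Subtype.ext (Subtype.ext e)))
    · exact .inr (Subtype.ext (Subtype.ext (Subtype.ext (e.trans hzQe.symm))))
  have hcmP : ∀ a b : ↥P, a * b * a⁻¹ * b⁻¹ = 1 ∨ a * b * a⁻¹ * b⁻¹ = ⟨zQ, hzP⟩ := fun a b => by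
    rcases (m.ker _).1 (hcentQ (a : ↥Q) b) with e | e
    · exact .inl (Subtype.ext (Subtype.ext (Subtype.ext e)))
    · exact .inr (Subtype.ext (Subtype.ext (Subtype.ext (e.trans hzQe.symm))))
  have hr2 : IsPGroup 2 ↥Ψ.range := hP2.of_surjective Ψ.rangeRestrict Ψ.rangeRestrict_surjective
  rcases Nat.lt_or_ge k 4 with hk | hk
  · -- the fixed space is totally singular
    have hk' : k = 3 := by omega
    subst hk'
    have hWC : W = CV := SetLike.coe_injective (Set.eq_of_subset_of_ncard_le (move_le_fix (V := V) hu2) (by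
      rw [← Nat.card_coe_set_eq, ← Nat.card_coe_set_eq]
      show Nat.card ↥CV ≤ Nat.card ↥W
      rw [hkC, hkW]) (Set.toFinite _))
    have hiso : ∀ v ∈ CV, ∀ w ∈ CV, polar q v w = 0 := fun v hv w hw =>
      Gen.move_fix_perp m.gen hfree (hWC.ge hv) hw
    have hinv : ∀ v ∈ CV, n • v ∈ CV := Gen.fix_inv m.gen hfree hun
    have hsing : ∀ v ∈ CV, q v = 0 := by
      intro v hv
      have e : n • v + n • n • v = v := by
        rw [Gen.n_quad m.gen hfree, add_comm v, ← add_assoc, vadd_self, zero_add]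
      calc q v = q (n • v + n • n • v) := by rw [e]
        _ = 0 := by
          rw [q_add, m.gen.isom, m.gen.isom, m.gen.isom, hiso _ (hinv v hv) _ (hinv _ (hinv v hv)),
            CharTwo.add_self_eq_zero, zero_add]
    have hel : Cfsg.IsElementaryAbelian 2 Ψ.range := by
      refine ⟨⟨⟨?_⟩⟩, ?_⟩
      · rintro ⟨_, a, rfl⟩ ⟨_, b, rfl⟩
        refine Subtype.ext ?_
        show Ψ a * Ψ b = Ψ b * Ψ a
        rw [← map_mul, ← map_mul]
        exact congrArg Ψ (Subtype.ext (Subtype.ext (Subtype.ext ((m.polar_iff (a : ↥Q) b).1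
          (hiso _ (hPfix _ a.2) _ (hPfix _ b.2))))))
      · rintro _ ⟨a, rfl⟩
        rw [← map_pow, pow_two]
        have : a * a = 1 := Subtype.ext ((m.sq _).1 (hsing _ (hPfix _ a.2)))
        rw [this, map_one]
    have h16 : Nat.card ↥Ψ.range ≤ 16 := by
      by_contra hh
      have := (U43.elementary_facts hel (by omega)).1
      omega
    rw [show (4 : ℕ) ^ 3 = 64 by norm_num] at hbound
    omega
  · -- a Sylow subgroup with small Frattini subgroup
    obtain ⟨t, ht⟩ := IsPGroup.iff_card.1 hr2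
    have h128 : Nat.card ↥Ψ.range = 128 := by
      have h4 : 4 ^ 4 ≤ 4 ^ k := Nat.pow_le_pow_right (by norm_num) hk
      norm_num at h4
      have hdvd := Subgroup.card_subgroup_dvd_card Ψ.range
      rw [card_H4, ht] at hdvd
      rw [ht] at hbound ⊢
      have ht7 : 7 ≤ t := by
        by_contra hc
        have := Nat.pow_le_pow_right (show 1 ≤ 2 by norm_num) (show t ≤ 6 by omega)
        omega
      have ht8 : t ≤ 7 := by
        by_contra hc
        have h256 : 2 ^ 8 ∣ 3265920 := (pow_dvd_pow 2 (show 8 ≤ t by omega)).trans hdvd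
        norm_num at h256
      rw [show t = 7 by omega]; norm_num
    have hy : Ψ ⟨zQ, hzP⟩ * Ψ ⟨zQ, hzP⟩ = 1 := by
      rw [← map_mul, show (⟨zQ, hzP⟩ : ↥P) * ⟨zQ, hzP⟩ = 1 from Subtype.ext (Subtype.ext (Subtype.ext (by
        simp [hzQe, hzz]))), map_one]
    refine U43.no_small_frattini h128 (y := Ψ ⟨zQ, hzP⟩) ⟨_, rfl⟩ hy ?_ ?_
    · rintro _ ⟨a, rfl⟩
      rcases hsqP a with e | e
      · exact .inl (by rw [← map_mul, e, map_one])
      · exact .inr (by rw [← map_mul, e])
    · rintro _ ⟨a, rfl⟩ _ ⟨b, rfl⟩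
      rcases hcmP a b with e | e
      · exact .inl (by rw [← map_inv, ← map_inv, ← map_mul, ← map_mul, ← map_mul, e, map_one])
      · exact .inr (by rw [← map_inv, ← map_inv, ← map_mul, ← map_mul, ← map_mul, e])

end CfsgLib.LargeFischer.GModel
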