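import Cfsg.Agent.Lib.LargeFischer.General.IndexTwo
import Cfsg.Agent.Lib.LargeFischer.General.Weak
import Cfsg.Agent.Lib.Invol.ZStarFinal
import Cfsg.Agent.S3300

/-!
# The central involution weakly closed in `Q`: the centraliser covers the group modulo its odd core
-/

set_option autoImplicit false
set_option linter.unusedSectionVars false
set_option linter.style.haveILetI false
set_option maxHeartbeats 1000000

namespace CfsgLib.LargeFischer

open Subgroup QuadraticMap CfsgLib.LargeExtra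
open CfsgLib.Schur.Tails.UFour (H4)

/-- An isolated involution: its centraliser covers the group modulo the odd core. -/
theorem sup_core_of_isolated {G : Type*} [Group G] [Finite G] {t : G} (hiso : Cfsg.IsIsolatedInvolution t) :
    centralizer ({t} : Set G) ⊔ Cfsg.oddCore G = ⊤ := by
  have htt : t * t = 1 := by rw [← pow_two, ← hiso.1, pow_orderOf_eq_one]
  have hti : t⁻¹ = t := inv_eq_of_mul_eq_one_right htt
  rw [eq_top_iff]
  intro g _
  have hO : g⁻¹ * t * g * t⁻¹ ∈ Cfsg.oddCore G := by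
    have := inv_mem (CfsgLib.Invol.zstar hiso g⁻¹)
    simpa [mul_inv_rev, mul_assoc] using this
  set o := g⁻¹ * t * g * t⁻¹ with ho
  have hu : g⁻¹ * t * g = o * t := by rw [ho, inv_mul_cancel_right]
  have htot : t * o * t⁻¹ = o⁻¹ := by
    refine eq_inv_of_mul_eq_one_left ?_
    have h2 : g⁻¹ * t * g * (g⁻¹ * t * g) = 1 := by
      rw [show g⁻¹ * t * g * (g⁻¹ * t * g) = g⁻¹ * (t * t) * g by group, htt, mul_one, inv_mul_cancel]
    rw [hu] at h2
    calc t * o * t⁻¹ * o = o⁻¹ * (o * t * (o * t⁻¹)) * o := by group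
      _ = 1 := by rw [hti, h2, mul_one, inv_mul_cancel]
  obtain ⟨k, hk⟩ : Odd (Nat.card (Cfsg.oddCore G)) := CfsgLib.Cores.odd_card_oddCore
  set h := o ^ (k + 1) with hh
  have hhO : h ∈ Cfsg.oddCore G := pow_mem hO _
  have hoc : o ^ Nat.card (Cfsg.oddCore G) = 1 := by
    have := congrArg Subtype.val (pow_card_eq_one' (x := (⟨o, hO⟩ : Cfsg.oddCore G)))
    rwa [SubmonoidClass.coe_pow] at this
  have hh2 : h * h = o := by
    rw [hh, ← pow_add, show k + 1 + (k + 1) = 2 * k + 1 + 1 by ring, ← hk, pow_succ, hoc, one_mul]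
  have hth : t * h⁻¹ = h * t := by
    have : t * h * t⁻¹ = h⁻¹ := by rw [hh, ← conj_pow, htot, inv_pow]
    rw [← this]
    calc t * (t * h * t⁻¹) = t * t * h * t⁻¹ := by group
      _ = h * t := by rw [htt, one_mul, hti]
  have hc : g * h ∈ centralizer ({t} : Set G) := by
    rw [mem_centralizer_singleton_iff]
    have e : h * t * h⁻¹ = g⁻¹ * t * g := by rw [mul_assoc, hth, ← mul_assoc, hh2, hu]
    calc g * h * t = g * (h * t * h⁻¹) * h := by group
      _ = t * (g * h) := by rw [e]; group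
  rw [← mul_inv_cancel_right g h]
  exact mul_mem_sup hc (inv_mem hhO)

namespace GModel

variable {G : Type*} [Group G] [Finite G] {z : G}

set_option quotPrecheck false
local notation "CC" => (centralizer ({z} : Set G))

/-- `O²` has no quotient of two-power order. -/
theorem residual_top : Cfsg.pResidual 2 ↥(Cfsg.pResidual 2 G) = ⊤ := by
  have hgen : ∀ g : G, Nat.Coprime (orderOf g) 2 → g ∈ Cfsg.pResidual 2 G := fun g hg => subset_closure hg
  have hmap : Cfsg.pResidual 2 G ≤ (Cfsg.pResidual 2 ↥(Cfsg.pResidual 2 G)).map (Cfsg.pResidual 2 G).subtype := by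
    conv_lhs => rw [Cfsg.pResidual]
    rw [closure_le]
    intro g hg
    exact ⟨⟨g, hgen g hg⟩, subset_closure (show Nat.Coprime (orderOf _) 2 by rw [Subgroup.orderOf_mk]; exact hg), rfl⟩
  refine eq_top_iff.2 fun x _ => ?_
  obtain ⟨y, hy, e⟩ := hmap x.2
  rwa [← Subtype.ext e]

variable {Q : Subgroup (centralizer ({z} : Set G))} [Q.Normal]
  {V : Type*} [AddCommGroup V] [Module (ZMod 2) V] [DistribMulAction ((centralizer ({z} : Set G)) ⧸ Q) V] [Finite V]
  {q : QuadraticForm (ZMod 2) V} {π : ↥Q → V} {n : (centralizer ({z} : Set G)) ⧸ Q}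
  {M : Subgroup ((centralizer ({z} : Set G)) ⧸ Q)} {φ : ↥M →* ↥H4} (m : GModel z Q q π n M φ)

include m

/-- `O²` contains `Q`. -/
theorem mem_residual (a : ↥Q) : ((a : CC) : G) ∈ Cfsg.pResidual 2 G := by
  classical
  set G₁ := Cfsg.pResidual 2 G with hG₁
  haveI : G₁.Normal := by
    haveI := CfsgLib.Transfer.pResidual_characteristic (G := G) (p := 2)
    rw [hG₁]
    infer_instance
  -- a lift of `n` of odd order
  obtain ⟨d, hd⟩ := QuotientGroup.mk_surjective n
  haveI : Fact (Nat.Prime 2) := ⟨Nat.prime_two⟩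
  set j := (orderOf d).factorization 2 with hj
  set c := d ^ 2 ^ j with hc
  have hcG : (c : G) ∈ G₁ := by
    refine CfsgLib.Transfer.mem_pResidual_of_coprime ?_
    rw [Subgroup.orderOf_coe, hc, orderOf_pow_of_dvd (pow_ne_zero _ two_ne_zero) (Nat.ordProj_dvd _ _)]
    exact (Nat.coprime_ordCompl Nat.prime_two (orderOf_pos d).ne').symm
  have hn3 : n * n * n = 1 := m.gen.n_three
  have hfix : ∀ w : V, (QuotientGroup.mk c : CC ⧸ Q) • w = w → w = 0 := by
    intro w hw
    rw [hc, QuotientGroup.mk_pow, hd] at hw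
    have hsq : ∀ i : ℕ, n ^ 2 ^ i = n ∨ n ^ 2 ^ i = n * n := by
      intro i
      induction i with
      | zero => exact .inl (pow_one n)
      | succ i ih =>
        rw [pow_succ, pow_mul, pow_two]
        rcases ih with e | e <;> rw [e]
        · exact .inr rfl
        · left
          calc n * n * (n * n) = n * n * n * n := by group
            _ = n := by rw [hn3, one_mul]
    rcases hsq j with e | e <;> rw [e] at hw
    · exact m.gen.free hw
    · refine m.gen.free (v := w) ?_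
      have h1 : n • n • w = w := by rw [← mul_smul]; exact hw
      have h2 := m.gen.smul_n_three w
      rwa [h1] at h2
  -- modulo `z`
  have hpre : ∀ x : ↥Q, ∃ y : ↥Q, ((y : CC) : G) ∈ G₁ ∧ π y = π x := by
    intro x
    let f : V → V := fun v => (QuotientGroup.mk c : CC ⧸ Q) • v + v
    have hf : Function.Surjective f := Finite.surjective_of_injective fun u v e => by
      refine eq_of_vadd (hfix _ (eq_of_vadd ?_))
      rw [smul_add, show (QuotientGroup.mk c : CC ⧸ Q) • u + (QuotientGroup.mk c : CC ⧸ Q) • v + (u + v) =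
        ((QuotientGroup.mk c : CC ⧸ Q) • u + u) + ((QuotientGroup.mk c : CC ⧸ Q) • v + v) by abel,
        show (QuotientGroup.mk c : CC ⧸ Q) • u + u = (QuotientGroup.mk c : CC ⧸ Q) • v + v from e, vadd_self]
    obtain ⟨v, hv⟩ := hf (π x)
    obtain ⟨b, rfl⟩ := m.surj v
    refine ⟨MulAut.conjNormal c b * b⁻¹, ?_, ?_⟩
    · simp only [Subgroup.coe_mul, MulAut.conjNormal_apply, Subgroup.coe_inv]
      rw [show (c : G) * ((b : CC) : G) * (c : G)⁻¹ * ((b : CC) : G)⁻¹ =
        (c : G) * (((b : CC) : G) * (c : G)⁻¹ * ((b : CC) : G)⁻¹) by group]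
      exact mul_mem hcG ((inferInstance : G₁.Normal).conj_mem _ (inv_mem hcG) _)
    · rw [m.pi_mul, m.pi_inv, ← m.equiv]
      exact hv
  -- `z`
  have hzG : z ∈ G₁ := by
    obtain ⟨v, hv⟩ : ∃ v, q v ≠ 0 := by
      by_contra hc
      simp only [not_exists, not_not] at hc
      have hall : ∀ v : V, v = 0 := fun v => m.gen.nondeg v fun w => by simp [polar, hc]
      haveI : Subsingleton V := ⟨fun a b => (hall a).trans (hall b).symm⟩
      have := m.gen.cardV
      rw [Nat.card_of_subsingleton (0 : V)] at this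
      omega
    obtain ⟨x, rfl⟩ := m.surj v
    obtain ⟨y, hy, e⟩ := hpre x
    rw [← e] at hv
    rcases (m.ker (y * y)).1 (by rw [m.pi_mul, vadd_self]) with e | e
    · exact absurd ((m.sq y).2 (Subtype.ext (Subtype.ext e))) hv
    · rw [← e]
      exact mul_mem hy hy
  obtain ⟨y, hy, e⟩ := hpre a
  rcases m.pi_eq e.symm with e | e
  · rwa [e] at hy
  · rw [e] at hy
    exact (mul_mem_cancel_right hzG).1 hy

/-- If `z` is weakly closed in `Q`, two-elements of `O²` centralising `z` act inside `M`. -/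
theorem image_mem_of_closed (hz : orderOf z = 2) (hQ : Cfsg.IsExtraspecial 2 Q) (hcard : Nat.card ↥Q = 2 ^ 13)
    (hcQ : centralizer (Q : Set CC) ≤ Q) (hcore : Cfsg.pCore 2 CC = Q)
    (hweak : ∀ g : G, g * z * g⁻¹ ∈ Q.map (Subgroup.subtype CC) → g * z * g⁻¹ = z)
    (b : CC) (hb : (b : G) ∈ Cfsg.pResidual 2 G) {r : ℕ} (hr : b ^ 2 ^ r = 1) :
    (QuotientGroup.mk b : CC ⧸ Q) ∈ M := by
  classical
  haveI : Fact (Nat.Prime 2) := ⟨Nat.prime_two⟩
  set G₁ := Cfsg.pResidual 2 G with hG₁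
  haveI hG₁n : G₁.Normal := by
    haveI := CfsgLib.Transfer.pResidual_characteristic (G := G) (p := 2)
    rw [hG₁]
    infer_instance
  haveI := m.gen.normalM
  set R := G₁.subgroupOf CC with hR
  have hQR : Q ≤ R := fun a ha => m.mem_residual ⟨a, ha⟩
  set X := M ⊔ R.map (QuotientGroup.mk' Q) with hX
  have hbX : (QuotientGroup.mk b : CC ⧸ Q) ∈ X := mem_sup_right ⟨b, hb, rfl⟩
  have hMX : M ≤ X := le_sup_left
  have hc := m.gen.restrict hMX
  haveI := hc.normalM
  have hodd : Odd (M.subgroupOf X).index := by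
    refine hc.odd_index fun L hL hL2 => ?_
    haveI : L.Normal := normal_of_index_eq_two hL2
    -- the centraliser inside `O²`
    have hzC : z ∈ CC := mem_centralizer_singleton_iff.2 rfl
    have hzQ : (⟨z, hzC⟩ : CC) ∈ Q :=
      hcQ (mem_centralizer_iff.2 fun x _ => Subtype.ext (mem_centralizer_singleton_iff.1 x.2))
    let z' : ↥G₁ := ⟨z, hQR hzQ⟩
    let ι : ↥(centralizer ({z'} : Set ↥G₁)) →* CC :=
      { toFun := fun x => ⟨((x : ↥G₁) : G), mem_centralizer_singleton_iff.2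
          (congrArg Subtype.val (mem_centralizer_singleton_iff.1 x.2))⟩
        map_one' := rfl
        map_mul' := fun _ _ => rfl }
    have hι : Function.Injective ι := fun x y h => by
      have := congrArg (Subtype.val : CC → G) h
      exact Subtype.ext (Subtype.ext this)
    have hrange : ι.range = R := by
      ext c
      constructor
      · rintro ⟨x, rfl⟩
        exact (x : ↥G₁).2
      · intro hc'
        exact ⟨⟨⟨(c : G), hc'⟩, mem_centralizer_singleton_iff.2
          (Subtype.ext (mem_centralizer_singleton_iff.1 c.2))⟩, rfl⟩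
    let E : Subgroup ↥G₁ := (Q.comap ι).map (centralizer ({z'} : Set ↥G₁)).subtype
    let eQ : ↥(Q.comap ι) ≃* ↥Q :=
      ((Q.comap ι).equivMapOfInjective ι hι).trans (MulEquiv.subgroupCongr (map_comap_eq_self (hrange ▸ hQR)))
    have hQ'x : Cfsg.IsExtraspecial 2 ↥(Q.comap ι) := CfsgLib.LargeExtra.isExtraspecial_of_mulEquiv eQ.symm hQ
    have hEx : Cfsg.IsExtraspecial 2 ↥E := CfsgLib.LargeExtra.isExtraspecial_of_mulEquiv
      ((Q.comap ι).equivMapOfInjective _ (subtype_injective _)) hQ'x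
    have hcore' : Cfsg.pCore 2 ↥(centralizer ({z'} : Set ↥G₁)) = Q.comap ι := by
      refine le_antisymm (fun x hx => ?_) (CfsgLib.Cores.le_pCore hQ'x.1.1)
      let eR : ↥(centralizer ({z'} : Set ↥G₁)) ≃* ↥R :=
        (MonoidHom.ofInjective hι).trans (MulEquiv.subgroupCongr hrange)
      have h1 : eR x ∈ Cfsg.pCore 2 ↥R := CfsgLib.Cores.map_pCore_le eR.toMonoidHom eR.surjective ⟨x, hx, rfl⟩
      have h2 := CfsgLib.Cores.map_subtype_pCore_le_of_normal 2 R ⟨_, h1, rfl⟩
      rw [hcore] at h2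
      exact h2
    have hEcard : Nat.card ↥E = 2 ^ (2 * 6 + 1) := by
      rw [card_map_of_injective (subtype_injective _), Nat.card_congr eQ.toEquiv, hcard]
    have hEcent : centralizer (E : Set ↥G₁) ≤ E := by
      intro x hx
      rw [mem_centralizer_iff] at hx
      have hz'E : z' ∈ E := ⟨⟨z', mem_centralizer_singleton_iff.2 rfl⟩, hzQ, rfl⟩
      have hxC : x ∈ centralizer ({z'} : Set ↥G₁) := mem_centralizer_singleton_iff.2 (hx z' hz'E).symm
      refine ⟨⟨x, hxC⟩, hcQ (mem_centralizer_iff.2 fun y hy => ?_), rfl⟩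
      obtain ⟨y', rfl⟩ : y ∈ ι.range := hrange ▸ hQR hy
      rw [← map_mul, ← map_mul]
      exact congrArg ι (Subtype.ext (hx _ ⟨y', hy, rfl⟩))
    -- the subgroup of index two
    let g₀ : ↥(centralizer ({z'} : Set ↥G₁)) →* ↥X :=
      ((QuotientGroup.mk' Q).comp ι).codRestrict X fun x => mem_sup_right ⟨ι x, (x : ↥G₁).2, rfl⟩
    have hLX : ∀ y : ↥X, ∃ (k : ↥X) (x : ↥(centralizer ({z'} : Set ↥G₁))), k ∈ L ∧ y = k * g₀ x := by
      rintro ⟨y, hy⟩
      obtain ⟨u, hu, w, hw, rfl⟩ := mem_sup_of_normal_left.1 (show y ∈ M ⊔ R.map (QuotientGroup.mk' Q) from hy)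
      obtain ⟨c, hcR, rfl⟩ := hw
      obtain ⟨x, rfl⟩ : c ∈ ι.range := hrange ▸ hcR
      exact ⟨⟨u, hMX hu⟩, x, hL (mem_subgroupOf.2 hu), rfl⟩
    let K' : Subgroup ↥G₁ := (L.comap g₀).map (centralizer ({z'} : Set ↥G₁)).subtype
    have hKi : K'.relIndex (centralizer ({z'} : Set ↥G₁)) = 2 := by
      show (K'.subgroupOf (centralizer ({z'} : Set ↥G₁))).index = 2
      rw [show K'.subgroupOf (centralizer ({z'} : Set ↥G₁)) = L.comap g₀ from
        comap_map_eq_self_of_injective (subtype_injective _) _, index_comap]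
      have h1 : g₀.range ⊔ L = ⊤ := eq_top_iff.2 fun y _ => by
        obtain ⟨k, x, hk, rfl⟩ := hLX y
        exact mul_mem (mem_sup_right hk) (mem_sup_left ⟨x, rfl⟩)
      rw [← relIndex_sup_left, sup_comm, h1, relIndex_top_right, hL2]
    have hKn : ∀ h ∈ centralizer ({z'} : Set ↥G₁), K'.map (MulAut.conj h).toMonoidHom = K' := by
      have h1 : ∀ h ∈ centralizer ({z'} : Set ↥G₁), ∀ k ∈ K', h * k * h⁻¹ ∈ K' := by
        rintro h hh _ ⟨k, hk, rfl⟩
        exact ⟨⟨h, hh⟩ * k * ⟨h, hh⟩⁻¹, (inferInstance : (L.comap g₀).Normal).conj_mem k hk _, rfl⟩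
      intro h hh
      refine le_antisymm ?_ fun k hk => ⟨h⁻¹ * k * h, by simpa using h1 h⁻¹ (inv_mem hh) k hk, by simp [mul_assoc]⟩
      rintro _ ⟨k, hk, rfl⟩
      exact h1 h hh k hk
    obtain ⟨g, hg, hgne⟩ := Cfsg.Agent.S3300.result residual_top z' ((orderOf_coe z').symm.trans hz) E
      (by rw [hcore']) hEx hEcent 6 (by norm_num) hEcard K' (map_subtype_le _) hKn hKi
    refine hgne (Subtype.ext (hweak (g : G) ?_))
    obtain ⟨x, hx, e⟩ := hg
    exact ⟨ι x, hx, congrArg Subtype.val e⟩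
  -- two-elements fall into the part of odd index
  have h1 : (QuotientGroup.mk (⟨_, hbX⟩ : ↥X) : ↥X ⧸ M.subgroupOf X) ^ 2 ^ r = 1 := by
    rw [← QuotientGroup.mk_pow, show (⟨_, hbX⟩ : ↥X) ^ 2 ^ r = 1 from Subtype.ext (by
      show (QuotientGroup.mk b : CC ⧸ Q) ^ 2 ^ r = 1
      rw [← QuotientGroup.mk_pow, hr, QuotientGroup.mk_one]), QuotientGroup.mk_one]
  have h2 := pow_card_eq_one' (x := (QuotientGroup.mk (⟨_, hbX⟩ : ↥X) : ↥X ⧸ M.subgroupOf X))
  rw [← index_eq_card] at h2
  have h3 := SevenBound.eq_one_of_pows h1 h2 (Nat.Coprime.pow_left r hodd.coprime_two_left)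
  exact mem_subgroupOf.1 ((QuotientGroup.eq_one_iff _).1 h3)

/-- The weakly closed case. -/
theorem sup_core_of_closed (hz : orderOf z = 2) (hQ : Cfsg.IsExtraspecial 2 Q) (hcard : Nat.card ↥Q = 2 ^ 13)
    (hcQ : centralizer (Q : Set CC) ≤ Q) (hcore : Cfsg.pCore 2 CC = Q)
    (hweak : ∀ g : G, g * z * g⁻¹ ∈ Q.map (Subgroup.subtype CC) → g * z * g⁻¹ = z) :
    CC ⊔ Cfsg.oddCore G = ⊤ := by
  haveI : Fact (Nat.Prime 2) := ⟨Nat.prime_two⟩
  haveI hG₁n : (Cfsg.pResidual 2 G).Normal := by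
    haveI := CfsgLib.Transfer.pResidual_characteristic (G := G) (p := 2)
    infer_instance
  refine sup_core_of_isolated ⟨hz, fun g hg => ?_⟩
  refine m.isolated (fun v => m.gen.free) hz hQ (fun g b hb => ?_) hweak (m.z_mem_img hcQ) g
    (mem_centralizer_singleton_iff.2 hg.eq.symm)
  obtain ⟨a, ha, ea⟩ := hb
  have e : (b : G) = g * ((a : CC) : G) * g⁻¹ := by
    rw [show ((a : CC) : G) = g⁻¹ * (b : G) * g from ea]
    group
  obtain ⟨r, hr⟩ := hQ.1.1 ⟨a, ha⟩
  refine m.image_mem_of_closed hz hQ hcard hcQ hcore hweak b ?_ (r := r) (Subtype.ext ?_)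
  · rw [e]
    exact hG₁n.conj_mem _ (m.mem_residual ⟨a, ha⟩) g
  · have : ((a : CC) : G) ^ 2 ^ r = 1 := congrArg (fun y : ↥Q => ((y : CC) : G)) hr
    show (b : G) ^ 2 ^ r = 1
    rw [e, conj_pow, this, mul_one, mul_inv_cancel]

end GModel

end CfsgLib.LargeFischer
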