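import Cfsg.Agent.Lib.LargeFischer.General.Lin

/-!
# Two singular planes invariant under a semilinear involution
-/

set_option autoImplicit false
set_option linter.unusedSectionVars false
set_option linter.unusedSimpArgs false
set_option linter.unusedTactic false

namespace CfsgLib.LargeFischer

open QuadraticMap
open CfsgLib.Schur.Tails.UFour (H4)

variable {V : Type*} [AddCommGroup V] [Module (ZMod 2) V] [Finite V]
  {K : Type*} [Group K] [Finite K] [DistribMulAction K V]

/-- The span of two vectors. -/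
def spanTwo (a b : V) : AddSubgroup V where
  carrier := {v | v = 0 ∨ v = a ∨ v = b ∨ v = a + b}
  zero_mem' := .inl rfl
  add_mem' := by
    rintro u w (rfl | rfl | rfl | rfl) (rfl | rfl | rfl | rfl)
    all_goals simp only [Set.mem_ofPred_eq, zero_add, add_zero, vadd_self, eq_self_iff_true, or_true, true_or]
    all_goals first
      | (left; rfl)
      | (right; left; abel_nf; simp [two_smul, vadd_self]; done)
      | (right; right; left; abel_nf; simp [two_smul, vadd_self]; done)
      | (right; right; right; abel)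
  neg_mem' := fun {v} hv => by rwa [← eq_neg_of_add_eq_zero_left (vadd_self v)]

namespace Gen

variable {q : QuadraticForm (ZMod 2) V} {n : K} {M : Subgroup K} {φ : ↥M →* ↥H4} (c : Gen q n M φ)
  (hfree : ∀ v : V, n • v = v → v = 0)

include c hfree

theorem plane_of {x : K} (hxn : x * n = n * n * x) {a b : V} (ha : x • a = a) (hb : x • b = b)
    (qa : q a = 0) (qb : q b = 0) (hab : polar q a (n • b) = 0) (hba : a ≠ 0) (hb0 : b ≠ 0) (hne : a ≠ b) :
    ∃ U : AddSubgroup V, Nat.card ↥U = 16 ∧ a ∈ U ∧ n • a ∈ U ∧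
      ∀ u ∈ U, q u = 0 ∧ n • u ∈ U ∧ x • u ∈ U := by
  have hS : ∀ u ∈ spanTwo a b, x • u = u ∧ q u = 0 ∧ polar q a (n • u) = 0 ∧ polar q b (n • u) = 0 := by
    have hab' : polar q a b = 0 := semi_isotropic c hfree hxn ha hb
    have haa : polar q a (n • a) = 0 := by rw [polar_self_n c hfree, qa]
    have hbb : polar q b (n • b) = 0 := by rw [polar_self_n c hfree, qb]
    have hba' : polar q b (n • a) = 0 := by rw [polar_n_symm c hfree, hab', hab, add_zero]
    rintro u (rfl | rfl | rfl | rfl)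
    · exact ⟨smul_zero x, q_zero q, by rw [smul_zero, QuadraticMap.polar_zero_right],
        by rw [smul_zero, QuadraticMap.polar_zero_right]⟩
    · exact ⟨ha, qa, haa, hba'⟩
    · exact ⟨hb, qb, hab, hbb⟩
    · exact ⟨by rw [smul_add, ha, hb], by rw [q_add, qa, qb, hab', add_zero, add_zero],
        by rw [smul_add, QuadraticMap.polar_add_right, haa, hab, add_zero],
        by rw [smul_add, QuadraticMap.polar_add_right, hba', hbb, add_zero]⟩
  have hSS : ∀ u ∈ spanTwo a b, ∀ w ∈ spanTwo a b, polar q u (n • w) = 0 := by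
    intro u hu w hw
    obtain ⟨-, -, h1, h2⟩ := hS w hw
    rcases hu with rfl | rfl | rfl | rfl
    · exact QuadraticMap.polar_zero_left q _
    · exact h1
    · exact h2
    · rw [QuadraticMap.polar_add_left, h1, h2, add_zero]
  let f : ↥(spanTwo a b) × ↥(spanTwo a b) →+ V :=
    { toFun := fun p => (p.1 : V) + n • (p.2 : V)
      map_zero' := by simp
      map_add' := fun p p' => by
        show ((p.1 : V) + (p'.1 : V)) + n • ((p.2 : V) + (p'.2 : V)) = _
        rw [smul_add]; abel }
  have hinj : Function.Injective f := by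
    rw [injective_iff_map_eq_zero]
    rintro ⟨u, w⟩ h
    have h' : (u : V) + n • (w : V) = 0 := h
    have hw : (w : V) = 0 := semi_disjoint c hfree hxn (hS _ w.2).1 (by rw [← eq_of_vadd h']; exact (hS _ u.2).1)
    have hu : (u : V) = 0 := by rw [hw, smul_zero, add_zero] at h'; exact h'
    exact Prod.ext (Subtype.ext hu) (Subtype.ext hw)
  have hcard : Nat.card ↥(spanTwo a b) = 4 := by
    have e : ((spanTwo a b : AddSubgroup V) : Set V) = {0, a, b, a + b} := rfl
    rw [← SetLike.coe_sort_coe, Nat.card_coe_set_eq, e, Set.ncard_insert_of_notMem, Set.ncard_insert_of_notMem,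
      Set.ncard_pair]
    · exact fun e => hba (left_eq_add.1 (e.trans (add_comm a b)))
    · simp only [Set.mem_insert_iff, Set.mem_singleton_iff, not_or]
      exact ⟨hne, fun e => hb0 (left_eq_add.1 e)⟩
    · simp only [Set.mem_insert_iff, Set.mem_singleton_iff, not_or]
      exact ⟨Ne.symm hba, Ne.symm hb0, fun e => hne (eq_of_vadd e.symm)⟩
  have maA : a ∈ spanTwo a b := .inr (.inl rfl)
  refine ⟨f.range, ?_, ⟨(⟨a, maA⟩, 0), ?_⟩, ⟨(0, ⟨a, maA⟩), ?_⟩, ?_⟩
  · rw [← Nat.card_congr (AddMonoidHom.ofInjective hinj).toEquiv, Nat.card_prod, hcard]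
  · show a + n • (0 : V) = a
    rw [smul_zero, add_zero]
  · show (0 : V) + n • a = n • a
    rw [zero_add]
  rintro _ ⟨⟨u, w⟩, rfl⟩
  show q ((u : V) + n • (w : V)) = 0 ∧ n • ((u : V) + n • (w : V)) ∈ f.range ∧
    x • ((u : V) + n • (w : V)) ∈ f.range
  refine ⟨?_, ⟨(w, u + w), ?_⟩, ⟨(u + w, w), ?_⟩⟩
  · rw [q_add, c.isom, (hS _ u.2).2.1, (hS _ w.2).2.1, hSS _ u.2 _ w.2, add_zero, add_zero]
  · show (w : V) + n • ((u : V) + (w : V)) = n • ((u : V) + n • (w : V))
    rw [smul_add, smul_add, n_quad c hfree]; abel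
  · show ((u : V) + (w : V)) + n • (w : V) = x • ((u : V) + n • (w : V))
    rw [smul_add, (hS _ u.2).1, ← mul_smul x n, hxn, mul_smul, mul_smul, (hS _ w.2).1, n_quad c hfree]
    abel

/-- Two singular planes invariant under a semilinear involution which are not orthogonal. -/
theorem exists_planes {x : K} (hx : x * x = 1) (hxn : x * n = n * n * x) :
    ∃ U₁ U₂ : AddSubgroup V, (Nat.card ↥U₁ = 16 ∧ ∀ u ∈ U₁, q u = 0 ∧ n • u ∈ U₁ ∧ x • u ∈ U₁) ∧
      (Nat.card ↥U₂ = 16 ∧ ∀ u ∈ U₂, q u = 0 ∧ n • u ∈ U₂ ∧ x • u ∈ U₂) ∧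
      ∃ u ∈ U₁, ∃ w ∈ U₂, polar q u w = 1 := by
  classical
  obtain ⟨hC, -⟩ := semi_cases c hfree hx hxn
  have hiso : ∀ {u v : V}, x • u = u → x • v = v → polar q u v = 0 := fun hu hv => semi_isotropic c hfree hxn hu hv
  let B : V → V → ZMod 2 := fun u v => polar q u (n • v)
  let C₀ : AddSubgroup V :=
    { carrier := {v | x • v = v ∧ q v = 0}
      zero_mem' := ⟨smul_zero x, q_zero q⟩
      add_mem' := fun {a b} ha hb => ⟨by rw [smul_add, ha.1, hb.1], by
        rw [q_add, ha.2, hb.2, hiso ha.1 hb.1, add_zero, add_zero]⟩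
      neg_mem' := fun {a} ha => by rwa [← eq_neg_of_add_eq_zero_left (vadd_self a)] }
  have hC0le : C₀ ≤ fixOne (V := V) x := fun v hv => hv.1
  have hC0 : 32 ≤ Nat.card ↥C₀ := by
    let g : ↥(fixOne (V := V) x) →+ ZMod 2 :=
      { toFun := fun v => q (v : V)
        map_zero' := q_zero q
        map_add' := fun u v => by
          show q ((u : V) + v) = _
          rw [q_add, hiso u.2 v.2, add_zero] }
    have h1 := g.ker.card_mul_index
    rw [AddSubgroup.index_ker, hC] at h1
    have h2 : Nat.card ↥g.range ≤ 2 := le_of_le_of_eq (Finite.card_subtype_le _) (Nat.card_zmod 2)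
    have h3 : Nat.card ↥g.ker ≤ Nat.card ↥C₀ :=
      Nat.card_le_card_of_injective (fun v => (⟨((v : ↥(fixOne (V := V) x)) : V), v.1.2, v.2⟩ : ↥C₀))
        fun v w h => Subtype.ext (Subtype.ext (congrArg (fun t : ↥C₀ => (t : V)) h))
    nlinarith
  -- the kernel of a functional
  have hker : ∀ t : V, 16 ≤ Nat.card {v : ↥C₀ // B t v = 0} := fun t => by
    let g : ↥C₀ →+ ZMod 2 :=
      { toFun := fun v => B t v
        map_zero' := by simp [B, QuadraticMap.polar_zero_right]
        map_add' := fun u v => by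
          show polar q t (n • ((u : V) + v)) = _
          rw [smul_add, QuadraticMap.polar_add_right] }
    have h1 := g.ker.card_mul_index
    rw [AddSubgroup.index_ker] at h1
    have h2 : Nat.card ↥g.range ≤ 2 := le_of_le_of_eq (Finite.card_subtype_le _) (Nat.card_zmod 2)
    have h3 : Nat.card ↥g.ker = Nat.card {v : ↥C₀ // B t v = 0} := rfl
    nlinarith
  -- a pair of vectors with product one
  obtain ⟨e, he, f, hf, hef⟩ : ∃ e ∈ C₀, ∃ f ∈ C₀, B e f = 1 := by
    by_contra h
    push Not at h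
    have hall : ∀ e ∈ C₀, ∀ f ∈ C₀, B e f = 0 := fun e he f hf => (z2_cases _).resolve_right (h e he f hf)
    -- then a subgroup of order at least 32 · 32 is totally isotropic
    let U : ↥C₀ × ↥C₀ → ↥(perpSub q C₀) := fun p => ⟨(p.1 : V) + n • (p.2 : V), fun w hw => by
      rw [QuadraticMap.polar_add_left, hiso p.1.2.1 hw.1, QuadraticMap.polar_comm q (n • (p.2 : V)),
        show polar q w (n • (p.2 : V)) = B w p.2 from rfl, hall w hw _ p.2.2, add_zero]⟩
    have hUinj : Function.Injective U := by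
      rintro ⟨a, b⟩ ⟨a', b'⟩ h'
      have h'' : (a : V) + n • (b : V) = (a' : V) + n • (b' : V) := congrArg Subtype.val h'
      have hd : n • ((b : V) - b') = (a' : V) - a := by
        rw [smul_sub, sub_eq_sub_iff_add_eq_add, add_comm, h'', add_comm]
      have h0 : (b : V) - b' = 0 := semi_disjoint c hfree hxn (C₀.sub_mem b.2 b'.2).1
        (by rw [hd]; exact (C₀.sub_mem a'.2 a.2).1)
      have hb : b = b' := Subtype.ext (sub_eq_zero.1 h0)
      subst hb
      exact Prod.ext (Subtype.ext (add_right_cancel h'')) rfl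
    have h1 := Nat.card_le_card_of_injective U hUinj
    rw [Nat.card_prod] at h1
    have h2 := perpSub_card q c.nondeg C₀
    rw [c.cardV] at h2
    norm_num at h2
    nlinarith [Nat.mul_le_mul h1 hC0]
  -- second vectors
  have second : ∀ t ∈ C₀, ∃ t' ∈ C₀, B t t' = 0 ∧ t' ≠ 0 ∧ t' ≠ t := by
    intro t ht
    by_contra h
    push Not at h
    have hsub : Nat.card {v : ↥C₀ // B t v = 0} ≤ ({0, t} : Set V).ncard := by
      rw [← Nat.card_coe_set_eq]
      refine Nat.card_le_card_of_injective (fun v => ⟨((v : ↥C₀) : V), ?_⟩)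
        fun v w h => Subtype.ext (Subtype.ext (congrArg (fun s : ↥({0, t} : Set V) => (s : V)) h))
      by_cases h0 : ((v : ↥C₀) : V) = 0
      · exact Or.inl h0
      · exact Or.inr (h _ (v : ↥C₀).2 v.2 h0)
    have := hker t
    have := Set.ncard_insert_le (0 : V) {t}
    rw [Set.ncard_singleton] at this
    omega
  have he0 : e ≠ 0 := fun h => by simp [B, h, QuadraticMap.polar_zero_left] at hef
  have hf0 : f ≠ 0 := fun h => by simp [B, h, QuadraticMap.polar_zero_right] at hef
  obtain ⟨e', he', hee', he'0, he'e⟩ := second e he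
  obtain ⟨f', hf', hff', hf'0, hf'f⟩ := second f hf
  obtain ⟨U₁, h1, h1a, -, h1'⟩ := plane_of c hfree hxn he.1 he'.1 he.2 he'.2 hee' he0 he'0 (Ne.symm he'e)
  obtain ⟨U₂, h2, -, h2a, h2'⟩ := plane_of c hfree hxn hf.1 hf'.1 hf.2 hf'.2 hff' hf0 hf'0 (Ne.symm hf'f)
  exact ⟨U₁, U₂, ⟨h1, h1'⟩, ⟨h2, h2'⟩, e, h1a, n • f, h2a, hef⟩

end Gen

end CfsgLib.LargeFischer
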