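import Cfsg.Agent.Lib.LargeFischer.General.Conj

/-!
# Subgroups of `Q` and elements of the centraliser, seen in the chart
-/

set_option autoImplicit false
set_option linter.unusedSectionVars false
set_option linter.style.haveILetI false

namespace CfsgLib.LargeFischer.GModel

open Subgroup QuadraticMap
open CfsgLib.Schur.Tails.UFour (H4)

variable {G : Type*} [Group G] [Finite G] {z : G} {Q : Subgroup (centralizer ({z} : Set G))} [Q.Normal]
  {V : Type*} [AddCommGroup V] [Module (ZMod 2) V] [DistribMulAction ((centralizer ({z} : Set G)) ⧸ Q) V] [Finite V]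
  {q : QuadraticForm (ZMod 2) V} {π : ↥Q → V} {n : (centralizer ({z} : Set G)) ⧸ Q}
  {M : Subgroup ((centralizer ({z} : Set G)) ⧸ Q)} {φ : ↥M →* ↥H4} (m : GModel z Q q π n M φ)

include m

theorem z_comm (c : centralizer ({z} : Set G)) : (c : G) * z = z * (c : G) :=
  mem_centralizer_singleton_iff.1 c.2

theorem z_sq (hz : orderOf z = 2) : z * z = 1 ∧ z ≠ 1 := by
  have := orderOf_eq_prime_iff.1 hz
  rwa [pow_two] at this

/-- The image in the chart of a subgroup of `Q`. -/
def img (B : Subgroup ↥Q) : AddSubgroup V where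
  carrier := π '' (B : Set ↥Q)
  zero_mem' := ⟨1, one_mem B, m.pi_one⟩
  add_mem' := by
    rintro _ _ ⟨a, ha, rfl⟩ ⟨b, hb, rfl⟩
    exact ⟨a * b, mul_mem ha hb, m.pi_mul a b⟩
  neg_mem' := by
    rintro _ ⟨a, ha, rfl⟩
    exact ⟨a, ha, (eq_neg_of_add_eq_zero_left (vadd_self _))⟩

theorem mem_img {B : Subgroup ↥Q} {a : ↥Q} (ha : a ∈ B) : π a ∈ m.img B := ⟨a, ha, rfl⟩

theorem pi_z {zQ : ↥Q} (hzQ : ((zQ : centralizer ({z} : Set G)) : G) = z) : π zQ = 0 := (m.ker zQ).2 (.inr hzQ)

/-- The order of a subgroup containing the central involution. -/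
theorem card_img (hz : orderOf z = 2) {zQ : ↥Q} (hzQ : ((zQ : centralizer ({z} : Set G)) : G) = z) {B : Subgroup ↥Q}
    (hB : zQ ∈ B) : Nat.card ↥B = 2 * Nat.card ↥(m.img B) := by
  let f : ↥B →* Multiplicative ↥(m.img B) := MonoidHom.mk' (fun a => Multiplicative.ofAdd ⟨π (a : ↥Q), _, a.2, rfl⟩)
    fun a b => congrArg Multiplicative.ofAdd (Subtype.ext (m.pi_mul _ _))
  have hsurj : Function.Surjective f := fun v => by
    obtain ⟨a, ha, hav⟩ := (Multiplicative.toAdd v).2
    exact ⟨⟨a, ha⟩, congrArg Multiplicative.ofAdd (Subtype.ext hav)⟩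
  have h1 := f.ker.card_mul_index
  rw [index_ker, MonoidHom.range_eq_top.2 hsurj, card_top, Nat.card_congr Multiplicative.toAdd] at h1
  have h2 : Nat.card ↥f.ker = 2 := by
    have h3 : (f.ker.map B.subtype) = zpowers zQ := by
      ext y
      constructor
      · rintro ⟨w, hw, rfl⟩
        have h4 : π (w : ↥Q) = 0 := congrArg (fun v : Multiplicative ↥(m.img B) => Subtype.val (Multiplicative.toAdd v))
          (MonoidHom.mem_ker.1 hw)
        rcases (m.ker _).1 h4 with e | e
        · rw [show B.subtype w = 1 from Subtype.ext (Subtype.ext e)]; exact one_mem _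
        · rw [show B.subtype w = zQ from Subtype.ext (Subtype.ext (e.trans hzQ.symm))]; exact mem_zpowers _
      · intro hy
        obtain ⟨i, rfl⟩ := mem_zpowers_iff.1 hy
        refine ⟨⟨zQ, hB⟩ ^ i, zpow_mem (MonoidHom.mem_ker.2 (congrArg Multiplicative.ofAdd (Subtype.ext (m.pi_z hzQ)))) i, ?_⟩
        simp
    rw [← card_map_of_injective (f := B.subtype) (subtype_injective _), h3, Nat.card_zpowers,
      ← Subgroup.orderOf_coe, ← Subgroup.orderOf_coe, hzQ, hz]
  rw [← h1, h2]

/-- Fixing a vector is commuting up to the central involution. -/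
theorem fixed_iff (c : centralizer ({z} : Set G)) (a : ↥Q) :
    (QuotientGroup.mk c : (centralizer ({z} : Set G)) ⧸ Q) • π a = π a ↔
      ((c : G) * ((a : centralizer ({z} : Set G)) : G) * (c : G)⁻¹ = (a : centralizer ({z} : Set G)) ∨
      (c : G) * ((a : centralizer ({z} : Set G)) : G) * (c : G)⁻¹ = ((a : centralizer ({z} : Set G)) : G) * z) := by
  have h2 : (((MulAut.conjNormal c a : ↥Q) : centralizer ({z} : Set G)) : G) =
      (c : G) * ((a : centralizer ({z} : Set G)) : G) * (c : G)⁻¹ := by simp [MulAut.conjNormal_apply]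
  rw [m.equiv]
  constructor
  · intro e
    rcases m.pi_eq e.symm with e' | e' <;> rw [h2] at e'
    · exact .inl e'
    · exact .inr e'
  · rintro (e | e)
    · exact congrArg π (Subtype.ext (Subtype.ext (h2.trans e)))
    · refine eq_of_vadd ?_
      rw [add_comm, ← m.pi_inv a, ← m.pi_mul]
      refine (m.ker _).2 (.inr ?_)
      rw [Subgroup.coe_mul, Subgroup.coe_mul, Subgroup.coe_inv, Subgroup.coe_inv, h2, e]
      group

/-- The moved vectors come from commutators. -/
theorem move_eq (c : centralizer ({z} : Set G)) (a : ↥Q) :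
    moveHom (QuotientGroup.mk c : (centralizer ({z} : Set G)) ⧸ Q) (π a) = π (MulAut.conjNormal c a * a⁻¹) := by
  rw [moveHom_apply, m.equiv, m.pi_mul, m.pi_inv]

/-- Commuting elements of `Q` are orthogonal. -/
theorem perp_of_comm {a b : ↥Q} (h : ((a : centralizer ({z} : Set G)) : G) * (b : centralizer ({z} : Set G)) =
    ((b : centralizer ({z} : Set G)) : G) * (a : centralizer ({z} : Set G))) : polar q (π a) (π b) = 0 :=
  (m.polar_iff a b).2 h

end CfsgLib.LargeFischer.GModel
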