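import Cfsg.Agent.Lib.LargeFischer.General.Fused
import Cfsg.Agent.Lib.LargeFischer.General.Sub
import Cfsg.Agent.Lib.LargeFischer.General.Bound
import Cfsg.Agent.Lib.LargeFischer.Rest

/-!
# The elementary group of a conjugate of the central involution in `Q`
-/

set_option autoImplicit false
set_option linter.unusedSectionVars false
set_option linter.style.haveILetI false

namespace CfsgLib.LargeFischer.GModel

open Subgroup QuadraticMap CfsgLib.LargeExtra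
open CfsgLib.Schur.Tails.UFour (H4)

variable {G : Type*} [Group G] [Finite G] {z : G} {Q : Subgroup (centralizer ({z} : Set G))} [Q.Normal]
  {V : Type*} [AddCommGroup V] [Module (ZMod 2) V] [DistribMulAction ((centralizer ({z} : Set G)) ⧸ Q) V] [Finite V]
  {q : QuadraticForm (ZMod 2) V} {π : ↥Q → V} {n : (centralizer ({z} : Set G)) ⧸ Q}
  {M : Subgroup ((centralizer ({z} : Set G)) ⧸ Q)} {φ : ↥M →* ↥H4} (m : GModel z Q q π n M φ)

set_option quotPrecheck false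
local notation "CC" => (centralizer ({z} : Set G))

include m

theorem z_mem_img (hcQ : centralizer (Q : Set CC) ≤ Q) : z ∈ Q.map (Subgroup.subtype CC) :=
  ⟨⟨z, mem_centralizer_singleton_iff.2 rfl⟩,
    hcQ (mem_centralizer_iff.2 fun x _ => Subtype.ext (mem_centralizer_singleton_iff.1 x.2)), rfl⟩

theorem pairHyp (hz : orderOf z = 2) (hQ : Cfsg.IsExtraspecial 2 Q) (hcQ : centralizer (Q : Set CC) ≤ Q) {g : G}
    (hmem : g * z * g⁻¹ ∈ Q.map (Subgroup.subtype CC)) (hne : g * z * g⁻¹ ≠ z) :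
    PairHyp (Q.map (Subgroup.subtype CC)) z g := by
  set Qg := Q.map (Subgroup.subtype CC) with hQg
  have hEg : Cfsg.IsExtraspecial 2 Qg :=
    CfsgLib.LargeExtra.isExtraspecial_of_mulEquiv (Q.equivMapOfInjective _ (subtype_injective _)) hQ
  have hcz : ∀ y ∈ Qg, y * z = z * y := by
    rintro _ ⟨a, -, rfl⟩
    exact mem_centralizer_singleton_iff.1 a.2
  have hzQ : z ∈ Qg := m.z_mem_img hcQ
  have hzc : (⟨z, hzQ⟩ : Qg) ∈ center Qg := mem_center_iff.2 fun y => Subtype.ext (hcz y y.2)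
  have hcentre : (center Qg).map Qg.subtype = zpowers z := by
    refine (eq_of_le_of_card_ge (K := (center Qg).map Qg.subtype)
      (zpowers_le.2 (show z ∈ (center Qg).map Qg.subtype from ⟨⟨z, hzQ⟩, hzc, rfl⟩)) ?_).symm
    rw [card_map_of_injective Qg.subtype_injective, hEg.2, Nat.card_zpowers, hz]
  refine ⟨hEg, hcentre, hz, le_antisymm (fun x hx => ?_) ?_, fun c hc => ?_, hmem, hne⟩
  · rw [mem_centralizer_iff] at hx
    have hxC : x ∈ CC := mem_centralizer_singleton_iff.2 (hx z hzQ).symm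
    have hxQ : (⟨x, hxC⟩ : CC) ∈ Q := hcQ (mem_centralizer_iff.2 fun y hy => Subtype.ext (hx y ⟨y, hy, rfl⟩))
    exact ⟨⟨x, ⟨_, hxQ, rfl⟩⟩, mem_center_iff.2 fun y => Subtype.ext (hx y y.2), rfl⟩
  · rintro _ ⟨x, hx, rfl⟩
    exact mem_centralizer_iff.2 fun y hy => congrArg Subtype.val (mem_center_iff.1 hx ⟨y, hy⟩)
  · rw [mem_normalizer_iff]
    intro y
    constructor
    · rintro ⟨a, ha, rfl⟩
      exact ⟨(⟨c, hc⟩ : CC) * a * (⟨c, hc⟩ : CC)⁻¹, (inferInstance : Q.Normal).conj_mem a ha _, rfl⟩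
    · rintro ⟨a, ha, e⟩
      refine ⟨(⟨c, hc⟩ : CC)⁻¹ * a * (⟨c, hc⟩ : CC), by simpa using (inferInstance : Q.Normal).conj_mem a ha (⟨c, hc⟩ : CC)⁻¹, ?_⟩
      calc (Subgroup.subtype CC) ((⟨c, hc⟩ : CC)⁻¹ * a * (⟨c, hc⟩ : CC)) = c⁻¹ * (Subgroup.subtype CC) a * c := by simp
        _ = y := by rw [e]; group

/-- The elementary groups of all conjugates in `Q` lie in one subgroup. -/
theorem elem_mem (hz : orderOf z = 2) (hQ : Cfsg.IsExtraspecial 2 Q) (hcard : Nat.card ↥Q = 2 ^ 13)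
    (hcQ : centralizer (Q : Set CC) ≤ Q) {g₀ : G} (h₀ : g₀ * z * g₀⁻¹ ∈ Q.map (Subgroup.subtype CC))
    (h₀' : g₀ * z * g₀⁻¹ ≠ z) :
    ∃ X : Subgroup (CC ⧸ Q), M ≤ X ∧ M.relIndex X = 2 ∧ (∀ k : CC ⧸ Q, k ∈ X → k ∉ M → k * n = n * n * k) ∧
      ∀ g : G, g * z * g⁻¹ ∈ Q.map (Subgroup.subtype CC) → g * z * g⁻¹ ≠ z →
        ∀ b : CC, g⁻¹ * (b : G) * g ∈ Q.map (Subgroup.subtype CC) → (QuotientGroup.mk b : CC ⧸ Q) ∈ X := by
  classical
  have hfree : ∀ v : V, n • v = v → v = 0 := fun v => m.gen.free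
  set Qg := Q.map (Subgroup.subtype CC) with hQg
  have hmemQg : ∀ {y : G}, y ∈ Qg → ∃ a : ↥Q, ((a : CC) : G) = y := by
    rintro _ ⟨a, ha, rfl⟩
    exact ⟨⟨a, ha⟩, rfl⟩
  obtain ⟨x₀, hx₀⟩ := hmemQg h₀
  obtain ⟨hs₀, D₀, hd₀, -, -, hD₀, hinv₀⟩ := m.centData_full hfree (m.pairHyp hz hQ hcQ h₀ h₀') hcard hx₀
  set E₀ := ((Qg.map (MulAut.conj g₀).toMonoidHom ⊓ CC).subgroupOf CC).map (QuotientGroup.mk' Q) with hE₀
  obtain ⟨n', φ', hn', hc, hd'⟩ := m.gen.core_sub hd₀ hD₀ hinv₀ hs₀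
  refine ⟨M ⊔ E₀, le_sup_left, m.gen.relIndex_two hd₀ hD₀ hinv₀ hs₀, ?_, ?_⟩
  · intro k hk hkM
    have h1 := hc.conj_n_outer ⟨hs₀, _, _, hd'⟩ (u := ⟨k, hk⟩) fun h => hkM h
    have h2 := congrArg Subtype.val h1
    simpa [hn'] using h2
  intro g hg hg' b hb
  obtain ⟨x, hx⟩ := hmemQg hg
  obtain ⟨hs, D, hd, -, -, hD, hinv⟩ := m.centData_full hfree (m.pairHyp hz hQ hcQ hg hg') hcard hx
  obtain ⟨⟨k, hkM⟩, hk⟩ := m.gen.mem_orbit hd₀ hD₀ hinv₀ hs₀ (hd.sing _ hd.mem) hs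
    (m.gen.stab_card hd hD hinv hs).2
  change k • π x₀ = π x at hk
  obtain ⟨c₀, rfl⟩ := QuotientGroup.mk_surjective k
  -- adjust the lift
  obtain ⟨c, hcM, hcx⟩ : ∃ c : CC, (QuotientGroup.mk c : CC ⧸ Q) ∈ M ∧
      (c : G) * ((x₀ : CC) : G) * (c : G)⁻¹ = ((x : CC) : G) := by
    rw [m.equiv] at hk
    have h2 : (((MulAut.conjNormal c₀ x₀ : ↥Q) : CC) : G) = (c₀ : G) * ((x₀ : CC) : G) * (c₀ : G)⁻¹ := by
      simp [MulAut.conjNormal_apply]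
    rcases m.pi_eq hk with e | e
    · exact ⟨c₀, hkM, (e.trans h2).symm⟩
    · rw [h2] at e
      obtain ⟨v, hv⟩ : ∃ v, polar q (π x₀) v ≠ 0 := by
        by_contra hc'
        simp only [not_exists, not_not] at hc'
        exact hs₀ (m.gen.nondeg _ hc')
      obtain ⟨a, rfl⟩ := m.surj v
      have ha : ((a : CC) : G) * ((x₀ : CC) : G) * ((a : CC) : G)⁻¹ = ((x₀ : CC) : G) * z := by
        have h3 : π (a * x₀ * a⁻¹) = π x₀ := by
          rw [m.pi_mul, m.pi_mul, m.pi_inv, add_comm (π a), add_assoc, vadd_self, add_zero]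
        rcases m.pi_eq h3.symm with e' | e' <;> simp only [Subgroup.coe_mul, Subgroup.coe_inv] at e'
        · exact absurd ((m.polar_iff x₀ a).2 (mul_inv_eq_iff_eq_mul.1 e').symm) hv
        · exact e'
      refine ⟨c₀ * (a : CC), by rw [QuotientGroup.mk_mul, (QuotientGroup.eq_one_iff _).2 a.2, mul_one]; exact hkM, ?_⟩
      rw [e, Subgroup.coe_mul]
      calc (c₀ : G) * ((a : CC) : G) * ((x₀ : CC) : G) * ((c₀ : G) * ((a : CC) : G))⁻¹
          = (c₀ : G) * (((a : CC) : G) * ((x₀ : CC) : G) * ((a : CC) : G)⁻¹) * (c₀ : G)⁻¹ := by group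
        _ = ((c₀ : G) * ((x₀ : CC) : G) * (c₀ : G)⁻¹) * ((c₀ : G) * z * (c₀ : G)⁻¹) := by rw [ha]; group
        _ = (c₀ : G) * ((x₀ : CC) : G) * (c₀ : G)⁻¹ * z := by rw [m.z_comm c₀, mul_inv_cancel_right]
  -- the two conjugates of `Q` agree
  have hw : g⁻¹ * ((c : G) * g₀) ∈ CC := by
    refine mem_centralizer_singleton_iff.2 ?_
    have e : (c : G) * (g₀ * z * g₀⁻¹) * (c : G)⁻¹ = g * z * g⁻¹ := by rw [← hx₀, hcx, hx]
    calc g⁻¹ * ((c : G) * g₀) * z = g⁻¹ * ((c : G) * (g₀ * z * g₀⁻¹) * (c : G)⁻¹) * ((c : G) * g₀) := by group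
      _ = z * (g⁻¹ * ((c : G) * g₀)) := by rw [e]; group
  obtain ⟨t, ht, htb⟩ := hb
  have hb₀ : g₀⁻¹ * ((c⁻¹ * b * c : CC) : G) * g₀ ∈ Qg := by
    refine ⟨(⟨_, hw⟩ : CC)⁻¹ * t * ⟨_, hw⟩, by simpa using (inferInstance : Q.Normal).conj_mem t ht (⟨_, hw⟩ : CC)⁻¹, ?_⟩
    simp only [Subgroup.subtype_apply, Subgroup.coe_mul, Subgroup.coe_inv] at htb ⊢
    rw [htb]; group
  have hmem : (QuotientGroup.mk (c⁻¹ * b * c) : CC ⧸ Q) ∈ E₀ :=
    ⟨c⁻¹ * b * c, ⟨⟨_, hb₀, by simp [MulAut.conj_apply, mul_assoc]⟩,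
      (c⁻¹ * b * c).2⟩, rfl⟩
  have e : (QuotientGroup.mk b : CC ⧸ Q) = QuotientGroup.mk c * QuotientGroup.mk (c⁻¹ * b * c) * (QuotientGroup.mk c)⁻¹ := by
    rw [← QuotientGroup.mk_mul, ← QuotientGroup.mk_inv, ← QuotientGroup.mk_mul]
    congr 1
    group
  rw [e]
  exact mul_mem (mul_mem (mem_sup_left hcM) (mem_sup_right hmem)) (inv_mem (mem_sup_left hcM))

end CfsgLib.LargeFischer.GModel
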