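import Cfsg.Agent.Lib.LargeFischer.General.Transfer
import Cfsg.Agent.Lib.LargeFischer.General.Pair

/-!
# With quotient of order four there is a subgroup of index two
-/

set_option autoImplicit false
set_option linter.unusedSectionVars false
set_option linter.style.haveILetI false
set_option maxHeartbeats 1000000

namespace CfsgLib.LargeFischer.GModel

open Subgroup QuadraticMap
open CfsgLib.Schur.Tails.UFour (H4)
open CfsgLib.InvolChar.OrbitTransfer CfsgLib.InvolChar.LargeExtraChar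

variable {G : Type*} [Group G] [Finite G] {z : G} {Q : Subgroup (centralizer ({z} : Set G))} [Q.Normal]
  {V : Type*} [AddCommGroup V] [Module (ZMod 2) V] [DistribMulAction ((centralizer ({z} : Set G)) ⧸ Q) V] [Finite V]
  {q : QuadraticForm (ZMod 2) V} {π : ↥Q → V} {n : (centralizer ({z} : Set G)) ⧸ Q}
  {M : Subgroup ((centralizer ({z} : Set G)) ⧸ Q)} {φ : ↥M →* ↥H4} (m : GModel z Q q π n M φ)

set_option quotPrecheck false
local notation "CC" => (centralizer ({z} : Set G))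

include m

/-- A semilinear involution outside a given subgroup of index two over `M`. -/
theorem exists_semilinear (h4 : M.index = 4) {X : Subgroup (CC ⧸ Q)} (hMX : M ≤ X) (hX : M.relIndex X = 2)
    (hout : ∀ k : CC ⧸ Q, k ∈ X → k ∉ M → k * n = n * n * k) :
    ∃ x : CC ⧸ Q, x * x = 1 ∧ x * n = n * n * x ∧ x ∉ X := by
  classical
  obtain ⟨S, hS4, hSM, hS⟩ := m.gen.exists_four h4
  haveI := m.gen.normalM
  have hXi : X.index = 2 := by
    have h1 := Subgroup.relIndex_mul_index hMX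
    rw [hX, h4] at h1
    omega
  have hinf : ∀ s ∈ S, s ∈ M → s = 1 := fun s hs hs' => by
    have : s ∈ S ⊓ M := ⟨hs, hs'⟩
    rwa [hSM, mem_bot] at this
  -- representatives of all cosets
  have hrep : ∀ k : CC ⧸ Q, ∃ s ∈ S, s⁻¹ * k ∈ M := by
    intro k
    let f : ↥S → (CC ⧸ Q) ⧸ M := fun s => ((s : CC ⧸ Q) : (CC ⧸ Q) ⧸ M)
    have hf : Function.Injective f := fun s t e => by
      refine Subtype.ext (inv_mul_eq_one.1 (hinf _ (mul_mem (inv_mem s.2) t.2) (QuotientGroup.eq.1 e)))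
    haveI := Fintype.ofFinite ↥S
    haveI := Fintype.ofFinite ((CC ⧸ Q) ⧸ M)
    have hsurj : Function.Surjective f :=
      ((Fintype.bijective_iff_injective_and_card f).2 ⟨hf, by
        rw [← Nat.card_eq_fintype_card, ← Nat.card_eq_fintype_card, hS4, ← Subgroup.index_eq_card, h4]⟩).2
    obtain ⟨s, hs⟩ := hsurj (k : (CC ⧸ Q) ⧸ M)
    exact ⟨s, s.2, QuotientGroup.eq.1 hs⟩
  obtain ⟨t, htX, htM⟩ : ∃ t ∈ X, t ∉ M := by
    by_contra h
    push Not at h
    rw [Subgroup.relIndex_eq_one.2 h] at hX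
    omega
  obtain ⟨t', ht'S, ht'⟩ := hrep t
  have ht'X : t' ∈ X := by simpa using mul_mem htX (inv_mem (hMX ht'))
  have ht'M : t' ∉ M := fun h => htM (by simpa using mul_mem h ht')
  have hinv' := hout t' ht'X ht'M
  obtain ⟨w, hwX⟩ : ∃ w, w ∉ X := by
    by_contra h
    push Not at h
    rw [show X = ⊤ from eq_top_iff.2 fun k _ => h k, Subgroup.index_top] at hXi
    omega
  obtain ⟨f, hfS, hf⟩ := hrep w
  have hfX : f ∉ X := fun h => hwX (by simpa using mul_mem h (hMX hf))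
  rcases m.gen.conj_n f with e | e
  · refine ⟨f * t', ?_, ?_, fun h => hfX (by simpa using mul_mem h (inv_mem ht'X))⟩
    · exact (hS _ (mul_mem hfS ht'S)).1
    · have e' : f * n = n * f := mul_inv_eq_iff_eq_mul.1 e
      calc f * t' * n = f * (n * n * t') := by rw [mul_assoc, hinv']
        _ = (f * n) * n * t' := by group
        _ = n * (f * n) * t' := by nth_rewrite 1 [e']; group
        _ = n * n * (f * t') := by rw [e']; group
  · exact ⟨f, (hS f hfS).1, mul_inv_eq_iff_eq_mul.1 e, hfX⟩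

/-- The transfer argument. -/
theorem false_of_four (hz : orderOf z = 2) (hQ : Cfsg.IsExtraspecial 2 Q) (hcard : Nat.card ↥Q = 2 ^ 13)
    (hcQ : centralizer (Q : Set CC) ≤ Q) (hno : ∀ f : G →* Multiplicative (ZMod 2), ∀ g, f g = 1)
    {g₀ : G} (h₀ : g₀ * z * g₀⁻¹ ∈ Q.map (Subgroup.subtype CC)) (h₀' : g₀ * z * g₀⁻¹ ≠ z)
    (h4 : M.index = 4) : False := by
  classical
  have hfree : ∀ v : V, n • v = v → v = 0 := fun v => m.gen.free
  obtain ⟨hzz, hz1⟩ := m.z_sq hz
  obtain ⟨X, hMX, hX2, hout, hX⟩ := m.elem_mem hz hQ hcard hcQ h₀ h₀'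
  have hXi : X.index = 2 := by
    have h1 := Subgroup.relIndex_mul_index hMX
    rw [hX2, h4] at h1
    omega
  set Qg := Q.map (Subgroup.subtype CC) with hQg
  have hzQ : z ∈ Qg := m.z_mem_img hcQ
  have hQC : Qg ≤ CC := map_subtype_le _
  have hQn : ∀ c ∈ CC, ∀ y ∈ Qg, c * y * c⁻¹ ∈ Qg := fun c hc y hy => by
    obtain ⟨a, ha, rfl⟩ := hy
    exact ⟨⟨c, hc⟩ * a * (⟨c, hc⟩ : CC)⁻¹, (inferInstance : Q.Normal).conj_mem a ha _, rfl⟩
  have hext : Cfsg.IsExtraspecial 2 Qg :=
    CfsgLib.LargeExtra.isExtraspecial_of_mulEquiv (Q.equivMapOfInjective _ (subtype_injective _)) hQ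
  have hcent : centralizer (Qg : Set G) ≤ Qg := by
    intro x hx
    rw [mem_centralizer_iff] at hx
    have hxC : x ∈ CC := mem_centralizer_singleton_iff.2 (hx z hzQ).symm
    exact ⟨⟨x, hxC⟩, hcQ (mem_centralizer_iff.2 fun y hy => Subtype.ext (hx y ⟨y, hy, rfl⟩)), rfl⟩
  -- the character
  let χ : G → ZMod 2 := fun g => if img' Q g ∈ X then 0 else 1
  have hχ : Additive' CC χ := by
    intro a ha b hb
    have e : img' Q (a * b) = img' Q a * img' Q b := by
      rw [img'_eq (mul_mem ha hb), img'_eq ha, img'_eq hb]; rfl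
    simp only [χ, e]
    have h := Subgroup.mul_mem_iff_of_index_two hXi (a := img' Q a) (b := img' Q b)
    by_cases h1 : img' Q a ∈ X <;> by_cases h2 : img' Q b ∈ X <;> simp [h, h1, h2]
    decide
  have hχ0 : ∀ (g : G) (hg : g ∈ CC), (QuotientGroup.mk ⟨g, hg⟩ : CC ⧸ Q) ∈ X → χ g = 0 := fun g hg h => by
    simp only [χ, img'_eq hg, if_pos h]
  obtain ⟨x₁, hx₁, hx₁n, hx₁X⟩ := m.exists_semilinear h4 hMX hX2 hout
  obtain ⟨⟨x, hxC⟩, rfl⟩ := QuotientGroup.mk_surjective x₁
  have hxχ : χ x = 1 := by simp only [χ, img'_eq hxC, if_neg hx₁X]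
  obtain ⟨U₁, U₂, ⟨hU₁, hU₁'⟩, ⟨hU₂, hU₂'⟩, u₁, hu₁, u₂, hu₂, hu12⟩ := Gen.exists_planes m.gen hfree hx₁ hx₁n
  haveI := Fintype.ofFinite (G ⧸ CC)
  -- conjugates in `Q`
  have hback : ∀ g : G, g * z * g⁻¹ ∈ Qg → g * z * g⁻¹ ≠ z → g⁻¹ * z * g ∈ Qg ∧ g⁻¹ * z * g ≠ z := by
    intro g hg hg'
    refine ⟨CfsgLib.LargeExtra.PairHyp.mem_map_iff.1 (m.pairHyp hz hQ hcQ hg hg').automizer.2, fun e => hg' ?_⟩
    calc g * z * g⁻¹ = g * (g⁻¹ * z * g) * g⁻¹ := by rw [e]
      _ = z := by group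
  refine one_ne_zero (hxχ.symm.trans (CharSplit.char_zero_split hno hzz hz1 Qg hQC hQn hext hcent hχ ?_ hxC ?_))
  · -- an orbit of length two
    intro c hcz hcC hu0 p hp hpc hpν hidx
    set g := c.out with hg
    set y := cj z c with hyd
    have hye : y = g * z * g⁻¹ := rfl
    by_cases hyQ : y ∈ Qg
    · obtain ⟨hb1, hb2⟩ := hback g (hye ▸ hyQ) (hye ▸ hcz)
      have hpH : g⁻¹ * p * g ∈ CC := by
        refine mem_centralizer_singleton_iff.2 ?_
        have h1 := (smul_eq_iff_comm p c).1 hpc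
        rw [← hyd, hye] at h1
        calc g⁻¹ * p * g * z = g⁻¹ * (p * (g * z * g⁻¹)) * g := by group
          _ = g⁻¹ * (g * z * g⁻¹ * p) * g := by rw [h1]
          _ = z * (g⁻¹ * p * g) := by group
      refine hpν (hχ0 _ hpH (hX g⁻¹ (by rwa [inv_inv]) (by rwa [inv_inv]) _ ?_))
      show g⁻¹⁻¹ * (g⁻¹ * p * g) * g⁻¹ ∈ Qg
      rwa [show g⁻¹⁻¹ * (g⁻¹ * p * g) * g⁻¹ = p by group]
    · -- a transvection
      have hy1 : img' Q y ≠ 1 := fun e => hyQ (by
        rw [img'_eq hcC, QuotientGroup.eq_one_iff] at e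
        exact ⟨_, e, rfl⟩)
      have hyy : y * y = 1 := by
        rw [hye, show g * z * g⁻¹ * (g * z * g⁻¹) = g * (z * z) * g⁻¹ by group, hzz]; group
      have hy2 : img' Q y * img' Q y = 1 := by
        rw [img'_eq hcC, ← QuotientGroup.mk_mul, show (⟨y, hcC⟩ : CC) * ⟨y, hcC⟩ = 1 from Subtype.ext hyy,
          QuotientGroup.mk_one]
      obtain ⟨zQ, hzQe⟩ : ∃ a : ↥Q, ((a : CC) : G) = z := by
        obtain ⟨a, ha, e⟩ := hzQ
        exact ⟨⟨a, ha⟩, e⟩
      let P : Subgroup ↥Q := (centralizer ({y} : Set G)).comap ((Subgroup.subtype CC).comp Q.subtype)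
      have hstab : Nat.card ↥(MulAction.stabilizer Qg c) ≤ Nat.card ↥P := by
        have hpick : ∀ t : ↥(MulAction.stabilizer Qg c), ∃ a : ↥P, (((a : ↥Q) : CC) : G) = ((t : ↥Qg) : G) := by
          intro t
          obtain ⟨a, ha, e⟩ := (t : ↥Qg).2
          refine ⟨⟨⟨a, ha⟩, mem_centralizer_singleton_iff.2 ?_⟩, e⟩
          show (Subgroup.subtype CC) a * y = y * (Subgroup.subtype CC) a
          rw [e]
          exact (smul_eq_iff_comm _ c).1 t.2
        choose f hf using hpick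
        refine Nat.card_le_card_of_injective f fun t t' e => Subtype.ext (Subtype.ext ?_)
        rw [← hf t, ← hf t', e]
      have h12 := (MulAction.stabilizer Qg c).card_mul_index
      rw [hidx, card_map_of_injective (subtype_injective _), hcard, show (2 : ℕ) ^ 13 = 8192 by norm_num] at h12
      have hzP : zQ ∈ P := mem_centralizer_singleton_iff.2 (by
        show ((zQ : CC) : G) * y = y * ((zQ : CC) : G)
        rw [hzQe]
        exact (mem_centralizer_singleton_iff.1 hcC).symm)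
      rw [m.card_img hz hzQe hzP] at hstab
      have hPC : m.img P ≤ fixOne (V := V) (img' Q y) := by
        rintro _ ⟨a, ha, rfl⟩
        rw [mem_fixOne, img'_eq hcC]
        refine (m.fixed_iff _ a).2 (.inl ?_)
        show y * ((a : CC) : G) * y⁻¹ = _
        rw [← show ((a : CC) : G) * y = y * ((a : CC) : G) from mem_centralizer_singleton_iff.1 ha,
          mul_inv_cancel_right]
      have hle := Nat.le_of_dvd Nat.card_pos (AddSubgroup.card_dvd_of_le hPC)
      rcases m.gen.conj_n (img' Q y) with e | e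
      · obtain ⟨k, -, hk5, hk, -⟩ := Gen.linear_cases m.gen hfree hy2 hy1 (mul_inv_eq_iff_eq_mul.1 e)
        have h5 : 4 ^ k ≤ 4 ^ 5 := Nat.pow_le_pow_right (by norm_num) hk5
        rw [show (4 : ℕ) ^ 5 = 1024 by norm_num] at h5
        omega
      · have := (Gen.semi_cases m.gen hfree hy2 (mul_inv_eq_iff_eq_mul.1 e)).1
        omega
  · -- the orbits with value one
    intro T hT
    have hyC : ∀ c ∈ T, cj z c ∈ CC := fun c hc => ((hT c).1 hc).2.1
    have hy1 : ∀ c ∈ T, img' Q (cj z c) ≠ 1 := by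
      intro c hc e
      obtain ⟨hne, hC', hν⟩ := (hT c).1 hc
      rw [img'_eq hC', QuotientGroup.eq_one_iff] at e
      obtain ⟨hb1, -⟩ := hback c.out ⟨_, e, rfl⟩ hne
      obtain ⟨a, ha, hau⟩ := hb1
      refine zero_ne_one ((hχ0 _ (hQC ⟨a, ha, hau⟩) ?_).symm.trans hν)
      have hm : (⟨c.out⁻¹ * z * c.out, hQC ⟨a, ha, hau⟩⟩ : CC) = a := Subtype.ext hau.symm
      rw [hm, (QuotientGroup.eq_one_iff a).2 ha]
      exact one_mem X
    have hTsmul : ∀ g ∈ CC, ∀ c, g • c ∈ T ↔ c ∈ T := by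
      have h1 : ∀ g ∈ CC, ∀ c ∈ T, g • c ∈ T := by
        intro g hg c hc
        obtain ⟨hne, hC', hν⟩ := (hT c).1 hc
        rw [hT, cj_smul, CharSplit.value_smul hχ hg hC']
        refine ⟨fun e => hne ?_, mul_mem (mul_mem hg hC') (inv_mem hg), hν⟩
        calc cj z c = g⁻¹ * (g * cj z c * g⁻¹) * g := by group
          _ = z := by rw [e, mul_assoc, ← mem_centralizer_singleton_iff.1 hg, inv_mul_cancel_left]
      exact fun g hg c => ⟨fun h => by simpa using h1 g⁻¹ (inv_mem hg) _ h, h1 g hg c⟩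
    -- bad cosets for the first plane
    let bad : G ⧸ CC → Prop := fun c =>
      U₁ ≤ fixOne (V := V) (img' Q (cj z c)) ∧ img' Q (cj z c) * n = n * img' Q (cj z c)
    have hQimg : ∀ a ∈ Qg, ∀ c ∈ T, img' Q (cj z (a • c)) = img' Q (cj z c) := by
      intro a ha c hc
      obtain ⟨w, hw, rfl⟩ := ha
      rw [Subgroup.subtype_apply, cj_smul, img'_eq (hyC c hc), img'_eq (mul_mem (mul_mem w.2 (hyC c hc)) (inv_mem w.2))]
      have : (QuotientGroup.mk w : CC ⧸ Q) = 1 := (QuotientGroup.eq_one_iff _).2 hw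
      show (QuotientGroup.mk (w * ⟨_, hyC c hc⟩ * w⁻¹) : CC ⧸ Q) = _
      rw [QuotientGroup.mk_mul, QuotientGroup.mk_mul, QuotientGroup.mk_inv, this, one_mul, inv_one, mul_one]
    set xb : CC ⧸ Q := QuotientGroup.mk ⟨x, hxC⟩ with hxb
    have hximg : ∀ c ∈ T, img' Q (cj z (x • c)) = xb * img' Q (cj z c) * xb⁻¹ := by
      intro c hc
      rw [cj_smul, img'_eq (hyC c hc), img'_eq (mul_mem (mul_mem hxC (hyC c hc)) (inv_mem hxC))]
      rfl
    have hxinv : xb⁻¹ = xb := inv_eq_of_mul_eq_one_right hx₁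
    have hbadx : ∀ c ∈ T, bad (x • c) ↔ bad c := by
      have key : ∀ y : CC ⧸ Q, U₁ ≤ fixOne (V := V) y ∧ y * n = n * y →
          U₁ ≤ fixOne (V := V) (xb * y * xb⁻¹) ∧ xb * y * xb⁻¹ * n = n * (xb * y * xb⁻¹) := by
        intro y hy
        refine ⟨fun u hu => ?_, ?_⟩
        · have h1 : y • xb⁻¹ • u = xb⁻¹ • u := hy.1 (by rw [hxinv]; exact (hU₁' u hu).2.2)
          rw [mem_fixOne, mul_smul, mul_smul, h1, smul_inv_smul]
        · rw [hxinv]
          have e1 : n * xb = xb * (n * n) := by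
            calc n * xb = (n * n * n) * n * xb := by rw [m.gen.n_three, one_mul]
              _ = n * n * (n * n * xb) := by group
              _ = n * n * (xb * n) := by rw [hx₁n]
              _ = (n * n * xb) * n := by group
              _ = xb * (n * n) := by rw [← hx₁n]; group
          calc xb * y * xb * n = xb * (y * n) * (n * xb) := by rw [mul_assoc, hx₁n]; group
            _ = xb * n * y * (n * xb) := by rw [hy.2]; group
            _ = xb * n * (y * n) * xb := by group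
            _ = xb * (n * n) * (y * xb) := by rw [hy.2]; group
            _ = n * (xb * y * xb) := by rw [← e1]; group
      intro c hc
      show (_ ∧ _) ↔ (_ ∧ _)
      rw [hximg c hc]
      refine ⟨fun h => ?_, key _⟩
      have h' := key _ h
      rwa [hxinv, show xb * (xb * img' Q (cj z c) * xb) * xb = (xb * xb) * img' Q (cj z c) * (xb * xb) by group,
        hx₁, one_mul, mul_one] at h'
    have hxA : ∀ (U : AddSubgroup V), (∀ u ∈ U, xb • u ∈ U) → ∀ a, x * a * x⁻¹ ∈ m.plane U ↔ a ∈ m.plane U := by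
      intro U hU
      have h1 : ∀ (w : CC), (∀ u ∈ U, (QuotientGroup.mk w : CC ⧸ Q) • u ∈ U) →
          ∀ a ∈ m.plane U, (w : G) * a * (w : G)⁻¹ ∈ m.plane U := by
        rintro w hw _ ⟨a, ha, rfl⟩
        refine ⟨MulAut.conjNormal w a, ?_, by simp [MulAut.conjNormal_apply]⟩
        show π _ ∈ U
        rw [← m.equiv]
        exact hw _ ha
      intro a
      refine ⟨fun h => ?_, h1 ⟨x, hxC⟩ hU a⟩
      have := h1 (⟨x, hxC⟩ : CC)⁻¹ (fun u hu => by rw [QuotientGroup.mk_inv, ← hxb, hxinv]; exact hU u hu) _ h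
      simpa [mul_assoc] using this
    -- one part
    have part : ∀ (U : AddSubgroup V), Nat.card ↥U = 16 → (∀ u ∈ U, q u = 0 ∧ n • u ∈ U ∧ xb • u ∈ U) →
        ∀ S : Finset (G ⧸ CC), (∀ c ∈ S, c ∈ T) → (∀ c ∈ T, ∀ a ∈ Qg, a • c ∈ S ↔ c ∈ S) →
        (∀ c, x • c ∈ S ↔ c ∈ S) →
        (∀ c ∈ S, ¬ (U ≤ fixOne (V := V) (img' Q (cj z c)) ∧ img' Q (cj z c) * n = n * img' Q (cj z c))) →
        ∃ r : G ⧸ CC → G, (∀ c, (r c : G ⧸ CC) = c) ∧ ∑ c ∈ S, kappa χ r x c = 0 := by
      intro U hU16 hU S hST hSQ hSx hgood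
      set A := m.plane U with hA
      have hAQ : A ≤ Qg := by
        rintro _ ⟨a, -, rfl⟩
        exact ⟨a, a.2, rfl⟩
      have hA2 : ∀ a ∈ A, a * a = 1 := m.plane_comm fun u hu => (hU u hu).1
      have hcout : ∀ {a : G} {c : G ⧸ CC}, a • c = c → c.out⁻¹ * a * c.out ∈ CC := fun {a c} h => by
        rw [mul_assoc, ← QuotientGroup.eq, QuotientGroup.out_eq']
        conv_lhs => rw [← h, ← QuotientGroup.out_eq' c]
        rfl
      have hω : ∀ c ∈ S, ∃ ω : G → ZMod 2, (∀ a ∈ A, ∀ b ∈ A, ω (a * b) = ω a + ω b) ∧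
          (∀ a ∈ A, a • c = c → ω a = χ (c.out⁻¹ * a * c.out)) ∧
          ((∀ a ∈ A, a • c = c → χ (c.out⁻¹ * a * c.out) = 0) → ∀ a ∈ A, ω a = 0) := by
        intro c _
        let P : Subgroup G :=
          { carrier := {a | a ∈ A ∧ a • c = c}
            one_mem' := ⟨one_mem A, one_smul G c⟩
            mul_mem' := fun {a b} ha hb => ⟨mul_mem ha.1 hb.1, by rw [mul_smul, hb.2, ha.2]⟩
            inv_mem' := fun {a} ha => ⟨inv_mem ha.1, by rw [inv_smul_eq_iff, ha.2]⟩ }
        obtain ⟨ω, h1, h2, h3⟩ := extend_char A hA2 P (fun a ha => ha.1) (fun a => χ (c.out⁻¹ * a * c.out))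
          fun a ha b hb => by
            rw [← hχ _ (hcout ha.2) _ (hcout hb.2)]
            congr 1; group
        exact ⟨ω, h1, fun a ha hac => h2 a ⟨ha, hac⟩, fun h => h3 fun a ha => h a ha.1 ha.2⟩
      choose! ω hω1 hω2 hω3 using hω
      have h4 : ∀ c ∈ S, 4 ∣ Nat.card (orb A c) := fun c hc =>
        (m.plane_index hfree hz hzQ hχ (hyC c (hST c hc)) (hy1 c (hST c hc)) ((hT c).1 (hST c hc)).2.2 hU16
          fun u hu => ⟨(hU u hu).1, (hU u hu).2.1⟩).2 (hgood c hc)
      exact exists_section hχ A (hxA U fun u hu => (hU u hu).2.2) S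
        (fun a ha c hc => (hSQ c (hST c hc) a (hAQ ha)).2 hc) hSx ω hω1 hω2 hω3
        (fun c hc => (show 2 ∣ 4 by norm_num).trans (h4 c hc))
        (fun c hc a _ _ => ⟨h4 c hc, fun b hb d _ => by rw [smul_smul, hA2 b hb, one_smul]⟩)
    obtain ⟨r₁, hr₁, hs₁⟩ := part U₁ hU₁ hU₁' (T.filter fun c => ¬ bad c) (fun c hc => (Finset.mem_filter.1 hc).1)
      (fun c hc a ha => by
        simp only [Finset.mem_filter, bad, hTsmul a (hQC ha), hQimg a ha c hc])
      (fun c => by
        simp only [Finset.mem_filter, hTsmul x hxC]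
        exact and_congr_right fun h => not_congr (hbadx c h))
      (fun c hc => (Finset.mem_filter.1 hc).2)
    obtain ⟨r₂, hr₂, hs₂⟩ := part U₂ hU₂ hU₂' (T.filter fun c => bad c) (fun c hc => (Finset.mem_filter.1 hc).1)
      (fun c hc a ha => by
        simp only [Finset.mem_filter, bad, hTsmul a (hQC ha), hQimg a ha c hc])
      (fun c => by
        simp only [Finset.mem_filter, hTsmul x hxC]
        exact and_congr_right fun h => hbadx c h)
      (fun c hc ⟨hb2, hbn⟩ => by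
        obtain ⟨hcT, hb1, -⟩ := Finset.mem_filter.1 hc
        have h1 := (m.plane_index hfree hz hzQ hχ (hyC c hcT) (hy1 c hcT) ((hT c).1 hcT).2.2 hU₁
          fun u hu => ⟨(hU₁' u hu).1, (hU₁' u hu).2.1⟩).1 hbn u₁ (hb1 hu₁) u₂ (hb2 hu₂)
        rw [hu12] at h1
        exact one_ne_zero h1)
    refine ⟨fun c => if bad c then r₂ c else r₁ c, fun c => by
      by_cases h : bad c
      · simpa only [if_pos h] using hr₂ c
      · simpa only [if_neg h] using hr₁ c, ?_⟩
    rw [← Finset.sum_filter_add_sum_filter_not T bad]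
    have e2 : ∑ c ∈ T.filter (fun c => bad c), kappa χ (fun c => if bad c then r₂ c else r₁ c) x c = 0 := by
      rw [← hs₂]
      refine Finset.sum_congr rfl fun c hc => ?_
      obtain ⟨hcT, hb⟩ := Finset.mem_filter.1 hc
      simp only [kappa, if_pos hb, if_pos ((hbadx c hcT).2 hb)]
    have e1 : ∑ c ∈ T.filter (fun c => ¬ bad c), kappa χ (fun c => if bad c then r₂ c else r₁ c) x c = 0 := by
      rw [← hs₁]
      refine Finset.sum_congr rfl fun c hc => ?_
      obtain ⟨hcT, hb⟩ := Finset.mem_filter.1 hc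
      simp only [kappa, if_neg hb, if_neg (mt (hbadx c hcT).1 hb)]
    rw [e2, e1, add_zero]

end CfsgLib.LargeFischer.GModel
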