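import Mathlib

/-!
# An element of order three permuted cyclically with a scalar splits a space in three
-/

set_option autoImplicit false

namespace CfsgLib.LargeFischer.Split

variable {W : Type*} [AddCommGroup W] (h2 : ∀ v : W, v + v = 0)

/-- The fixed vectors inside an additive subgroup. -/
def fixed (S : AddSubgroup W) (F : W →+ W) : AddSubgroup W where
  carrier := {v | v ∈ S ∧ F v = v}
  zero_mem' := ⟨S.zero_mem, map_zero F⟩
  add_mem' := fun {a b} ha hb => ⟨S.add_mem ha.1 hb.1, by rw [map_add, ha.2, hb.2]⟩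
  neg_mem' := fun {a} ha => ⟨S.neg_mem ha.1, by rw [map_neg, ha.2]⟩

theorem mem_fixed {S : AddSubgroup W} {F : W →+ W} {v : W} : v ∈ fixed S F ↔ v ∈ S ∧ F v = v := Iff.rfl

include h2

theorem cube_le [Finite W] (S : AddSubgroup W) (N F T : W →+ W) (hne : ∃ v ∈ S, v ≠ 0)
    (hNS : ∀ v ∈ S, N v ∈ S) (hFS : ∀ v ∈ S, F v ∈ S) (hTS : ∀ v ∈ S, T v ∈ S) (hTi : Function.Injective T)
    (hq : ∀ v ∈ S, N (N v) = v + N v) (hFN : ∀ v, F (N v) = N (F v)) (hTN : ∀ v, T (N v) = N (T v))
    (hF3 : ∀ v, F (F (F v)) = v) (hFT : ∀ v ∈ S, F (T v) = N (T (F v))) :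
    (∃ v ∈ fixed S F, v ≠ 0) ∧ Nat.card ↥(fixed S F) ^ 3 ≤ Nat.card ↥S := by
  have hz : ∀ v ∈ S, v + N v + N (N v) = 0 := fun v hv => by rw [hq v hv]; exact h2 _
  have N3 : ∀ v ∈ S, N (N (N v)) = v := fun v hv => by
    rw [hq v hv, map_add, hq v hv, add_comm v, ← add_assoc, h2, zero_add]
  let e : W → W := fun v => v + F v + F (F v)
  have eadd : ∀ a b, e (a + b) = e a + e b := fun a b => by simp only [e, map_add]; abel
  have efix : ∀ v ∈ S, e v ∈ fixed S F := fun v hv => by
    refine mem_fixed.2 ⟨S.add_mem (S.add_mem hv (hFS _ hv)) (hFS _ (hFS _ hv)), ?_⟩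
    simp only [e, map_add, hF3]; abel
  have e1 : ∀ v ∈ S, e (T v) = T (v + N (F v) + N (N (F (F v)))) := fun v hv => by
    simp only [e, hFT v hv, hFN, hFT _ (hFS _ hv), map_add, hTN]
  have e2 : ∀ v ∈ S, e (T (T v)) = T (T (v + N (N (F v)) + N (F (F v)))) := fun v hv => by
    have a1 : ∀ u ∈ S, F (T (T u)) = N (N (T (T (F u)))) := fun u hu => by
      rw [hFT _ (hTS _ hu), hFT u hu, hTN]
    simp only [e, a1 v hv, hFN, a1 _ (hFS _ hv), map_add, hTN]
    rw [N3 _ (hNS _ (hTS _ (hTS _ (hFS _ (hFS _ hv)))))]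
  have ea : ∀ a ∈ fixed S F, e a = a := fun a ha => by
    simp only [e, (mem_fixed.1 ha).2, h2, zero_add]
  have eT : ∀ a ∈ fixed S F, e (T a) = 0 := fun a ha => by
    rw [e1 a (mem_fixed.1 ha).1, (mem_fixed.1 ha).2, (mem_fixed.1 ha).2, hz _ (mem_fixed.1 ha).1, map_zero]
  have eTT : ∀ a ∈ fixed S F, e (T (T a)) = 0 := fun a ha => by
    rw [e2 a (mem_fixed.1 ha).1, (mem_fixed.1 ha).2, (mem_fixed.1 ha).2, add_right_comm, hz _ (mem_fixed.1 ha).1,
      map_zero, map_zero]
  constructor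
  · by_contra hno
    simp only [not_exists, not_and, not_not] at hno
    obtain ⟨v, hv, hv0⟩ := hne
    have hT0 : ∀ u, T u = 0 → u = 0 := fun u hu => hTi (hu.trans (map_zero T).symm)
    have b0 : v + F v + F (F v) = 0 := hno _ (efix v hv)
    have b1 := hT0 _ ((e1 v hv).symm.trans (hno _ (efix _ (hTS _ hv))))
    have b2 := hT0 _ (hT0 _ ((e2 v hv).symm.trans (hno _ (efix _ (hTS _ (hTS _ hv))))))
    refine hv0 ?_
    calc v = (v + v + v) + (F v + N (F v) + N (N (F v))) + (F (F v) + N (F (F v)) + N (N (F (F v)))) := by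
          rw [hz _ (hFS _ hv), hz _ (hFS _ (hFS _ hv)), h2, zero_add, add_zero, add_zero]
      _ = (v + F v + F (F v)) + (v + N (F v) + N (N (F (F v)))) + (v + N (N (F v)) + N (F (F v))) := by abel
      _ = 0 := by rw [b0, b1, b2, add_zero, add_zero]
  · let f : ↥(fixed S F) × ↥(fixed S F) × ↥(fixed S F) →+ ↥S := AddMonoidHom.mk'
      (fun p => ⟨(p.1 : W) + T p.2.1 + T (T p.2.2), S.add_mem (S.add_mem p.1.2.1 (hTS _ p.2.1.2.1))
        (hTS _ (hTS _ p.2.2.2.1))⟩)
      fun p r => Subtype.ext (by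
        simp only [Prod.fst_add, Prod.snd_add, AddSubgroup.coe_add, map_add]
        abel)
    have hf : Function.Injective f := by
      rw [injective_iff_map_eq_zero]
      rintro ⟨⟨a, ha⟩, ⟨b, hb⟩, ⟨d, hd⟩⟩ h
      have h' : a + T b + T (T d) = 0 := congrArg Subtype.val h
      have e0 : e 0 = 0 := by simp only [e, map_zero, add_zero]
      have a0 : a = 0 := by
        have := congrArg e h'
        rwa [eadd, eadd, ea a ha, eT b hb, eTT d hd, add_zero, add_zero, e0] at this
      subst a0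
      rw [zero_add, ← map_add, ← map_zero T] at h'
      have h'' := hTi h'
      have b0 : b = 0 := by
        have := congrArg e h''
        rwa [eadd, ea b hb, eT d hd, add_zero, e0] at this
      subst b0
      rw [zero_add, ← map_zero T] at h''
      have d0 := hTi h''
      subst d0
      rfl
    have := Nat.card_le_card_of_injective f hf
    rw [Nat.card_prod, Nat.card_prod] at this
    calc Nat.card ↥(fixed S F) ^ 3 = Nat.card ↥(fixed S F) * (Nat.card ↥(fixed S F) * Nat.card ↥(fixed S F)) := by ring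
      _ ≤ _ := this

end CfsgLib.LargeFischer.Split
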