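import Cfsg.Agent.Lib.LargeFischer.General.Gen
import Cfsg.Agent.Lib.LargeFischer.General.Heis
import Cfsg.Agent.Lib.LargeFischer.General.Split

/-!
# The normal subgroup of order three has no fixed vectors

Otherwise a copy of the unitary group acts faithfully on at most ten dimensions, which an extraspecial group of
order 243 in it forbids.
-/

set_option autoImplicit false
set_option maxRecDepth 100000
set_option maxHeartbeats 1000000
set_option linter.style.haveILetI false
set_option linter.unusedSectionVars false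

namespace CfsgLib.LargeFischer.Gen

open QuadraticMap
open CfsgLib.Schur.Tails.UFour (H4 card_H4)

variable {V : Type*} [AddCommGroup V] [Module (ZMod 2) V] [Finite V]
  {K : Type*} [Group K] [Finite K] [DistribMulAction K V]
  {q : QuadraticForm (ZMod 2) V} {n : K} {M : Subgroup K} {φ : ↥M →* ↥H4} (c : Gen q n M φ)

include c

/-- The vectors fixed by the normal subgroup of order three. -/
theorem fixN_invariant (k : K) {v : V} (hv : n • v = v) : n • k • v = k • v := by
  have h : ∀ j : K, j ∈ Subgroup.zpowers n → j • v = v := fun j hj => by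
    rcases c.zn_cases hj with rfl | rfl | rfl
    · exact one_smul K v
    · exact hv
    · rw [mul_smul, hv, hv]
  have h1 : k⁻¹ * n * k ∈ Subgroup.zpowers n := by simpa using c.normal k⁻¹
  calc n • k • v = k • (k⁻¹ * n * k) • v := by rw [← mul_smul, ← mul_smul]; group
    _ = k • v := by rw [h _ h1]

theorem smul_zn_eq {s : V} {x : K} (hx : x ∈ Subgroup.zpowers n) (hx1 : x ≠ 1) (h : x • s = s) : n • s = s := by
  rcases c.zn_cases hx with rfl | rfl | rfl
  · exact absurd rfl hx1
  · exact h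
  · conv_lhs => rw [← h]
    rw [mul_smul]
    exact c.smul_n_three s

/-- The normal subgroup of order three has no fixed vector. -/
theorem free {v : V} (h : n • v = v) : v = 0 := by
  have hv := h
  clear h
  classical
  by_contra hv0
  let C : AddSubgroup V :=
    { carrier := {x | n • x = x}
      zero_mem' := smul_zero n
      add_mem' := fun {a b} (ha : n • a = a) (hb : n • b = b) => by show n • (a + b) = a + b; rw [smul_add, ha, hb]
      neg_mem' := fun {a} (ha : n • a = a) => by show n • -a = -a; rw [smul_neg, ha] }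
  have memC : ∀ {x}, x ∈ C ↔ n • x = x := Iff.rfl
  let W := perpSub q C
  have hfix2 : ∀ {x}, x ∈ C → ∀ u, polar q (n • u) x = polar q u x := fun {x} hx u => by
    conv_lhs => rw [← memC.1 hx]
    exact c.polar_smul n u x
  have hsum : ∀ u : V, u + n • u + n • n • u ∈ C := fun u => by
    rw [memC, smul_add, smul_add, c.smul_n_three]; abel
  have hW : ∀ u : V, n • u + n • n • u ∈ W := fun u x hx => by
    rw [QuadraticMap.polar_add_left, hfix2 hx, hfix2 hx, hfix2 hx]
    exact CharTwo.add_self_eq_zero _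
  have hdec : ∀ u : V, u = (u + n • u + n • n • u) + (n • u + n • n • u) := fun u => by
    rw [add_assoc u (n • u) (n • n • u), add_assoc u, vadd_self, add_zero]
  have hdisj : ∀ {x}, x ∈ C → x ∈ W → x = 0 := fun {x} hxC hxW => c.nondeg x fun u => by
    rw [hdec u, QuadraticMap.polar_add_right, hxW _ (hsum u), zero_add, QuadraticMap.polar_comm]
    exact hW u x hxC
  let C' := AddSubgroup.toZModSubmodule 2 C
  let W' := AddSubgroup.toZModSubmodule 2 W
  have hcard : Nat.card ↥C * Nat.card ↥W = 4 ^ 6 := by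
    rw [mul_comm, perpSub_card q c.nondeg C, c.cardV]
  have hdim : Module.finrank (ZMod 2) ↥C' + Module.finrank (ZMod 2) ↥W' = 12 := by
    have h1 : Nat.card ↥C = 2 ^ Module.finrank (ZMod 2) ↥C' := card_eq_two_pow (V := ↥C')
    have h2 : Nat.card ↥W = 2 ^ Module.finrank (ZMod 2) ↥W' := card_eq_two_pow (V := ↥W')
    rw [h1, h2, ← pow_add, show (4 : ℕ) ^ 6 = 2 ^ 12 by norm_num] at hcard
    exact Nat.pow_right_injective le_rfl hcard
  have hc1 : 1 ≤ Module.finrank (ZMod 2) ↥C' := by
    by_contra h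
    have h1 : Nat.card ↥C = 2 ^ Module.finrank (ZMod 2) ↥C' := card_eq_two_pow (V := ↥C')
    rw [Nat.lt_one_iff.1 (not_le.1 h), pow_zero, AddSubgroup.card_eq_one] at h1
    have := memC.2 hv
    rw [h1, AddSubgroup.mem_bot] at this
    exact hv0 this
  have hCinv : ∀ a ∈ (⊤ : Subgroup K), ∀ x ∈ C', a • x ∈ C' := fun a _ x hx => c.fixN_invariant a hx
  have hWinv : ∀ (a : K), ∀ x ∈ W', a • x ∈ W' := fun a x hx u hu => by
    have h := hx (a⁻¹ • u) (hCinv a⁻¹ trivial u hu)
    rw [← c.polar_smul a, smul_inv_smul] at h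
    exact h
  have hboth : ∀ k : K, (∀ x ∈ C', k • x = x) → (∀ x ∈ W', k • x = x) → k = 1 := fun k h1 h2 =>
    c.faithful k fun u => by rw [hdec u, smul_add, h1 _ (hsum u), h2 _ (hW u)]
  have hnW : ∃ w ∈ W, w ≠ 0 ∧ n • w ≠ w := by
    by_contra h
    simp only [not_exists, not_and, not_not] at h
    refine c.n_ne (hboth n (fun x hx => hx) fun x hx => ?_)
    by_cases hx0 : x = 0
    · rw [hx0, smul_zero]
    · exact h x hx hx0
  obtain ⟨w, hwW, hw0, hnw⟩ := hnW
  have hw2 : 2 ≤ Module.finrank (ZMod 2) ↥W' := by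
    have h2 : Nat.card ↥W = 2 ^ Module.finrank (ZMod 2) ↥W' := card_eq_two_pow (V := ↥W')
    have h3 : 3 ≤ Nat.card ↥W := by
      have hsub : ({0, w, n • w} : Set V) ⊆ (W : Set V) := by
        rintro x (rfl | rfl | rfl)
        exacts [W.zero_mem, hwW, hWinv n w hwW]
      have h := Set.ncard_le_ncard hsub (Set.toFinite _)
      rw [Set.ncard_insert_of_notMem (by
          simp only [Set.mem_insert_iff, Set.mem_singleton_iff, not_or]
          exact ⟨Ne.symm hw0, fun e => hw0 (by rw [← inv_smul_smul n w, ← e, smul_zero])⟩),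
        Set.ncard_pair (Ne.symm hnw)] at h
      exact h.trans (Nat.card_coe_set_eq _).le
    by_contra h
    have : 2 ^ Module.finrank (ZMod 2) ↥W' ≤ 2 ^ 1 := Nat.pow_le_pow_right (by norm_num) (by omega)
    omega
  -- `M` is not faithful on the moved part
  let fW := restr M W' fun a _ x hx => hWinv a x hx
  obtain ⟨k, hk, hk1⟩ := exists_ker_of_dvd fW (m := 3 ^ 7) (by rw [c.card_M]; norm_num) (by
    rw [card_linear_group rfl]
    exact prod_not_dvd' _ (by omega))
  have hnker : ∀ {m : ↥M}, m ∈ fW.ker → (m : K) ∈ Subgroup.zpowers n → m = 1 := fun {m} hm hmz => by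
    by_contra hm1
    have hm1' : (m : K) ≠ 1 := fun e => hm1 (Subtype.ext e)
    exact hnw (c.smul_zn_eq hmz hm1' ((restr_eq_one.1 hm) w hwW))
  have himg : fW.ker.map φ = ⊤ := by
    haveI := h4_simple
    refine ((MonoidHom.normal_ker fW).map φ c.surj).eq_bot_or_eq_top.resolve_left fun e => hk1 ?_
    refine hnker hk ((c.ker k).1 ?_)
    rw [← Subgroup.mem_bot, ← e]
    exact Subgroup.mem_map_of_mem φ hk
  -- a copy of the unitary group fixing the moved part
  have hinjφ : ∀ {a b : ↥M}, a ∈ fW.ker → b ∈ fW.ker → φ a = φ b → a = b := fun {a b} ha hb e => by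
    have := hnker (mul_mem (inv_mem ha) hb) ((c.ker _).1 (by rw [map_mul, map_inv, e, inv_mul_cancel]))
    exact (inv_mul_eq_one.1 this)
  have hlift : ∀ y : ↥H4, ∃ m : ↥M, m ∈ fW.ker ∧ φ m = y := fun y => by
    obtain ⟨m, hm, e⟩ := (himg.ge (Subgroup.mem_top y) : y ∈ fW.ker.map φ)
    exact ⟨m, hm, e⟩
  choose L hLk hLφ using hlift
  have hL : ∀ a b, L (a * b) = L a * L b := fun a b =>
    hinjφ (hLk _) (mul_mem (hLk a) (hLk b)) (by rw [map_mul, hLφ, hLφ, hLφ])
  let ρ : ↥H4 →* K := M.subtype.comp (MonoidHom.mk' L hL)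
  have hρW : ∀ y, ∀ x ∈ W', ρ y • x = x := fun y => restr_eq_one.1 (hLk y)
  obtain ⟨x₁, y₁, x₂, y₂, d, hy1, hy2, hd3, hd1, r1, r2, cy, cxy, cxy', cdx1, cdy1, cdx2, cdy2⟩ := Heis.exists_heis
  have hρd : ρ d ≠ 1 := fun e => hd1 (by
    have e' : L d = 1 := Subtype.ext e
    rw [← hLφ d, e', map_one])
  let act : ↥H4 → V →+ V := fun y => DistribSMul.toAddMonoidHom V (ρ y)
  have hact : ∀ a b u, act a (act b u) = act (a * b) u := fun a b u => by
    show ρ a • ρ b • u = ρ (a * b) • u
    rw [← mul_smul, map_mul]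
  have hact1 : ∀ u, act 1 u = u := fun u => by show ρ 1 • u = u; rw [map_one, one_smul]
  let S : AddSubgroup V := (AddMonoidHom.id V + act d).range
  have hS : ∀ {g : ↥H4}, Commute d g → ∀ u ∈ S, act g u ∈ S := by
    rintro g hg _ ⟨u, rfl⟩
    refine ⟨act g u, ?_⟩
    show act g u + act d (act g u) = act g (u + act d u)
    rw [map_add, hact, hact, hg.eq]
  have hSC : ∀ u ∈ S, u ∈ C' := by
    rintro _ ⟨u, rfl⟩
    show u + ρ d • u ∈ C'
    rw [hdec u, smul_add, hρW d _ (hW u)]
    have : (u + n • u + n • n • u) + (n • u + n • n • u) + (ρ d • (u + n • u + n • n • u) + (n • u + n • n • u)) =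
        (u + n • u + n • n • u) + ρ d • (u + n • u + n • n • u) := by
      rw [add_add_add_comm, vadd_self (n • u + n • n • u), add_zero]
    rw [this]
    exact C'.add_mem (hsum u) (c.fixN_invariant (ρ d) (hsum u))
  have hSne : ∃ u ∈ S, u ≠ 0 := by
    by_contra hno
    simp only [not_exists, not_and, not_not] at hno
    refine hρd (c.faithful _ fun u => ?_)
    exact (eq_of_vadd (hno _ ⟨u, rfl⟩)).symm
  have hq : ∀ u ∈ S, act (d * d) (act (d * d) u) = u + act (d * d) u := by
    rintro _ ⟨u, rfl⟩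
    show act (d * d) (act (d * d) (u + act d u)) = (u + act d u) + act (d * d) (u + act d u)
    have p1 : d * d * (d * d) = d := by rw [← mul_assoc, hd3, one_mul]
    simp only [map_add, hact, hd3, mul_one, p1, hact1]
    rw [show u + act d u + (act (d * d) u + u) = (u + u) + (act d u + act (d * d) u) by abel, vadd_self, zero_add]
  have hyx : ∀ {x y : ↥H4}, x * y = d * y * x → Commute d x → Commute d y → y * x = d * d * (x * y) :=
    fun {x y} hr _ _ => by
      rw [hr, ← mul_assoc, ← mul_assoc, hd3, one_mul]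
  obtain ⟨hne1, hc1⟩ := Split.cube_le (vadd_self (V := V)) S (act (d * d)) (act y₁) (act x₁) hSne
    (hS ((Commute.refl d).mul_right (Commute.refl d))) (hS cdy1) (hS cdx1) (MulAction.injective (ρ x₁)) hq
    (fun u => by rw [hact, hact, (cdy1.symm.mul_right cdy1.symm).eq])
    (fun u => by rw [hact, hact, (cdx1.symm.mul_right cdx1.symm).eq])
    (fun u => by rw [hact, hact, hy1, hact1])
    (fun u _ => by simp only [hact, hyx r1 cdx1 cdy1, mul_assoc])
  have hS₀ : ∀ {g : ↥H4}, Commute d g → Commute g y₁ → ∀ u ∈ Split.fixed S (act y₁),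
      act g u ∈ Split.fixed S (act y₁) := fun {g} hg hy u hu => by
    obtain ⟨h1, h2⟩ := Split.mem_fixed.1 hu
    exact Split.mem_fixed.2 ⟨hS hg u h1, by rw [hact, ← hy.eq, ← hact, h2]⟩
  obtain ⟨⟨w₀, hw₀, hw₀0⟩, hc2⟩ := Split.cube_le (vadd_self (V := V)) (Split.fixed S (act y₁)) (act (d * d))
    (act y₂) (act x₂) hne1
    (hS₀ ((Commute.refl d).mul_right (Commute.refl d)) (cdy1.mul_left cdy1)) (hS₀ cdy2 cy.symm) (hS₀ cdx2 cxy')
    (MulAction.injective (ρ x₂)) (fun u hu => hq u (Split.mem_fixed.1 hu).1)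
    (fun u => by rw [hact, hact, (cdy2.symm.mul_right cdy2.symm).eq])
    (fun u => by rw [hact, hact, (cdx2.symm.mul_right cdx2.symm).eq])
    (fun u => by rw [hact, hact, hy2, hact1])
    (fun u _ => by simp only [hact, hyx r2 cdx2 cdy2, mul_assoc])
  set S₂ := Split.fixed (Split.fixed S (act y₁)) (act y₂) with hS₂
  obtain ⟨h01, h02⟩ := Split.mem_fixed.1 hw₀
  have hS₂d : ∀ u ∈ S₂, act (d * d) u ∈ S₂ := fun u hu => by
    obtain ⟨h1, h2⟩ := Split.mem_fixed.1 hu
    exact Split.mem_fixed.2 ⟨hS₀ ((Commute.refl d).mul_right (Commute.refl d)) (cdy1.mul_left cdy1) u h1,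
      by rw [hact, ← (cdy2.mul_left cdy2).eq, ← hact, h2]⟩
  have h3 : 3 ≤ Nat.card ↥S₂ := by
    have hw1 : act (d * d) w₀ ≠ w₀ := fun e => by
      have := hq w₀ (Split.mem_fixed.1 h01).1
      rw [e, e, vadd_self] at this
      exact hw₀0 this
    have hw2 : act (d * d) w₀ ≠ 0 := fun e =>
      hw₀0 (MulAction.injective (ρ (d * d)) (e.trans (smul_zero _).symm))
    have h := Set.ncard_le_ncard (s := ({0, w₀, act (d * d) w₀} : Set V)) (t := (S₂ : Set V)) (by
      rintro x (rfl | rfl | rfl)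
      exacts [S₂.zero_mem, hw₀, hS₂d _ hw₀]) (Set.toFinite _)
    rw [Set.ncard_insert_of_notMem (by
        simp only [Set.mem_insert_iff, Set.mem_singleton_iff, not_or]
        exact ⟨Ne.symm hw₀0, Ne.symm hw2⟩),
      Set.ncard_pair (Ne.symm hw1)] at h
    exact h.trans (Nat.card_coe_set_eq _).le
  have h10 : Nat.card ↥S ≤ 2 ^ 10 := by
    refine (Nat.card_le_card_of_injective (β := ↥C') (fun u : ↥S => (⟨(u : V), hSC u u.2⟩ : ↥C'))
      fun a b e => Subtype.ext (congrArg (fun u : ↥C' => (u : V)) e)).trans ?_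
    rw [card_eq_two_pow]
    exact Nat.pow_le_pow_right (by norm_num) (by omega)
  have h19683 : 3 ^ 9 ≤ Nat.card ↥S := by
    calc (3 : ℕ) ^ 9 = (3 ^ 3) ^ 3 := by norm_num
      _ ≤ (Nat.card ↥S₂ ^ 3) ^ 3 := Nat.pow_le_pow_left (Nat.pow_le_pow_left h3 3) 3
      _ ≤ Nat.card ↥(Split.fixed S (act y₁)) ^ 3 := Nat.pow_le_pow_left hc2 3
      _ ≤ _ := hc1
  omega

end CfsgLib.LargeFischer.Gen
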