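import Cfsg.Agent.Lib.LargeFischer.General.Lin
import Cfsg.Agent.Lib.LargeFischer.General.Free
import Cfsg.Agent.Lib.LargeFischer.Lagrangian
import Cfsg.Agent.Lib.Cores.Basic

/-!
# The data of a fused central involution, with no condition on the index

The elementary group attached to a conjugate meets the normal subgroup in order sixteen, so generates with it a
subgroup in which that has index two; the index itself is prime to three.
-/

set_option autoImplicit false
set_option linter.unusedSectionVars false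
set_option linter.style.haveILetI false
set_option maxHeartbeats 1000000

namespace CfsgLib.LargeFischer.Gen

open QuadraticMap
open CfsgLib.Schur.Tails.UFour (H4 card_H4)

variable {V : Type*} [AddCommGroup V] [Module (ZMod 2) V] [Finite V]
  {K : Type*} [Group K] [Finite K] [DistribMulAction K V]
  {q : QuadraticForm (ZMod 2) V} {n : K} {M : Subgroup K} {φ : ↥M →* ↥H4} (c : Gen q n M φ)
  {s : V} {E : Subgroup K} {D : AddSubgroup V} (hd : CentData q s E D) (hD : Nat.card ↥D = 64)
  (hinv : ∀ k : K, k • s = s → ∀ v ∈ D, k • v ∈ D) (hs : s ≠ 0)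

include c

theorem zeros_le : Nat.card {v : V // q v = 0} ≤ 2080 := by
  rcases zeros_cases q c.nondeg 6 c.cardV with h | h <;> norm_num at h <;> omega

/-- An orbit of `M` on nonzero singular vectors has at most 2079 points. -/
theorem orbit_le {v : V} (hv : q v = 0) (hv0 : v ≠ 0) : (MulAction.orbit ↥M v).ncard ≤ 2079 := by
  have hsub : MulAction.orbit ↥M v ⊆ {u : V | q u = 0} \ {0} := by
    rintro _ ⟨k, rfl⟩
    refine ⟨?_, fun e => hv0 ?_⟩
    · show q ((k : K) • v) = 0
      rw [c.isom, hv]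
    · have e' : (k : K) • v = 0 := e
      rw [← inv_smul_smul (k : K) v, e', smul_zero]
  refine (Set.ncard_le_ncard hsub (Set.toFinite _)).trans ?_
  rw [Set.ncard_sdiff (show ({0} : Set V) ⊆ {u : V | q u = 0} from Set.singleton_subset_iff.2 (q_zero q)), Set.ncard_singleton, ← Nat.card_coe_set_eq]
  have := c.zeros_le
  change Nat.card {u : V // q u = 0} - 1 ≤ 2079
  omega

theorem orbit_stab (v : V) :
    (MulAction.orbit ↥M v).ncard * Nat.card ↥(MulAction.stabilizer K v ⊓ M) = 9797760 := by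
  have e : (MulAction.stabilizer K v ⊓ M).subgroupOf M = MulAction.stabilizer ↥M v := by
    ext m
    exact ⟨fun hm => hm.1, fun hm => ⟨hm, m.2⟩⟩
  rw [← Nat.card_congr (Subgroup.subgroupOfEquivOfLe (inf_le_right : MulAction.stabilizer K v ⊓ M ≤ M)).toEquiv, e,
    ← MulAction.index_stabilizer, Subgroup.index_mul_card, c.card_M]

theorem stab_n {v : V} (hv : v ≠ 0) {x : K} (hx : x ∈ Subgroup.zpowers n) (h : x • v = v) : x = 1 := by
  by_contra hx1
  exact hv (c.free (c.smul_zn_eq hx hx1 h))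

include hd hD hinv hs

/-- An element of odd order of the stabiliser centralising the part of `E` in `M` is trivial. -/
theorem odd_trivial {d : K} (hds : d • s = s) (hdM : d ∈ M) (hodd : Odd (orderOf d))
    (hA : ∀ a ∈ E ⊓ M, d * a = a * d) : d = 1 := by
  have hE : ∀ e ∈ E, d * e = e * d := by
    intro e he
    set a := d * e * d⁻¹ * e⁻¹ with ha
    have hde : d * e * d⁻¹ ∈ E := hd.normal d hds e he
    have haE : a ∈ E ⊓ M := ⟨E.mul_mem hde (E.inv_mem he), by
      rw [ha, show d * e * d⁻¹ * e⁻¹ = d * (e * d⁻¹ * e⁻¹) by group]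
      exact mul_mem hdM (c.normalM.conj_mem _ (inv_mem hdM) e)⟩
    have hpow : ∀ i : ℕ, d ^ i * e * (d ^ i)⁻¹ = a ^ i * e := by
      intro i
      induction i with
      | zero => simp
      | succ i ih =>
        have hc : Commute d (a ^ i) := Commute.pow_right (hA a haE) i
        calc d ^ (i + 1) * e * (d ^ (i + 1))⁻¹ = d * (d ^ i * e * (d ^ i)⁻¹) * d⁻¹ := by rw [pow_succ']; group
          _ = a ^ i * (d * e * d⁻¹) := by rw [ih, ← mul_assoc, hc.eq]; group
          _ = a ^ (i + 1) * e := by rw [pow_succ, ha]; group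
    have h1 := hpow (orderOf d)
    rw [pow_orderOf_eq_one, one_mul, inv_one, mul_one] at h1
    obtain ⟨j, hj⟩ := hodd
    have ha2 : a * a = 1 := by rw [← pow_two]; exact hd.elem.2 a haE.1
    rw [hj, pow_succ, pow_mul, pow_two, ha2, one_pow, one_mul, right_eq_mul] at h1
    exact mul_inv_eq_iff_eq_mul.1 (mul_inv_eq_one.1 h1)
  have hfixD : ∀ x ∈ D, d • x = x := by
    intro x hx
    have hdx := hinv d hds x hx
    have hy : d • x + x ∈ D := D.add_mem hdx hx
    have hfix : ∀ e ∈ E, e • (d • x + x) = d • x + x := by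
      intro e he
      rw [smul_add, ← mul_smul, ← hE e he, mul_smul]
      rcases hd.move e he x hx with e1 | e1 <;> rw [e1]
      rw [smul_add, hds, show d • x + s + (x + s) = d • x + x + (s + s) by abel, vadd_self, add_zero]
    rcases hd.fixD _ hy hfix with e | e
    · exact eq_of_vadd e
    · exfalso
      have hstep : ∀ i : ℕ, d ^ (2 * i + 1) • x = x + s := by
        intro i
        induction i with
        | zero =>
          rw [Nat.mul_zero, zero_add, pow_one, ← e, add_comm (d • x) x, ← add_assoc, vadd_self, zero_add]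
        | succ i ih =>
          have e2 : d • x = x + s := by rw [← e, add_comm (d • x) x, ← add_assoc, vadd_self, zero_add]
          rw [show 2 * (i + 1) + 1 = 2 + (2 * i + 1) by ring, pow_add, mul_smul, ih, pow_two, mul_smul, smul_add,
            hds, e2, add_assoc, vadd_self, add_zero, e2]
      obtain ⟨j, hj⟩ := hodd
      have h1 := hstep j
      rw [← hj, pow_orderOf_eq_one, one_smul] at h1
      exact hs (left_eq_add.1 h1)
  have hperp : D = perpSub q D := by
    have hle : D ≤ perpSub q D := fun x hx u hu => by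
      rw [polar, hd.sing _ (D.add_mem hx hu), hd.sing _ hx, hd.sing _ hu]; ring
    have h1 := perpSub_card q c.nondeg D
    rw [c.cardV, hD] at h1
    norm_num at h1
    refine SetLike.coe_injective (Set.eq_of_subset_of_ncard_le hle ?_ (Set.toFinite _))
    rw [← Nat.card_coe_set_eq, ← Nat.card_coe_set_eq]
    show Nat.card ↥(perpSub q D) ≤ Nat.card ↥D
    omega
  have hsq : d * d = 1 := c.faithful _ fun v => by
    have hmem : d • v + v ∈ D := by
      rw [hperp]
      intro u hu
      rw [QuadraticMap.polar_add_left]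
      conv_lhs => arg 1; rw [← hfixD u hu, c.polar_smul]
      exact CharTwo.add_self_eq_zero _
    have h1 := hfixD _ hmem
    rw [smul_add, ← mul_smul, add_comm (d • v) v] at h1
    exact add_right_cancel h1
  have hdiv : orderOf d ∣ 2 := orderOf_dvd_of_pow_eq_one (by rw [pow_two, hsq])
  rcases (Nat.dvd_prime Nat.prime_two).1 hdiv with h | h
  · exact orderOf_eq_one_iff.1 h
  · rw [h] at hodd; exact absurd hodd (by decide)

omit hs hinv in
theorem card_E : Nat.card ↥E = 32 := by
  have h := hd.card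
  rw [hD] at h
  norm_num at h
  omega

/-- The part of `E` in `M` has order sixteen. -/
theorem inf_sixteen : Nat.card ↥(E ⊓ M) = 16 := by
  classical
  have helem : Cfsg.IsElementaryAbelian 2 (E ⊓ M) :=
    ⟨⟨⟨fun a b => Subtype.ext (congrArg (fun z : ↥E => (z : K)) (hd.elem.1.is_comm.comm ⟨a, a.2.1⟩ ⟨b, b.2.1⟩))⟩⟩,
      fun a ha => hd.elem.2 a ha.1⟩
  have h16 := c.elem_le inf_le_right helem
  haveI := Fact.mk Nat.prime_two
  obtain ⟨e, he⟩ := IsPGroup.iff_card.1 ((fun a => ⟨1, by
    rw [pow_one]; exact Subtype.ext (by simpa using helem.2 _ a.2)⟩ : IsPGroup 2 ↥(E ⊓ M)))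
  by_contra hne
  have he3 : e ≤ 3 := by
    by_contra hc
    have h4 := Nat.pow_le_pow_right (show 1 ≤ 2 by norm_num) (show 4 ≤ e by omega)
    rw [he] at h16 hne
    omega
  -- the linear action
  let A := E ⊓ M
  letI : CommGroup ↥A := { (inferInstance : Group ↥A) with mul_comm := helem.1.is_comm.comm }
  letI : Module (ZMod 2) (Additive ↥A) := AddCommGroup.zmodModule fun a => by
    induction a using Additive.rec with
    | ofMul a =>
      rw [← ofMul_pow]
      exact congrArg Additive.ofMul (Subtype.ext (by simpa using helem.2 _ a.2))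
  have hz : ∀ (f : Additive ↥A →+ Additive ↥A) (r : ZMod 2) (v : Additive ↥A), f (r • v) = r • f v :=
    fun f r v => ZMod.map_smul f r v
  set R := MulAction.stabilizer K s ⊓ M with hR
  have hnorm : ∀ d : K, d • s = s → ∀ a ∈ A, d * a * d⁻¹ ∈ A := fun d hds a ha =>
    ⟨hd.normal d hds a ha.1, c.normalM.conj_mem a ha.2 d⟩
  let cj : ↥R → (Additive ↥A →+ Additive ↥A) := fun d =>
    MonoidHom.toAdditive (MonoidHom.mk' (fun a : ↥A => (⟨(d : K) * a * (d : K)⁻¹, hnorm d d.2.1 a a.2⟩ : ↥A))
      fun a b => Subtype.ext (by simp [mul_assoc]))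
  have hcj : ∀ (d : ↥R) (a : Additive ↥A), ((Additive.toMul (cj d a) : ↥A) : K) =
      (d : K) * (Additive.toMul a : ↥A) * (d : K)⁻¹ := fun d a => rfl
  have hcj1 : ∀ a, cj 1 a = a := fun a => Additive.toMul.injective (Subtype.ext (by rw [hcj]; simp))
  have hcjm : ∀ d d' a, cj (d * d') a = cj d (cj d' a) := fun d d' a =>
    Additive.toMul.injective (Subtype.ext (by rw [hcj, hcj, hcj]; simp [mul_assoc]))
  let r : ↥R →* (Additive ↥A ≃ₗ[ZMod 2] Additive ↥A) := MonoidHom.mk' (fun d =>
      { toFun := cj d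
        invFun := cj d⁻¹
        map_add' := map_add _
        map_smul' := fun r v => hz _ r v
        left_inv := fun a => by rw [← hcjm, inv_mul_cancel, hcj1]
        right_inv := fun a => by rw [← hcjm, mul_inv_cancel, hcj1] }) fun d d' =>
      LinearEquiv.ext fun a => hcjm d d' a
  have hdim : Module.finrank (ZMod 2) (Additive ↥A) = e := by
    have h := card_eq_two_pow (V := Additive ↥A)
    rw [Nat.card_congr Additive.toMul, he] at h
    exact (Nat.pow_right_injective le_rfl h).symm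
  have him : Nat.card ↥r.range ∣ 168 := by
    refine (Subgroup.card_subgroup_dvd_card _).trans ?_
    rw [card_linear_group hdim]
    interval_cases e <;> decide
  have hker : IsPGroup 2 ↥r.ker := by
    intro d
    obtain ⟨a, m', hm', hord⟩ := Nat.exists_eq_pow_mul_and_not_dvd (orderOf_pos d).ne' 2 (by norm_num)
    refine ⟨a, ?_⟩
    have hoo : Odd (orderOf (d ^ 2 ^ a)) := by
      rw [orderOf_pow, hord, Nat.gcd_comm, Nat.gcd_mul_right_right, Nat.mul_div_cancel_left _ (by positivity)]
      exact Nat.odd_iff.2 (by omega)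
    have hker' : r ((d ^ 2 ^ a : ↥r.ker) : ↥R) = 1 := MonoidHom.mem_ker.1 (d ^ 2 ^ a).2
    refine Subtype.ext (Subtype.ext ?_)
    refine c.odd_trivial hd hD hinv hs ((d ^ 2 ^ a : ↥r.ker) : ↥R).2.1 ((d ^ 2 ^ a : ↥r.ker) : ↥R).2.2 ?_ ?_
    · rw [Subgroup.orderOf_coe, Subgroup.orderOf_coe]; exact hoo
    · intro a' ha'
      have h1 := congrArg (fun f : Additive ↥A ≃ₗ[ZMod 2] Additive ↥A =>
        ((Additive.toMul (f (Additive.ofMul ⟨a', ha'⟩)) : ↥A) : K)) hker'
      exact mul_inv_eq_iff_eq_mul.1 h1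
  have hdvd : Nat.card ↥R ∣ 2688 := by
    have hinj : Nat.card ↥R ∣ 3265920 := by
      rw [← card_H4]
      refine Subgroup.card_dvd_of_injective (φ.comp (Subgroup.inclusion inf_le_right)) ?_
      rw [injective_iff_map_eq_one]
      intro x hx
      exact Subtype.ext (c.stab_n hs ((c.ker _).1 hx) x.2.1)
    obtain ⟨k, hk⟩ := IsPGroup.iff_card.1 hker
    have hk7 : k ≤ 7 := by
      by_contra hc
      have h1 : 2 ^ 8 ∣ 3265920 :=
        ((pow_dvd_pow 2 (show 8 ≤ k by omega)).trans (hk ▸ Subgroup.card_subgroup_dvd_card r.ker)).trans hinj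
      norm_num at h1
    have h2 : Nat.card ↥R ∣ 2 ^ 7 * 168 := by
      rw [← r.ker.card_mul_index, Subgroup.index_ker, hk]
      exact Nat.mul_dvd_mul (pow_dvd_pow 2 hk7) him
    have := Nat.dvd_gcd h2 hinj
    norm_num at this
    exact this
  have h1 := c.orbit_stab s
  rw [← hR] at h1
  have h2 := c.orbit_le (hd.sing s hd.mem) hs
  have h3 := Nat.le_of_dvd (by norm_num) hdvd
  have := Nat.mul_le_mul h2 h3
  omega

/-- The subgroup generated with `E`. -/
theorem relIndex_two : M.relIndex (M ⊔ E) = 2 := by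
  haveI := c.normalM
  have h16 := c.inf_sixteen hd hD hinv hs
  have h32 := c.card_E hd hD
  have h := Subgroup.relIndex_mul_relIndex ⊥ (E ⊓ M) E bot_le inf_le_left
  simp only [Subgroup.relIndex_bot_left, h16, h32] at h
  rw [Subgroup.relIndex_sup_left]
  have e : M.relIndex E = (E ⊓ M).relIndex E := (Subgroup.inf_relIndex_left E M).symm
  rw [e]
  omega

theorem core_sub : ∃ (n' : ↥(M ⊔ E)) (φ' : ↥(M.subgroupOf (M ⊔ E)) →* ↥H4), (n' : K) = n ∧
    Core q n' (M.subgroupOf (M ⊔ E)) φ' ∧ CentData q s (E.subgroupOf (M ⊔ E)) D := by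
  refine ⟨⟨n, le_sup_left (a := M) c.nM⟩, _, rfl,
    (c.restrict (le_sup_left : M ≤ M ⊔ E)).toCore (c.relIndex_two hd hD hinv hs), ?_⟩
  exact
    { mem := hd.mem
      sing := hd.sing
      card := by
        rw [Nat.card_congr (Subgroup.subgroupOfEquivOfLe (le_sup_right : E ≤ M ⊔ E)).toEquiv]
        exact hd.card
      elem := ⟨⟨⟨fun a b => Subtype.ext (Subtype.ext (congrArg (fun z : ↥E => (z : K))
          (hd.elem.1.is_comm.comm ⟨_, a.2⟩ ⟨_, b.2⟩)))⟩⟩, fun a ha => Subtype.ext (by simpa using hd.elem.2 _ ha)⟩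
      fix := fun e he => hd.fix _ he
      normal := fun k hk e he => hd.normal _ hk _ he
      move := fun e he => hd.move _ he
      perp := fun e he => hd.perp _ he
      faith := fun e he h => Subtype.ext (hd.faith _ he h)
      fixD := fun d hd' h => hd.fixD d hd' fun e he => h ⟨e, le_sup_right (a := M) he⟩ he }

theorem stab_card : Nat.card ↥(MulAction.stabilizer K s ⊓ M) = 5760 ∧
    (MulAction.orbit ↥M s).ncard = 1701 := by
  obtain ⟨n', φ', -, hc, hd'⟩ := c.core_sub hd hD hinv hs
  have h := (hc.central_facts ⟨hs, _, _, hd'⟩).2.1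
  have e : Nat.card ↥(MulAction.stabilizer ↥(M ⊔ E) s ⊓ M.subgroupOf (M ⊔ E)) =
      Nat.card ↥(MulAction.stabilizer K s ⊓ M) := Nat.card_congr
    { toFun := fun x => ⟨((x : ↥(M ⊔ E)) : K), x.2.1, x.2.2⟩
      invFun := fun x => ⟨⟨(x : K), le_sup_left (a := M) x.2.2⟩, x.2.1, x.2.2⟩
      left_inv := fun x => rfl
      right_inv := fun x => rfl }
  rw [e] at h
  have h2 := c.orbit_stab s
  rw [h] at h2
  exact ⟨h, by omega⟩

/-- Every singular vector with stabiliser of the same order is in the orbit. -/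
theorem mem_orbit {v : V} (hv : q v = 0) (_hv0 : v ≠ 0)
    (hcard : (MulAction.orbit ↥M v).ncard = 1701) : v ∈ MulAction.orbit ↥M s := by
  by_contra hne
  have hdis : Disjoint (MulAction.orbit ↥M s) (MulAction.orbit ↥M v) := by
    rw [Set.disjoint_left]
    intro u hu hu'
    apply hne
    rw [← MulAction.orbit_eq_iff.2 hu, MulAction.orbit_eq_iff.2 hu']
    exact MulAction.mem_orbit_self v
  have hsub : MulAction.orbit ↥M s ∪ MulAction.orbit ↥M v ⊆ {u : V | q u = 0} := by
    rintro _ (⟨k, rfl⟩ | ⟨k, rfl⟩)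
    · show q ((k : K) • s) = 0
      rw [c.isom, hd.sing s hd.mem]
    · show q ((k : K) • v) = 0
      rw [c.isom, hv]
  have h := Set.ncard_le_ncard hsub (Set.toFinite _)
  rw [Set.ncard_union_eq hdis (Set.toFinite _) (Set.toFinite _), hcard, (c.stab_card hd hD hinv hs).2,
    ← Nat.card_coe_set_eq] at h
  have := c.zeros_le
  change _ ≤ Nat.card {u : V // q u = 0} at h
  omega

/-- The index is prime to three. -/
theorem not_three : ¬ 3 ∣ M.index := by
  classical
  intro h3
  haveI := c.normalM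
  haveI := Fact.mk Nat.prime_three
  obtain ⟨hst, horb⟩ := c.stab_card hd hD hinv hs
  -- the whole orbit is the orbit of `M`
  have hKorb : MulAction.orbit K s ⊆ MulAction.orbit ↥M s := by
    rintro _ ⟨k, rfl⟩
    refine c.mem_orbit hd hD hinv hs (v := k • s) (by rw [c.isom, hd.sing s hd.mem])
      (fun e => hs (by rw [← inv_smul_smul k s, e, smul_zero])) ?_
    have e : MulAction.orbit ↥M (k • s) = (fun u => k • u) '' MulAction.orbit ↥M s := by
      ext u
      constructor
      · rintro ⟨m, rfl⟩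
        refine ⟨k⁻¹ • (m : K) • k • s, ⟨⟨k⁻¹ * m * k, by simpa using c.normalM.conj_mem _ m.2 k⁻¹⟩, ?_⟩,
          smul_inv_smul _ _⟩
        show (k⁻¹ * (m : K) * k) • s = _
        rw [mul_smul, mul_smul]
      · rintro ⟨_, ⟨m, rfl⟩, rfl⟩
        refine ⟨⟨k * m * k⁻¹, c.normalM.conj_mem _ m.2 k⟩, ?_⟩
        show (k * (m : K) * k⁻¹) • k • s = k • (m : K) • s
        rw [← mul_smul, inv_mul_cancel_right, mul_smul]
    rw [e, Set.ncard_image_of_injective _ (MulAction.injective k), horb]
  have hKcard : Nat.card ↥(MulAction.stabilizer K s) = 5760 * M.index := by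
    have hor : MulAction.orbit K s = MulAction.orbit ↥M s := Set.Subset.antisymm hKorb (by
      rintro _ ⟨m, rfl⟩
      exact ⟨(m : K), rfl⟩)
    have h := (MulAction.stabilizer K s).index_mul_card
    rw [MulAction.index_stabilizer, hor, horb, c.card_K] at h
    omega
  obtain ⟨P⟩ : Nonempty (Sylow 3 ↥(MulAction.stabilizer K s)) := inferInstance
  have h27 : 3 ^ 3 ∣ Nat.card ↥(P : Subgroup ↥(MulAction.stabilizer K s)) := by
    obtain ⟨j, hj⟩ := h3
    refine P.pow_dvd_card_of_pow_dvd_card ?_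
    rw [hKcard, hj]
    exact ⟨640 * j, by ring⟩
  let A := E ⊓ M
  have helem : Cfsg.IsElementaryAbelian 2 A :=
    ⟨⟨⟨fun a b => Subtype.ext (congrArg (fun z : ↥E => (z : K)) (hd.elem.1.is_comm.comm ⟨a, a.2.1⟩ ⟨b, b.2.1⟩))⟩⟩,
      fun a ha => hd.elem.2 a ha.1⟩
  letI : CommGroup ↥A := { (inferInstance : Group ↥A) with mul_comm := helem.1.is_comm.comm }
  letI : Module (ZMod 2) (Additive ↥A) := AddCommGroup.zmodModule fun a => by
    induction a using Additive.rec with
    | ofMul a =>
      rw [← ofMul_pow]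
      exact congrArg Additive.ofMul (Subtype.ext (by simpa using helem.2 _ a.2))
  let cj : ↥(P : Subgroup ↥(MulAction.stabilizer K s)) → (Additive ↥A →+ Additive ↥A) := fun d =>
    MonoidHom.toAdditive (MonoidHom.mk' (fun a : ↥A => (⟨((d : ↥(MulAction.stabilizer K s)) : K) * a *
      ((d : ↥(MulAction.stabilizer K s)) : K)⁻¹, hd.normal _ (d : ↥(MulAction.stabilizer K s)).2 a a.2.1,
        c.normalM.conj_mem _ a.2.2 _⟩ : ↥A)) fun a b => Subtype.ext (by simp [mul_assoc]))
  have hcj : ∀ d (a : Additive ↥A), ((Additive.toMul (cj d a) : ↥A) : K) =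
      ((d : ↥(MulAction.stabilizer K s)) : K) * (Additive.toMul a : ↥A) *
        ((d : ↥(MulAction.stabilizer K s)) : K)⁻¹ := fun d a => rfl
  have hcj1 : ∀ a, cj 1 a = a := fun a => Additive.toMul.injective (Subtype.ext (by rw [hcj]; simp))
  have hcjm : ∀ d d' a, cj (d * d') a = cj d (cj d' a) := fun d d' a =>
    Additive.toMul.injective (Subtype.ext (by rw [hcj, hcj, hcj]; simp [mul_assoc]))
  let r : ↥(P : Subgroup ↥(MulAction.stabilizer K s)) →* (Additive ↥A ≃ₗ[ZMod 2] Additive ↥A) :=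
    MonoidHom.mk' (fun d =>
      { toFun := cj d
        invFun := cj d⁻¹
        map_add' := map_add _
        map_smul' := fun r v => ZMod.map_smul _ r v
        left_inv := fun a => by rw [← hcjm, inv_mul_cancel, hcj1]
        right_inv := fun a => by rw [← hcjm, mul_inv_cancel, hcj1] }) fun d d' =>
      LinearEquiv.ext fun a => hcjm d d' a
  have hdim : Module.finrank (ZMod 2) (Additive ↥A) = 4 := by
    have h := card_eq_two_pow (V := Additive ↥A)
    rw [Nat.card_congr Additive.toMul, c.inf_sixteen hd hD hinv hs] at h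
    exact (Nat.pow_right_injective le_rfl (show 2 ^ 4 = 2 ^ _ from h)).symm
  obtain ⟨x, hx, hx1⟩ := exists_ker_of_dvd r h27 (by
    rw [card_linear_group hdim]
    decide +kernel)
  -- an element of order three centralising `A`
  obtain ⟨i, hi⟩ := (IsPGroup.iff_orderOf.1 P.isPGroup') x
  obtain ⟨d, hdx, hd3⟩ : ∃ d : ↥(P : Subgroup ↥(MulAction.stabilizer K s)), r d = 1 ∧ orderOf d = 3 := by
    have hi1 : i ≠ 0 := fun e => hx1 (orderOf_eq_one_iff.1 (by rw [hi, e, pow_zero]))
    refine ⟨x ^ 3 ^ (i - 1), by rw [map_pow, hx, one_pow], ?_⟩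
    rw [orderOf_pow' x (pow_ne_zero _ (by norm_num)), hi, Nat.gcd_eq_right (pow_dvd_pow 3 (by omega)),
      Nat.pow_div (by omega) (by norm_num), show i - (i - 1) = 1 by omega, pow_one]
  set D₃ : K := ((d : ↥(MulAction.stabilizer K s)) : K) with hD₃
  have hord : orderOf D₃ = 3 := by rw [hD₃, Subgroup.orderOf_coe, Subgroup.orderOf_coe, hd3]
  have hD3 : D₃ * D₃ * D₃ = 1 := by
    rw [← pow_two, ← pow_succ, show 2 + 1 = orderOf D₃ from hord.symm, pow_orderOf_eq_one]
  have hfixs : D₃ • s = s := (d : ↥(MulAction.stabilizer K s)).2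
  have hA : ∀ a ∈ A, D₃ * a = a * D₃ := fun a ha => by
    have h1 := congrArg (fun f : Additive ↥A ≃ₗ[ZMod 2] Additive ↥A =>
      ((Additive.toMul (f (Additive.ofMul ⟨a, ha⟩)) : ↥A) : K)) hdx
    exact mul_inv_eq_iff_eq_mul.1 h1
  have hn : D₃ * n = n * D₃ := by
    rcases c.conj_n D₃ with e | e
    · exact mul_inv_eq_iff_eq_mul.1 e
    · exfalso
      have h2 : ∀ t, t = n → D₃ * (D₃ * (D₃ * t * D₃⁻¹) * D₃⁻¹) * D₃⁻¹ = n * n := by
        rintro t rfl
        rw [e]
        calc D₃ * (D₃ * (t * t) * D₃⁻¹) * D₃⁻¹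
            = (D₃ * (D₃ * t * D₃⁻¹) * D₃⁻¹) * (D₃ * (D₃ * t * D₃⁻¹) * D₃⁻¹) := by group
          _ = (D₃ * (t * t) * D₃⁻¹) * (D₃ * (t * t) * D₃⁻¹) := by rw [e]
          _ = (D₃ * t * D₃⁻¹) * (D₃ * t * D₃⁻¹) * ((D₃ * t * D₃⁻¹) * (D₃ * t * D₃⁻¹)) := by group
          _ = t * t * (t * t) * (t * t * (t * t)) := by rw [e]
          _ = t * t * t * (t * t * t) * (t * t) := by group
          _ = t * t := by rw [c.n_three, one_mul, one_mul]
      have h3 : D₃ * (D₃ * (D₃ * n * D₃⁻¹) * D₃⁻¹) * D₃⁻¹ = n := by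
        calc _ = (D₃ * D₃ * D₃) * n * (D₃ * D₃ * D₃)⁻¹ := by group
          _ = n := by rw [hD3]; group
      exact c.n_ne (left_eq_mul.1 (h3.symm.trans (h2 n rfl)))
  obtain ⟨n', φ', hn', hc, hd'⟩ := c.core_sub hd hD hinv hs
  -- the fixed line of `A`
  have hline : ∀ v : V, (∀ a ∈ A, a • v = v) → D₃ • v = v := by
    intro v hv
    have hns : D₃ • n • s = n • s := by rw [← mul_smul, hn, mul_smul, hfixs]
    rcases hc.fixed_E0 ⟨hs, _, _, hd'⟩ hd' (v := v) (fun e he => hv _ ⟨he.1, he.2⟩) with e | e | e | e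
    · rw [e, smul_zero]
    · rw [e, hfixs]
    · rw [e, show n' • s = n • s from by rw [← hn']; rfl, hns]
    · rw [e, show n' • s = n • s from by rw [← hn']; rfl, smul_add, hfixs, hns]
  let U : AddSubgroup V :=
    { carrier := {v | v + D₃ • v + D₃ • D₃ • v = 0}
      zero_mem' := by simp
      add_mem' := fun {a b} (ha : _ = _) (hb : _ = _) => by
        show a + b + D₃ • (a + b) + D₃ • D₃ • (a + b) = 0
        rw [smul_add, smul_add, show a + b + (D₃ • a + D₃ • b) + (D₃ • D₃ • a + D₃ • D₃ • b) =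
          (a + D₃ • a + D₃ • D₃ • a) + (b + D₃ • b + D₃ • D₃ • b) by abel, ha, hb, add_zero]
      neg_mem' := fun {a} (ha : _ = _) => by rwa [← eq_neg_of_add_eq_zero_left (vadd_self a)] }
  have hUA : ∀ a ∈ A, ∀ v ∈ U, a • v ∈ U := fun a ha v (hv : _ = _) => by
    show a • v + D₃ • a • v + D₃ • D₃ • a • v = 0
    rw [← mul_smul D₃ a v, hA a ha, mul_smul, ← mul_smul D₃ a (D₃ • v), hA a ha, mul_smul, ← smul_add, ← smul_add,
      hv, smul_zero]
  have hU0 : ∀ v ∈ U, v = 0 := by
    intro v hv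
    letI : MulAction ↥A ↥U :=
      { smul := fun a u => ⟨(a : K) • (u : V), hUA a a.2 u u.2⟩
        one_smul := fun u => Subtype.ext (one_smul K (u : V))
        mul_smul := fun a b u => Subtype.ext (mul_smul (a : K) (b : K) (u : V)) }
    haveI := Fact.mk Nat.prime_two
    have hA2 : IsPGroup 2 ↥A := fun a => ⟨1, by rw [pow_one]; exact Subtype.ext (by simpa using helem.2 _ a.2)⟩
    have h := hA2.card_modEq_card_fixedPoints (α := ↥U)
    have hfix : Nat.card ↥(MulAction.fixedPoints ↥A ↥U) = 1 := by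
      refine Nat.card_eq_one_iff_exists.2 ⟨⟨0, fun a => Subtype.ext (smul_zero (a : K))⟩, fun u => Subtype.ext ?_⟩
      refine Subtype.ext ?_
      have h1 := hline ((u : ↥U) : V) fun a ha => congrArg Subtype.val (u.2 ⟨a, ha⟩)
      have h2 : ((u : ↥U) : V) + D₃ • ((u : ↥U) : V) + D₃ • D₃ • ((u : ↥U) : V) = 0 := (u : ↥U).2
      rwa [h1, h1, vadd_self, zero_add] at h2
    obtain ⟨j, hj⟩ := card_addSubgroup_pow U
    rw [hfix, hj] at h
    have hj0 : j = 0 := by
      by_contra hj0
      obtain ⟨j', rfl⟩ := Nat.exists_eq_succ_of_ne_zero hj0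
      rw [Nat.ModEq, pow_succ] at h
      omega
    rw [hj0, pow_zero, AddSubgroup.card_eq_one] at hj
    rw [hj] at hv
    exact hv
  have hone : D₃ = 1 := c.faithful _ fun v => eq_of_vadd (hU0 _ (by
    show D₃ • v + v + D₃ • (D₃ • v + v) + D₃ • D₃ • (D₃ • v + v) = 0
    have h3 : D₃ • D₃ • D₃ • v = v := by rw [← mul_smul, ← mul_smul, hD3, one_smul]
    rw [smul_add, smul_add, h3,
      show D₃ • v + v + (D₃ • D₃ • v + D₃ • v) + (v + D₃ • D₃ • v) =
        (D₃ • v + D₃ • v) + (v + v) + (D₃ • D₃ • v + D₃ • D₃ • v) by abel]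
    simp only [vadd_self, add_zero]))
  rw [hone, orderOf_one] at hord
  omega

end CfsgLib.LargeFischer.Gen
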