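import Cfsg.Agent.Lib.LargeFischer.Core

/-!
# A group with a normal subgroup of shape 3.U4(3) acting on an orthogonal space of dimension twelve

The setting of the hypothesis `Core` without any condition on the index of the normal subgroup.
-/

set_option autoImplicit false
set_option linter.unusedSectionVars false

namespace CfsgLib.LargeFischer

open QuadraticMap
open CfsgLib.Schur.Tails.UFour (H4 card_H4)

variable {V : Type*} [AddCommGroup V] [Module (ZMod 2) V] [Finite V]
  {K : Type*} [Group K] [Finite K] [DistribMulAction K V]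

/-- The general setting: `M` is normal, of any index. -/
structure Gen (q : QuadraticForm (ZMod 2) V) (n : K) (M : Subgroup K) (φ : ↥M →* ↥H4) : Prop where
  isom : ∀ (k : K) (v : V), q (k • v) = q v
  faithful : ∀ k : K, (∀ v : V, k • v = v) → k = 1
  nondeg : ∀ v, (∀ w, polar q v w = 0) → v = 0
  cardV : Nat.card V = 4 ^ 6
  ordn : orderOf n = 3
  normal : ∀ k : K, k * n * k⁻¹ ∈ Subgroup.zpowers n
  normalM : M.Normal
  nM : n ∈ M
  surj : Function.Surjective φ
  ker : ∀ m : ↥M, φ m = 1 ↔ (m : K) ∈ Subgroup.zpowers n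

namespace Gen

variable {q : QuadraticForm (ZMod 2) V} {n : K} {M : Subgroup K} {φ : ↥M →* ↥H4} (c : Gen q n M φ)

include c

theorem n_three : n * n * n = 1 := by
  rw [← pow_two, ← pow_succ, show 2 + 1 = orderOf n from c.ordn.symm, pow_orderOf_eq_one]

theorem n_ne : n ≠ 1 := fun e => by have := c.ordn; rw [e, orderOf_one] at this; omega

theorem zn_cases {x : K} (hx : x ∈ Subgroup.zpowers n) : x = 1 ∨ x = n ∨ x = n * n := by
  classical
  rw [mem_zpowers_iff_mem_range_orderOf, c.ordn] at hx
  simp only [Finset.mem_image, Finset.mem_range] at hx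
  obtain ⟨i, hi, rfl⟩ := hx
  interval_cases i <;> simp [pow_succ]

theorem card_zn : Nat.card (Subgroup.zpowers n) = 3 := by rw [Nat.card_zpowers, c.ordn]

theorem ker_eq : φ.ker = (Subgroup.zpowers n).subgroupOf M := by
  ext m
  rw [MonoidHom.mem_ker, c.ker, Subgroup.mem_subgroupOf]

theorem zn_le : Subgroup.zpowers n ≤ M := Subgroup.zpowers_le.2 c.nM

theorem card_M : Nat.card ↥M = 9797760 := by
  have h := φ.ker.card_mul_index
  rw [Subgroup.index_ker, MonoidHom.range_eq_top.2 c.surj, Subgroup.card_top, card_H4, c.ker_eq,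
    Nat.card_congr (Subgroup.subgroupOfEquivOfLe c.zn_le).toEquiv, c.card_zn] at h
  exact h.symm.trans (by norm_num)

theorem card_K : Nat.card K = 9797760 * M.index := by rw [← c.card_M, M.card_mul_index]

/-- A subgroup of `M` containing `n` of index less than 112 is everything. -/
theorem le_of_relIndex {A : Subgroup K} (hn : n ∈ A) (hA : A.relIndex M < 112) : M ≤ A := by
  have hk : φ.ker ≤ A.subgroupOf M := by
    rw [c.ker_eq]
    exact fun m hm => (Subgroup.zpowers_le.2 hn) hm
  have h1 : ((A.subgroupOf M).map φ).index = (A.subgroupOf M).index := Subgroup.index_map_eq _ c.surj hk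
  have h2 : (A.subgroupOf M).map φ = ⊤ := h4_index (by rw [h1]; exact hA)
  rw [h2, Subgroup.index_top] at h1
  exact Subgroup.subgroupOf_eq_top.1 (Subgroup.index_eq_one.1 h1.symm)

theorem conj_n (k : K) : k * n * k⁻¹ = n ∨ k * n * k⁻¹ = n * n := by
  rcases c.zn_cases (c.normal k) with e | e | e
  · exact absurd (conj_eq_one_iff.1 e) c.n_ne
  · exact .inl e
  · exact .inr e

theorem commute {m : K} (hm : m ∈ M) : m * n = n * m := by
  have hle : M ≤ Subgroup.centralizer ({n} : Set K) := by
    refine c.le_of_relIndex (Subgroup.mem_centralizer_singleton_iff.2 rfl) ?_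
    by_cases h : M ≤ Subgroup.centralizer ({n} : Set K)
    · rw [Subgroup.relIndex_eq_one.2 h]; norm_num
    obtain ⟨a, ha, hac⟩ := SetLike.not_le_iff_exists.1 h
    have hinv : ∀ {x : K}, x ∉ Subgroup.centralizer ({n} : Set K) → x * n * x⁻¹ = n * n := fun {x} hx =>
      (c.conj_n x).resolve_left fun e => hx (Subgroup.mem_centralizer_singleton_iff.2 (mul_inv_eq_iff_eq_mul.1 e))
    have hn4 : n * n * (n * n) = n := by rw [← mul_assoc, c.n_three, one_mul]
    have h2 : ((Subgroup.centralizer ({n} : Set K)).subgroupOf M).index = 2 := by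
      refine Subgroup.index_eq_two_iff.2 ⟨⟨a, ha⟩, fun b => ?_⟩
      simp only [Subgroup.mem_subgroupOf, Subgroup.coe_mul]
      by_cases hb : (b : K) ∈ Subgroup.centralizer ({n} : Set K)
      · exact Or.inr ⟨hb, fun h => hac ((mul_mem_cancel_left hb).1 h)⟩
      · refine Or.inl ⟨Subgroup.mem_centralizer_singleton_iff.2 (mul_inv_eq_iff_eq_mul.1 ?_), hb⟩
        calc (b : K) * a * n * ((b : K) * a)⁻¹ = (b : K) * (a * n * a⁻¹) * (b : K)⁻¹ := by group
          _ = ((b : K) * n * (b : K)⁻¹) * ((b : K) * n * (b : K)⁻¹) := by rw [hinv hac]; group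
          _ = n := by rw [hinv hb, hn4]
    show ((Subgroup.centralizer ({n} : Set K)).subgroupOf M).index < 112
    omega
  exact Subgroup.mem_centralizer_singleton_iff.1 (hle hm)

theorem polar_smul (k : K) (x y : V) : polar q (k • x) (k • y) = polar q x y := by
  simp only [polar, ← smul_add, c.isom]

theorem smul_n_three (v : V) : n • n • n • v = v := by rw [← mul_smul, ← mul_smul, c.n_three, one_smul]

/-- Elementary abelian subgroups of `M` have order at most sixteen. -/
theorem elem_le {A : Subgroup K} (hAM : A ≤ M) (hA : Cfsg.IsElementaryAbelian 2 A) : Nat.card ↥A ≤ 16 := by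
  let f : ↥A →* ↥H4 := φ.comp (Subgroup.inclusion hAM)
  have hf : Function.Injective f := by
    rw [injective_iff_map_eq_one]
    intro x hx
    have h1 := (c.ker _).1 hx
    have h2 : (x : K) ^ 2 = 1 := hA.2 _ x.2
    refine Subtype.ext ?_
    rcases c.zn_cases h1 with e | e | e
    · exact e
    · rw [Subgroup.coe_inclusion] at e
      rw [e] at h2
      have := orderOf_dvd_of_pow_eq_one h2
      rw [c.ordn] at this; omega
    · rw [Subgroup.coe_inclusion] at e
      rw [e, pow_two, ← mul_assoc, c.n_three, one_mul] at h2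
      exact absurd h2 c.n_ne
  have he : Cfsg.IsElementaryAbelian 2 f.range := by
    refine ⟨⟨⟨?_⟩⟩, ?_⟩
    · rintro ⟨_, x, rfl⟩ ⟨_, y, rfl⟩
      refine Subtype.ext ?_
      show f x * f y = f y * f x
      rw [← map_mul, ← map_mul, show x * y = y * x from hA.1.is_comm.comm x y]
    · rintro _ ⟨x, rfl⟩
      rw [← map_pow, show x ^ 2 = 1 from Subtype.ext (by simpa using hA.2 _ x.2), map_one]
  rw [Nat.card_congr (MonoidHom.ofInjective hf).toEquiv]
  by_contra h
  have := (U43.elementary_facts he (by omega)).1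
  omega

/-- The restriction to a subgroup containing `M`. -/
theorem restrict {L : Subgroup K} (hL : M ≤ L) :
    Gen q (⟨n, hL c.nM⟩ : ↥L) (M.subgroupOf L) (φ.comp (Subgroup.subgroupOfEquivOfLe hL).toMonoidHom) where
  isom k v := c.isom k v
  faithful k hk := Subtype.ext (c.faithful k hk)
  nondeg := c.nondeg
  cardV := c.cardV
  ordn := (Subgroup.orderOf_mk _ _).trans c.ordn
  normal k := by
    obtain ⟨i, hi⟩ := Subgroup.mem_zpowers_iff.1 (c.normal k)
    exact Subgroup.mem_zpowers_iff.2 ⟨i, Subtype.ext (by simpa using hi)⟩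
  normalM := ⟨fun m hm g => Subgroup.mem_subgroupOf.2 (c.normalM.conj_mem _ (Subgroup.mem_subgroupOf.1 hm) _)⟩
  nM := Subgroup.mem_subgroupOf.2 c.nM
  surj := c.surj.comp (Subgroup.subgroupOfEquivOfLe hL).surjective
  ker m := by
    show φ _ = 1 ↔ _
    rw [c.ker]
    constructor
    · intro h
      obtain ⟨i, hi⟩ := Subgroup.mem_zpowers_iff.1 h
      exact Subgroup.mem_zpowers_iff.2 ⟨i, Subtype.ext (by simpa using hi)⟩
    · intro h
      obtain ⟨i, hi⟩ := Subgroup.mem_zpowers_iff.1 h
      exact Subgroup.mem_zpowers_iff.2 ⟨i, by simpa using congrArg Subtype.val hi⟩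

/-- Index two gives the hypothesis `Core`. -/
theorem toCore (h : M.index = 2) : Core q n M φ :=
  ⟨c.isom, c.faithful, c.nondeg, c.cardV, c.ordn, c.normal, h, c.nM, c.surj, c.ker⟩

end Gen

end CfsgLib.LargeFischer
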