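import Cfsg.Agent.Lib.LargeFischer.General.Main
import Cfsg.Agent.Lib.LargeFischer.Ext.Final
import Cfsg.Agent.Lib.Local.CharP
import Cfsg.Agent.Lib.Transfer.Basic

/-!
# A subgroup of index two: the largest Fischer group itself
-/

set_option autoImplicit false
set_option linter.unusedSectionVars false
set_option linter.style.haveILetI false
set_option maxHeartbeats 1000000

namespace CfsgLib.LargeFischer.GModel

open Subgroup QuadraticMap CfsgLib.LargeExtra
open CfsgLib.Schur.Tails.UFour (H4)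

variable {G : Type*} [Group G] [Finite G] {z : G}

set_option quotPrecheck false
local notation "CC" => (centralizer ({z} : Set G))

theorem exists_index_two (h : Cfsg.pResidual 2 G ≠ ⊤) : ∃ G₀ : Subgroup G, G₀.index = 2 := by
  haveI : Fact (Nat.Prime 2) := ⟨Nat.prime_two⟩
  haveI := CfsgLib.Transfer.pResidual_characteristic (G := G) (p := 2)
  obtain ⟨k, hk⟩ := CfsgLib.Transfer.index_pResidual (G := G) (p := 2)
  rcases k with _ | j
  · exact absurd (index_eq_one.1 (by rw [hk, pow_zero])) h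
  obtain ⟨S, hS⟩ := Sylow.exists_subgroup_card_pow_prime (G := G ⧸ Cfsg.pResidual 2 G) 2 (n := j)
    (by rw [← index_eq_card, hk]; exact pow_dvd_pow 2 (Nat.le_succ j))
  refine ⟨S.comap (QuotientGroup.mk' _), ?_⟩
  rw [index_comap_of_surjective _ (QuotientGroup.mk'_surjective _)]
  have h1 := S.card_mul_index
  rw [hS, ← index_eq_card, hk, pow_succ] at h1
  exact Nat.eq_of_mul_eq_mul_left (by positivity) h1

/-- The centraliser contains a Sylow 2-subgroup. -/
theorem exists_not_mem {Q : Subgroup CC} (hz : orderOf z = 2) (hQ : Cfsg.IsExtraspecial 2 Q) (hQn : Q.Normal)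
    (hcQ : centralizer (Q : Set CC) ≤ Q) {G₀ : Subgroup G} (hidx : G₀.index = 2) : ∃ c : CC, (c : G) ∉ G₀ := by
  classical
  haveI : Fact (Nat.Prime 2) := ⟨Nat.prime_two⟩
  by_contra hcon
  simp only [not_exists, not_not] at hcon
  obtain ⟨S⟩ : Nonempty (Sylow 2 CC) := inferInstance
  have hQS : Q ≤ (S : Subgroup CC) := (CfsgLib.Cores.le_pCore hQ.1.1).trans (CfsgLib.Cores.pCore_le_sylow S)
  obtain ⟨T, hT⟩ := (S.isPGroup'.map (Subgroup.subtype CC)).exists_le_sylow
  have hQT : ∀ q ∈ Q, ((q : CC) : G) ∈ (T : Subgroup G) := fun q hq => hT ⟨q, hQS hq, rfl⟩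
  -- the centre of `T` is generated by `z`
  have hzc : ∀ t ∈ (T : Subgroup G), t * z = z * t := by
    have hzC : z ∈ CC := mem_centralizer_singleton_iff.2 rfl
    have hzQ : (⟨z, hzC⟩ : CC) ∈ Q :=
      hcQ (mem_centralizer_iff.2 fun x _ => Subtype.ext (mem_centralizer_singleton_iff.1 x.2))
    have hz1 : z ≠ 1 := fun e => by rw [e, orderOf_one] at hz; omega
    haveI : Nontrivial ↥(T : Subgroup G) := ⟨⟨⟨z, hQT _ hzQ⟩, 1, fun e => hz1 (congrArg Subtype.val e)⟩⟩
    haveI := T.isPGroup'.center_nontrivial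
    obtain ⟨w, hw⟩ := exists_ne (1 : ↥(center ↥(T : Subgroup G)))
    set w₀ : G := ((w : ↥(T : Subgroup G)) : G) with hw₀
    have hwT : ∀ t ∈ (T : Subgroup G), t * w₀ = w₀ * t := fun t ht =>
      congrArg Subtype.val (mem_center_iff.1 w.2 ⟨t, ht⟩)
    have hwC : w₀ ∈ CC := mem_centralizer_singleton_iff.2 (hwT z (hQT _ hzQ)).symm
    have hwQ : (⟨w₀, hwC⟩ : CC) ∈ Q := hcQ (mem_centralizer_iff.2 fun x hx => Subtype.ext (hwT _ (hQT x hx)))
    have hwz : (⟨⟨w₀, hwC⟩, hwQ⟩ : ↥Q) ∈ center ↥Q :=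
      mem_center_iff.2 fun y => Subtype.ext (Subtype.ext (hwT _ (hQT y y.2)))
    have hzz : (⟨⟨z, hzC⟩, hzQ⟩ : ↥Q) ∈ center ↥Q :=
      mem_center_iff.2 fun y => Subtype.ext (Subtype.ext (mem_centralizer_singleton_iff.1 (y : CC).2))
    obtain ⟨u, -, -, huc⟩ := exists_centre_gen hQ
    have e1 := (huc _ hwz).resolve_left fun e => hw (Subtype.ext (Subtype.ext
      (congrArg (fun y : ↥Q => ((y : CC) : G)) e)))
    have e2 := (huc _ hzz).resolve_left fun e => hz1 (congrArg (fun y : ↥Q => ((y : CC) : G)) e)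
    have e3 : w₀ = z := congrArg (fun y : ↥Q => ((y : CC) : G)) (e1.trans e2.symm)
    intro t ht
    rw [← e3]
    exact hwT t ht
  have hTG : (T : Subgroup G) ≤ G₀ := fun t ht => hcon ⟨t, mem_centralizer_singleton_iff.2 (hzc t ht)⟩
  have hd := index_dvd_of_le hTG
  rw [hidx] at hd
  exact T.not_dvd_index hd

variable {Q : Subgroup (centralizer ({z} : Set G))} [Q.Normal]
  {V : Type*} [AddCommGroup V] [Module (ZMod 2) V] [DistribMulAction ((centralizer ({z} : Set G)) ⧸ Q) V] [Finite V]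
  {q : QuadraticForm (ZMod 2) V} {π : ↥Q → V} {n : (centralizer ({z} : Set G)) ⧸ Q}
  {M : Subgroup ((centralizer ({z} : Set G)) ⧸ Q)} {φ : ↥M →* ↥H4} (m : GModel z Q q π n M φ)

include m

/-- A subgroup of index two contains `Q`, `n` and `M`. -/
theorem le_index_two {G₀ : Subgroup G} (hidx : G₀.index = 2) :
    (∀ a : ↥Q, ((a : CC) : G) ∈ G₀) ∧ ∀ c : CC, (QuotientGroup.mk c : CC ⧸ Q) ∈ M → (c : G) ∈ G₀ := by
  classical
  haveI : G₀.Normal := normal_of_index_eq_two hidx
  have hsq : ∀ g : G, g * g ∈ G₀ := mul_self_mem_of_index_two hidx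
  have hcomm : ∀ g h : G, g * h * g⁻¹ * h⁻¹ ∈ G₀ := fun g h => by
    rw [mul_mem_iff_of_index_two hidx, mul_mem_iff_of_index_two hidx, mul_mem_iff_of_index_two hidx,
      inv_mem_iff, inv_mem_iff]
    tauto
  -- `z` is a square in `Q`
  have hzG : z ∈ G₀ := by
    obtain ⟨v, hv⟩ : ∃ v, q v ≠ 0 := by
      by_contra hc
      simp only [not_exists, not_not] at hc
      have hall : ∀ v : V, v = 0 := fun v => m.gen.nondeg v fun w => by simp [polar, hc]
      haveI : Subsingleton V := ⟨fun a b => (hall a).trans (hall b).symm⟩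
      have := m.gen.cardV
      rw [Nat.card_of_subsingleton (0 : V)] at this
      omega
    obtain ⟨a, rfl⟩ := m.surj v
    rcases (m.ker (a * a)).1 (by rw [m.pi_mul, vadd_self]) with e | e
    · exact absurd ((m.sq a).2 (Subtype.ext (Subtype.ext e))) hv
    · rw [← e]
      exact hsq _
  -- a lift of `n`
  obtain ⟨d, hd⟩ := QuotientGroup.mk_surjective (n * n)
  have hn : (QuotientGroup.mk (d * d) : CC ⧸ Q) = n := by
    rw [QuotientGroup.mk_mul, hd, show n * n * (n * n) = n * (n * n * n) by group, m.gen.n_three, mul_one]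
  have hQ : ∀ a : ↥Q, ((a : CC) : G) ∈ G₀ := by
    intro x
    let f : V → V := fun v => n • v + v
    have hf : Function.Surjective f := Finite.surjective_of_injective fun u v e => by
      have e1 : n • (u + v) + (u + v) = 0 := by
        rw [smul_add, show n • u + n • v + (u + v) = (n • u + u) + (n • v + v) by abel,
          show n • u + u = n • v + v from e, vadd_self]
      exact eq_of_vadd (m.gen.free (eq_of_vadd e1))
    obtain ⟨v, hv⟩ := hf (π x)
    obtain ⟨a, rfl⟩ := m.surj v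
    have hπ : π (MulAut.conjNormal (d * d) a * a) = π x := by
      rw [m.pi_mul, ← m.equiv, hn]
      exact hv
    have hy : (((MulAut.conjNormal (d * d) a * a : ↥Q) : CC) : G) ∈ G₀ := by
      simp only [Subgroup.coe_mul, MulAut.conjNormal_apply, Subgroup.coe_inv]
      rw [show (d : G) * (d : G) * ((a : CC) : G) * ((d : G) * (d : G))⁻¹ * ((a : CC) : G) =
        (((d : G) * (d : G)) * ((a : CC) : G) * ((d : G) * (d : G))⁻¹ * ((a : CC) : G)⁻¹) *
          (((a : CC) : G) * ((a : CC) : G)) by group]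
      exact mul_mem (hcomm _ _) (hsq _)
    rcases m.pi_eq hπ.symm with e | e
    · rwa [e] at hy
    · rw [e] at hy
      exact (mul_mem_cancel_right hzG).1 hy
  refine ⟨hQ, fun c hc => ?_⟩
  set R := G₀.subgroupOf CC with hR
  have hQR : Q ≤ R := fun a ha => hQ ⟨a, ha⟩
  set A := R.map (QuotientGroup.mk' Q) with hA
  have hnA : n ∈ A := ⟨d * d, hsq (d : G), hn⟩
  have hA2 : A.index ≤ 2 := by
    rw [hA, index_map_eq R (QuotientGroup.mk'_surjective Q) (by rw [QuotientGroup.ker_mk']; exact hQR)]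
    calc R.index ≤ G₀.index := relIndex_le_of_le_right le_top (by rw [relIndex_top_right, hidx]; norm_num) |>.trans_eq
          (relIndex_top_right G₀)
      _ = 2 := hidx
  have hMA : M ≤ A := m.gen.le_of_relIndex hnA <| by
    have := relIndex_le_of_le_right (H := A) (K := M) le_top
      (by rw [relIndex_top_right]; exact index_ne_zero_of_finite)
    rw [relIndex_top_right] at this
    omega
  obtain ⟨c', hc', e⟩ := hMA hc
  have h1 : c'⁻¹ * c ∈ Q := QuotientGroup.eq.1 e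
  have : c ∈ R := by simpa using mul_mem hc' (hQR h1)
  exact this

/-- Index four and a subgroup of index two. -/
theorem fi24_of_index_two (hz : orderOf z = 2) (hQ : Cfsg.IsExtraspecial 2 Q) (hcard : Nat.card ↥Q = 2 ^ 13)
    (hcQ : centralizer (Q : Set CC) ≤ Q) (hcore : Cfsg.pCore 2 CC = Q)
    {g : G} (hg : g * z * g⁻¹ ∈ Q.map (Subgroup.subtype CC)) (hg' : g * z * g⁻¹ ≠ z)
    (N₀ M₀ : Subgroup CC) [N₀.Normal] [M₀.Normal] (hQN : Q ≤ N₀) (hNM : N₀ ≤ M₀)
    (hNcard : Nat.card ↥N₀ = 3 * Nat.card ↥Q) {k : Type} [Field k] [Fintype k] (hk9 : Fintype.card k = 9)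
    (e : M₀ ⧸ N₀.subgroupOf M₀ ≃* Cfsg.PSU 4 k 3) (hM : M = M₀.map (QuotientGroup.mk' Q)) (h4 : M₀.index = 4)
    {G₀ : Subgroup G} (hidx : G₀.index = 2) :
    Nonempty (Cfsg.Spor.Fi24 ≃* G) := by
  classical
  haveI : Fact (Nat.Prime 2) := ⟨Nat.prime_two⟩
  obtain ⟨hQ0, hM0⟩ := m.le_index_two hidx
  obtain ⟨c₁, hc₁⟩ := exists_not_mem hz hQ inferInstance hcQ hidx
  haveI : G₀.Normal := normal_of_index_eq_two hidx
  have hzC : z ∈ CC := mem_centralizer_singleton_iff.2 rfl
  have hzG : z ∈ G₀ :=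
    hQ0 ⟨⟨z, hzC⟩, hcQ (mem_centralizer_iff.2 fun x _ => Subtype.ext (mem_centralizer_singleton_iff.1 x.2))⟩
  let z' : ↥G₀ := ⟨z, hzG⟩
  let ι : ↥(centralizer ({z'} : Set ↥G₀)) →* CC :=
    { toFun := fun x => ⟨((x : ↥G₀) : G), mem_centralizer_singleton_iff.2
        (congrArg Subtype.val (mem_centralizer_singleton_iff.1 x.2))⟩
      map_one' := rfl
      map_mul' := fun _ _ => rfl }
  have hι : Function.Injective ι := fun x y h => by
    have := congrArg (Subtype.val : CC → G) h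
    exact Subtype.ext (Subtype.ext this)
  have hrange : ι.range = G₀.subgroupOf CC := by
    ext c
    constructor
    · rintro ⟨x, rfl⟩
      exact (x : ↥G₀).2
    · intro hc
      exact ⟨⟨⟨(c : G), hc⟩, mem_centralizer_singleton_iff.2 (Subtype.ext (mem_centralizer_singleton_iff.1 c.2))⟩, rfl⟩
  set R := G₀.subgroupOf CC with hR
  have hR2 : R.index = 2 := by
    have h1 : R.index ≤ 2 := by
      have := relIndex_le_of_le_right (H := G₀) (K := CC) le_top
        (by rw [relIndex_top_right, hidx]; norm_num)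
      rwa [relIndex_top_right, hidx] at this
    have h2 : R.index ≠ 1 := fun e => hc₁ (by
      have : c₁ ∈ R := by rw [index_eq_one.1 e]; trivial
      exact this)
    have h3 : R.index ≠ 0 := index_ne_zero_of_finite
    omega
  haveI : R.Normal := normal_of_index_eq_two hR2
  have hMR : M₀ ≤ R := fun c hc => hM0 c (hM ▸ mem_map_of_mem _ hc)
  have hNR : N₀ ≤ R := hNM.trans hMR
  have hQR : Q ≤ R := hQN.trans hNR
  set Q' := Q.comap ι with hQ'
  have hmapc : ∀ {S : Subgroup CC}, S ≤ R → (S.comap ι).map ι = S := fun h =>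
    map_comap_eq_self (hrange ▸ h)
  have hcardc : ∀ {S : Subgroup CC}, S ≤ R → Nat.card ↥(S.comap ι) = Nat.card ↥S := fun {S} h => by
    rw [← card_map_of_injective hι, hmapc h]
  let eQ : ↥Q' ≃* ↥Q := ((Q.comap ι).equivMapOfInjective ι hι).trans (MulEquiv.subgroupCongr (hmapc hQR))
  have hQ'x : Cfsg.IsExtraspecial 2 ↥Q' := CfsgLib.LargeExtra.isExtraspecial_of_mulEquiv eQ.symm hQ
  -- the generalised Fitting subgroup
  have hcQ' : centralizer (Q' : Set _) ≤ Q' := fun x hx => by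
    refine hcQ (mem_centralizer_iff.2 fun y hy => ?_)
    obtain ⟨y', rfl⟩ : y ∈ ι.range := hrange ▸ hQR hy
    rw [← map_mul, ← map_mul, mem_centralizer_iff.1 hx y' hy]
  have hcore' : Cfsg.pCore 2 ↥(centralizer ({z'} : Set ↥G₀)) = Q' := by
    refine le_antisymm (fun x hx => ?_) (CfsgLib.Cores.le_pCore hQ'x.1.1)
    let eR : ↥(centralizer ({z'} : Set ↥G₀)) ≃* ↥R :=
      (MonoidHom.ofInjective hι).trans (MulEquiv.subgroupCongr hrange)
    have h1 : eR x ∈ Cfsg.pCore 2 ↥R := CfsgLib.Cores.map_pCore_le eR.toMonoidHom eR.surjective ⟨x, hx, rfl⟩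
    have h2 := CfsgLib.Cores.map_subtype_pCore_le_of_normal 2 R ⟨_, h1, rfl⟩
    rw [hcore] at h2
    exact h2
  have hF' : Cfsg.generalizedFittingSubgroup ↥(centralizer ({z'} : Set ↥G₀)) = Q' :=
    (CfsgLib.Local.HasCharP.generalizedFittingSubgroup_eq (p := 2) (by
      show centralizer ((Cfsg.pCore 2 ↥(centralizer ({z'} : Set ↥G₀)) : Subgroup _) : Set ↥(centralizer ({z'} : Set ↥G₀))) ≤ _
      rw [hcore']; exact hcQ')).trans hcore'
  have hF : Cfsg.generalizedFittingSubgroup CC = Q :=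
    (CfsgLib.Local.HasCharP.generalizedFittingSubgroup_eq (p := 2) (by
      show centralizer (Cfsg.pCore 2 CC : Set CC) ≤ _
      rw [hcore]; exact hcQ)).trans hcore
  -- the conjugator
  obtain ⟨g₁, hg₁, hg₁e⟩ : ∃ g₁ ∈ G₀, g₁ * z * g₁⁻¹ = g * z * g⁻¹ := by
    by_cases h : g ∈ G₀
    · exact ⟨g, h, rfl⟩
    · refine ⟨g * c₁, (mul_mem_iff_of_index_two hidx).2 (iff_of_false h hc₁), ?_⟩
      calc g * c₁ * z * (g * c₁)⁻¹ = g * ((c₁ : G) * z * (c₁ : G)⁻¹) * g⁻¹ := by group
        _ = _ := by rw [m.z_comm, mul_inv_cancel_right]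
  haveI : (N₀.comap ι).Normal := inferInstance
  have hnwc : ∃ g' : ↥G₀, (∃ hq : g' * z' * g'⁻¹ ∈ centralizer ({z'} : Set ↥G₀),
      (⟨g' * z' * g'⁻¹, hq⟩ : centralizer ({z'} : Set ↥G₀)) ∈ Q') ∧ g' * z' * g'⁻¹ ≠ z' := by
    refine ⟨⟨g₁, hg₁⟩, ?_, fun h => hg' ?_⟩
    · obtain ⟨a, ha, ea⟩ := hg
      have ea' : g₁ * z * g₁⁻¹ = (a : G) := hg₁e.trans ea.symm
      refine ⟨mem_centralizer_singleton_iff.2 (Subtype.ext ?_), ?_⟩
      · show g₁ * z * g₁⁻¹ * z = z * (g₁ * z * g₁⁻¹)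
        rw [ea']
        exact m.z_comm a
      · show ι _ ∈ Q
        convert SetLike.mem_coe.1 ha using 1
        exact Subtype.ext ea'
    · rw [← hg₁e]
      exact congrArg Subtype.val h
  -- the section
  have hT : Cfsg.IsOfLargeFischerTypeAt z' Q' := by
    refine ⟨⟨by rw [← hz]; exact (Subgroup.orderOf_coe z').symm, hF', hQ'x, by rw [hcardc hQR, hcard], hnwc⟩,
      N₀.comap ι, M₀.comap ι, inferInstance, inferInstance, comap_mono hQN, comap_mono hNM,
      by rw [hcardc hQR, hcardc hNR, hNcard], ⟨k, inferInstance, inferInstance, hk9, ?_⟩, ?_⟩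
    · let f : ↥(M₀.comap ι) →* M₀ ⧸ N₀.subgroupOf M₀ :=
        (QuotientGroup.mk' (N₀.subgroupOf M₀)).comp (ι.subgroupComap M₀)
      have hf : Function.Surjective f := fun y => by
        obtain ⟨⟨c, hc⟩, rfl⟩ := QuotientGroup.mk'_surjective _ y
        obtain ⟨x, rfl⟩ : c ∈ ι.range := hrange ▸ hMR hc
        exact ⟨⟨x, hc⟩, rfl⟩
      have hker : (N₀.comap ι).subgroupOf (M₀.comap ι) = f.ker := by
        ext x
        rw [MonoidHom.mem_ker]
        show ι x ∈ N₀ ↔ QuotientGroup.mk' _ _ = 1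
        rw [← MonoidHom.mem_ker, QuotientGroup.ker_mk']
        rfl
      exact ⟨((QuotientGroup.quotientMulEquivOfEq hker).trans
        (QuotientGroup.quotientKerEquivOfSurjective f hf)).trans e⟩
    · rw [index_comap, hrange]
      have := relIndex_mul_index hMR
      rw [hR2, h4] at this
      omega
  refine Ext.exists_iso hidx z' Q' hT ?_
  rw [hF]
  ext y
  constructor
  · rintro ⟨a, ha, rfl⟩
    obtain ⟨x, rfl⟩ : a ∈ ι.range := hrange ▸ hQR ha
    exact ⟨_, ⟨x, ha, rfl⟩, rfl⟩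
  · rintro ⟨_, ⟨x, hx, rfl⟩, rfl⟩
    exact ⟨ι x, hx, rfl⟩

end CfsgLib.LargeFischer.GModel
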