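import Cfsg.Agent.Lib.LargeFischer.General.Gen

/-!
# Involutions on a space of dimension twelve with a fixed point free element of order three
-/

set_option autoImplicit false
set_option linter.unusedSectionVars false
set_option linter.style.haveILetI false

namespace CfsgLib.LargeFischer

open QuadraticMap
open CfsgLib.Schur.Tails.UFour (H4)

variable {V : Type*} [AddCommGroup V] [Module (ZMod 2) V] [Finite V]
  {K : Type*} [Group K] [Finite K] [DistribMulAction K V]

/-- The fixed vectors of an element. -/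
def fixOne (y : K) : AddSubgroup V where
  carrier := {v | y • v = v}
  zero_mem' := smul_zero y
  add_mem' := fun {a b} (ha : y • a = a) (hb : y • b = b) => by
    show y • (a + b) = a + b
    rw [smul_add, ha, hb]
  neg_mem' := fun {a} (ha : y • a = a) => by
    show y • -a = -a
    rw [smul_neg, ha]

theorem mem_fixOne {y : K} {v : V} : v ∈ fixOne (V := V) y ↔ y • v = v := Iff.rfl

/-- The map `v ↦ y v + v`. -/
def moveHom (y : K) : V →+ V where
  toFun v := y • v + v
  map_zero' := by rw [smul_zero, add_zero]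
  map_add' a b := by rw [smul_add]; abel

theorem moveHom_apply (y : K) (v : V) : moveHom y v = y • v + v := rfl

theorem ker_moveHom (y : K) : (moveHom (V := V) y).ker = fixOne y := by
  ext v
  rw [AddMonoidHom.mem_ker, moveHom_apply, mem_fixOne]
  exact ⟨eq_of_vadd, fun h => by rw [h, vadd_self]⟩

theorem card_fix_mul_move (y : K) :
    Nat.card ↥(fixOne (V := V) y) * Nat.card ↥(moveHom (V := V) y).range = Nat.card V := by
  rw [← ker_moveHom]
  have h := (moveHom (V := V) y).ker.card_mul_index
  rwa [AddSubgroup.index_ker] at h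

theorem move_le_fix {y : K} (hy : y * y = 1) : (moveHom (V := V) y).range ≤ fixOne y := by
  rintro _ ⟨v, rfl⟩
  rw [mem_fixOne, moveHom_apply, smul_add, ← mul_smul, hy, one_smul, add_comm]

theorem card_addSubgroup_pow (A : AddSubgroup V) : ∃ d, Nat.card ↥A = 2 ^ d := by
  let A' := AddSubgroup.toZModSubmodule 2 A
  exact ⟨Module.finrank (ZMod 2) ↥A', card_eq_two_pow (V := ↥A')⟩

theorem polar_vadd (q : QuadraticForm (ZMod 2) V) (x : V) : polar q x x = 0 := polar_self_zero q x

namespace Gen

variable {q : QuadraticForm (ZMod 2) V} {n : K} {M : Subgroup K} {φ : ↥M →* ↥H4} (c : Gen q n M φ)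
  (hfree : ∀ v : V, n • v = v → v = 0)

include c hfree

theorem n_quad (v : V) : n • n • v = v + n • v := by
  have h : n • n • v + (v + n • v) = 0 := hfree _ (by
    rw [smul_add, smul_add, c.smul_n_three]
    abel)
  exact eq_of_vadd h

theorem polar_n_left (x y : V) : polar q (n • x) y = polar q x y + polar q x (n • y) := by
  have h := c.polar_smul n x (n • y)
  rw [n_quad c hfree, QuadraticMap.polar_add_right, c.polar_smul] at h
  rw [← h, add_comm (polar q x y), add_assoc, CharTwo.add_self_eq_zero, add_zero]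

theorem sum_n (v : V) : v + n • v + n • n • v = 0 := by
  rw [n_quad c hfree, vadd_self]

theorem polar_n_symm (x y : V) : polar q y (n • x) = polar q x y + polar q x (n • y) := by
  rw [QuadraticMap.polar_comm, polar_n_left c hfree]

theorem polar_self_n (v : V) : polar q v (n • v) = q v := by
  have h : q (v + n • v) = q v := by rw [← n_quad c hfree, c.isom, c.isom]
  rw [q_add, c.isom] at h
  rcases z2_cases (q v) with e | e <;> rw [e] at h ⊢
  · simpa using h
  · have : ∀ a : ZMod 2, 1 + 1 + a = 1 → a = 1 := by decide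
    exact this _ h

theorem smul_n_ne {v : V} (hv : v ≠ 0) : n • v ≠ v := fun e => hv (hfree v e)

/-- Subgroups invariant under `n` have order a power of four. -/
theorem card_four {A : AddSubgroup V} (hA : ∀ v ∈ A, n • v ∈ A) : ∃ k, Nat.card ↥A = 4 ^ k := by
  classical
  obtain ⟨d, hd⟩ := card_addSubgroup_pow A
  haveI := Fact.mk Nat.prime_three
  have hP : IsPGroup 3 ↥(Subgroup.zpowers n) := IsPGroup.of_card (n := 1) (by rw [c.card_zn, pow_one])
  letI : MulAction ↥(Subgroup.zpowers n) ↥A :=
    { smul := fun g v => ⟨(g : K) • (v : V), by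
        rcases c.zn_cases g.2 with e | e | e <;> rw [e]
        · rw [one_smul]; exact v.2
        · exact hA _ v.2
        · rw [mul_smul]; exact hA _ (hA _ v.2)⟩
      one_smul := fun v => Subtype.ext (one_smul K (v : V))
      mul_smul := fun g h v => Subtype.ext (mul_smul (g : K) (h : K) (v : V)) }
  have h := hP.card_modEq_card_fixedPoints (α := ↥A)
  have hfix : Nat.card ↥(MulAction.fixedPoints ↥(Subgroup.zpowers n) ↥A) = 1 := by
    refine Nat.card_eq_one_iff_exists.2 ⟨⟨0, fun g => Subtype.ext (smul_zero (g : K))⟩, fun v => Subtype.ext ?_⟩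
    refine Subtype.ext (hfree _ ?_)
    exact congrArg Subtype.val (v.2 ⟨n, Subgroup.mem_zpowers n⟩)
  rw [hfix, hd] at h
  rcases Nat.even_or_odd' d with ⟨m, rfl | rfl⟩
  · exact ⟨m, by rw [hd, pow_mul]; norm_num⟩
  · exfalso
    rw [Nat.ModEq, pow_succ, pow_mul, Nat.mul_mod, Nat.pow_mod] at h
    norm_num at h

theorem fix_inv {y : K} (hy : y * n = n * y) : ∀ v ∈ fixOne (V := V) y, n • v ∈ fixOne (V := V) y :=
  fun v (hv : y • v = v) => by rw [mem_fixOne, ← mul_smul, hy, mul_smul, hv]

theorem move_inv {y : K} (hy : y * n = n * y) :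
    ∀ v ∈ (moveHom (V := V) y).range, n • v ∈ (moveHom (V := V) y).range := by
  rintro _ ⟨v, rfl⟩
  exact ⟨n • v, by rw [moveHom_apply, moveHom_apply, smul_add, ← mul_smul, hy, mul_smul]⟩

theorem move_fix_perp {y : K} {u w : V} (hu : u ∈ (moveHom (V := V) y).range) (hw : y • w = w) :
    polar q u w = 0 := by
  obtain ⟨v, rfl⟩ := hu
  rw [moveHom_apply, QuadraticMap.polar_add_left]
  conv_lhs => arg 1; rw [← hw, c.polar_smul]
  exact CharTwo.add_self_eq_zero _

/-- The fixed and moved spaces of an involution commuting with `n`. -/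
theorem linear_cases {y : K} (hy : y * y = 1) (hy1 : y ≠ 1) (hyn : y * n = n * y) :
    ∃ k, 3 ≤ k ∧ k ≤ 5 ∧ Nat.card ↥(fixOne (V := V) y) = 4 ^ k ∧
      Nat.card ↥(moveHom (V := V) y).range = 4 ^ (6 - k) := by
  obtain ⟨k, hk⟩ := card_four c hfree (fix_inv c hfree hyn)
  obtain ⟨j, hj⟩ := card_four c hfree (move_inv c hfree hyn)
  have hle := Nat.le_of_dvd Nat.card_pos (AddSubgroup.card_dvd_of_le (move_le_fix (V := V) hy))
  have hm := card_fix_mul_move (V := V) y
  rw [hk, hj, c.cardV, ← pow_add] at hm
  have hkj := Nat.pow_right_injective (by norm_num : 2 ≤ 4) hm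
  rw [hk, hj] at hle
  have hjk : j ≤ k := (Nat.pow_le_pow_iff_right (by norm_num)).1 hle
  refine ⟨k, by omega, ?_, hk, by rw [hj]; congr 1; omega⟩
  by_contra hk6
  refine hy1 (c.faithful y fun v => ?_)
  have h0 : Nat.card ↥(moveHom (V := V) y).range = 1 := by rw [hj, show j = 0 by omega, pow_zero]
  rw [AddSubgroup.card_eq_one] at h0
  have h1 : moveHom y v ∈ (moveHom (V := V) y).range := ⟨v, rfl⟩
  rw [h0, AddSubgroup.mem_bot] at h1
  exact eq_of_vadd h1

/-- The fixed space of an element inverting `n` meets its image under `n` trivially. -/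
theorem semi_disjoint {y : K} (hyn : y * n = n * n * y) {v : V} (hv : y • v = v) (hnv : y • n • v = n • v) :
    v = 0 := by
  refine hfree v ?_
  have h : y • n • v = n • n • v := by rw [← mul_smul, hyn, mul_smul, mul_smul, hv]
  rw [hnv] at h
  exact (smul_left_cancel n h).symm

theorem semi_small {y : K} (hyn : y * n = n * n * y) {A : AddSubgroup V} (hA : ∀ v ∈ A, n • v ∈ A) :
    Nat.card ↥(A ⊓ fixOne (V := V) y) * Nat.card ↥(A ⊓ fixOne (V := V) y) ≤ Nat.card ↥A := by
  rw [← Nat.card_prod]
  refine Nat.card_le_card_of_injective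
    (fun p => (⟨(p.1 : V) + n • (p.2 : V), A.add_mem p.1.2.1 (hA _ p.2.2.1)⟩ : ↥A)) ?_
  rintro ⟨a, b⟩ ⟨a', b'⟩ h
  have h' : (a : V) + n • (b : V) = (a' : V) + n • (b' : V) := congrArg Subtype.val h
  have hd : n • ((b : V) - b') = (a' : V) - a := by
    rw [smul_sub, sub_eq_sub_iff_add_eq_add, add_comm, h', add_comm]
  have h0 : (b : V) - b' = 0 := semi_disjoint c hfree hyn
    ((fixOne (V := V) y).sub_mem b.2.2 b'.2.2)
    (by rw [hd]; exact (fixOne (V := V) y).sub_mem a'.2.2 a.2.2)
  have hb : b = b' := Subtype.ext (sub_eq_zero.1 h0)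
  subst hb
  exact Prod.ext (Subtype.ext (add_right_cancel h')) rfl

theorem semi_cases {y : K} (hy : y * y = 1) (hyn : y * n = n * n * y) :
    Nat.card ↥(fixOne (V := V) y) = 64 ∧ Nat.card ↥(moveHom (V := V) y).range = 64 := by
  have h := semi_small c hfree (A := ⊤) hyn fun _ _ => trivial
  rw [top_inf_eq, AddSubgroup.card_top, c.cardV] at h
  have hle := Nat.le_of_dvd Nat.card_pos (AddSubgroup.card_dvd_of_le (move_le_fix (V := V) hy))
  have hm := card_fix_mul_move (V := V) y
  rw [c.cardV] at hm
  generalize Nat.card ↥(fixOne (V := V) y) = a at *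
  generalize Nat.card ↥(moveHom (V := V) y).range = b at *
  norm_num at h hm
  have h1 : a ≤ 64 := by nlinarith
  constructor <;> nlinarith

theorem semi_isotropic {y : K} (hyn : y * n = n * n * y) {u v : V} (hu : y • u = u) (hv : y • v = v) :
    polar q u v = 0 := by
  have h : polar q (y • u) (y • n • v) = polar q u (n • v) := c.polar_smul y u _
  rw [hu, ← mul_smul y n, hyn, mul_smul, mul_smul, hv, n_quad c hfree, QuadraticMap.polar_add_right] at h
  exact left_eq_add.1 (h.symm.trans (by rw [add_comm])) 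

end Gen

end CfsgLib.LargeFischer
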