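import Cfsg.Agent.Lib.LargeFischer.General.Four

/-!
# The index of the inner part when the central involution is fused into `Q`
-/

set_option autoImplicit false
set_option linter.unusedSectionVars false
set_option linter.style.haveILetI false

namespace CfsgLib.LargeFischer.GModel

open Subgroup QuadraticMap CfsgLib.LargeExtra
open CfsgLib.Schur.Tails.UFour (H4)

variable {G : Type*} [Group G] [Finite G] {z : G} {Q : Subgroup (centralizer ({z} : Set G))} [Q.Normal]
  {V : Type*} [AddCommGroup V] [Module (ZMod 2) V] [DistribMulAction ((centralizer ({z} : Set G)) ⧸ Q) V] [Finite V]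
  {q : QuadraticForm (ZMod 2) V} {π : ↥Q → V} {n : (centralizer ({z} : Set G)) ⧸ Q}
  {M : Subgroup ((centralizer ({z} : Set G)) ⧸ Q)} {φ : ↥M →* ↥H4} (m : GModel z Q q π n M φ)

set_option quotPrecheck false
local notation "CC" => (centralizer ({z} : Set G))

include m

/-- With fusion into `Q` the index is two or four. -/
theorem index_two_or_four (hz : orderOf z = 2) (hQ : Cfsg.IsExtraspecial 2 Q) (hcard : Nat.card ↥Q = 2 ^ 13)
    (hcQ : centralizer (Q : Set CC) ≤ Q) {g : G} (hg : g * z * g⁻¹ ∈ Q.map (Subgroup.subtype CC))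
    (hg' : g * z * g⁻¹ ≠ z) : M.index = 2 ∨ M.index = 4 := by
  classical
  have hfree : ∀ v : V, n • v = v → v = 0 := fun v => m.gen.free
  obtain ⟨a, ha, e⟩ := id hg
  obtain ⟨hs, D, hd, -, -, hD, hinv⟩ :=
    m.centData_full hfree (m.pairHyp hz hQ hcQ hg hg') hcard (x := ⟨a, ha⟩) e
  have h3 := m.gen.not_three hd hD hinv hs
  obtain ⟨X, hMX, hX, -, -⟩ := m.elem_mem hz hQ hcard hcQ hg hg'
  have h2 : 2 ∣ M.index := ⟨X.index, by rw [← relIndex_mul_index hMX, hX]⟩
  have h12 := m.gen.index_dvd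
  have hle := Nat.le_of_dvd (by norm_num) h12
  have hpos : 0 < M.index := Nat.pos_of_ne_zero Subgroup.index_ne_zero_of_finite
  obtain ⟨k, hk⟩ : ∃ k, M.index = k := ⟨_, rfl⟩
  rw [hk] at h3 h2 h12 hle hpos ⊢
  clear hk
  interval_cases k <;> omega

/-- With index four the quotient is a four-group. -/
theorem exponent_two (h4 : M.index = 4) (k : CC ⧸ Q) : k * k ∈ M := by
  classical
  obtain ⟨S, hS4, hSM, hS⟩ := m.gen.exists_four h4
  haveI := m.gen.normalM
  let f : ↥S → (CC ⧸ Q) ⧸ M := fun s => ((s : CC ⧸ Q) : (CC ⧸ Q) ⧸ M)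
  have hinj : Function.Injective f := fun s t e => by
    have h : (s : CC ⧸ Q)⁻¹ * t ∈ S ⊓ M := ⟨S.mul_mem (S.inv_mem s.2) t.2, QuotientGroup.eq.1 e⟩
    rw [hSM, mem_bot] at h
    exact Subtype.ext (inv_mul_eq_one.1 h)
  haveI := Fintype.ofFinite ↥S
  haveI := Fintype.ofFinite ((CC ⧸ Q) ⧸ M)
  obtain ⟨s, hs⟩ := ((Fintype.bijective_iff_injective_and_card f).2 ⟨hinj, by
    rw [← Nat.card_eq_fintype_card, ← Nat.card_eq_fintype_card, hS4, ← Subgroup.index_eq_card, h4]⟩).2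
      (k : (CC ⧸ Q) ⧸ M)
  rw [← QuotientGroup.eq_one_iff, QuotientGroup.mk_mul, ← hs]
  show ((s : CC ⧸ Q) : (CC ⧸ Q) ⧸ M) * ((s : CC ⧸ Q) : (CC ⧸ Q) ⧸ M) = 1
  rw [← QuotientGroup.mk_mul, (hS s s.2).1, QuotientGroup.mk_one]

end CfsgLib.LargeFischer.GModel
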