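import Cfsg.Agent.Lib.LargeFischer.General.Gen
import Cfsg.Prelude.Def_MonsterType
import Cfsg.Agent.Lib.LargeFischer.ChartAction

/-!
# Centralisers of shape 2^(1+12).3U4(3).any: from the hypothesis to the action on the chart
-/

set_option autoImplicit false
set_option linter.unusedSectionVars false
set_option linter.style.haveILetI false

namespace CfsgLib.LargeFischer

open Subgroup QuadraticMap CfsgLib.LargeExtra
open CfsgLib.Schur.Tails.UFour (H4 psu_equiv_H4)

variable {G : Type*} [Group G] [Finite G]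

/-- The chart of `Q` modulo its centre with the action of the centraliser modulo `Q`. -/
structure GModel (z : G) (Q : Subgroup (centralizer ({z} : Set G))) [Q.Normal] {V : Type*} [AddCommGroup V]
    [Module (ZMod 2) V] [DistribMulAction ((centralizer ({z} : Set G)) ⧸ Q) V] [Finite V]
    (q : QuadraticForm (ZMod 2) V) (π : ↥Q → V) (n : (centralizer ({z} : Set G)) ⧸ Q)
    (M : Subgroup ((centralizer ({z} : Set G)) ⧸ Q)) (φ : ↥M →* ↥H4) : Prop where
  gen : Gen q n M φ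
  pi_mul : ∀ x y, π (x * y) = π x + π y
  surj : Function.Surjective π
  ker : ∀ x : ↥Q, π x = 0 ↔ ((x : centralizer ({z} : Set G)) : G) = 1 ∨ ((x : centralizer ({z} : Set G)) : G) = z
  sq : ∀ x : ↥Q, q (π x) = 0 ↔ x * x = 1
  equiv : ∀ (c : centralizer ({z} : Set G)) (x : ↥Q),
    (QuotientGroup.mk c : (centralizer ({z} : Set G)) ⧸ Q) • π x = π (MulAut.conjNormal c x)

/-- The hypotheses on the centraliser. -/
structure Shape (z : G) (Q : Subgroup (centralizer ({z} : Set G))) : Prop where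
  ord : orderOf z = 2
  extra : Cfsg.IsExtraspecial 2 Q
  card : Nat.card Q = 2 ^ 13
  self : centralizer (Q : Set (centralizer ({z} : Set G))) ≤ Q
  layers : ∃ (N M : Subgroup (centralizer ({z} : Set G))) (_ : N.Normal) (_ : M.Normal),
    Q ≤ N ∧ N ≤ M ∧ Nat.card N = 3 * Nat.card Q ∧
    ∃ (k : Type) (_ : Field k) (_ : Fintype k), Fintype.card k = 9 ∧ Nonempty (M ⧸ N.subgroupOf M ≃* Cfsg.PSU 4 k 3)

theorem exists_gmodel_of_chart (z : G) (Q : Subgroup (centralizer ({z} : Set G))) [Q.Normal]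
    {N₀ M₀ : Subgroup (centralizer ({z} : Set G))} [hNn : N₀.Normal] [hMn : M₀.Normal]
    (hQ : Cfsg.IsExtraspecial 2 Q) (hcQ : centralizer (Q : Set (centralizer ({z} : Set G))) ≤ Q) (hQN : Q ≤ N₀)
    (hNM : N₀ ≤ M₀) (hNcard : Nat.card N₀ = 3 * Nat.card Q) {k : Type} [fk : Field k] [ftk : Fintype k]
    (hk9 : Fintype.card k = 9) (e : M₀ ⧸ N₀.subgroupOf M₀ ≃* Cfsg.PSU 4 k 3)
    {ι : Type} [Fintype ι] [DecidableEq ι] (hι : Fintype.card ι = 12)
    (q : QuadraticForm (ZMod 2) (ι → ZMod 2)) {z₀ : ↥Q} (hz₀ : z₀ ∈ center ↥Q)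
    (hz₀z : ((z₀ : centralizer ({z} : Set G)) : G) = z) (C : OutExtra.Chart ↥Q (⇑q) z₀) :
    ∃ (_ : DistribMulAction ((centralizer ({z} : Set G)) ⧸ Q) (ι → ZMod 2)) (π : ↥Q → ι → ZMod 2)
      (n : (centralizer ({z} : Set G)) ⧸ Q) (φ : ↥(M₀.map (QuotientGroup.mk' Q)) →* ↥H4),
      GModel z Q q π n (M₀.map (QuotientGroup.mk' Q)) φ := by
  classical
  have hfix : ∀ c : centralizer ({z} : Set G), c * (z₀ : centralizer ({z} : Set G)) * c⁻¹ = z₀ := fun c => by
    refine Subtype.ext ?_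
    show (c : G) * ((z₀ : centralizer ({z} : Set G)) : G) * (c : G)⁻¹ = _
    rw [hz₀z, mem_centralizer_singleton_iff.1 c.2, mul_inv_cancel_right]
  have hself : ∀ c : centralizer ({z} : Set G), (∀ x ∈ Q, c * x = x * c) → c ∈ Q := fun c hc =>
    hcQ (mem_centralizer_iff.2 fun x hx => (hc x hx).symm)
  obtain ⟨ρ, hker, hρ⟩ := chart_action q Q hQ hz₀ hfix hself C
  let ρ' : (centralizer ({z} : Set G)) ⧸ Q →* CfsgLib.Classical.qAut q := QuotientGroup.lift Q ρ hker.ge
  letI inst : DistribMulAction ((centralizer ({z} : Set G)) ⧸ Q) (ι → ZMod 2) :=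
    { smul := fun c v => (ρ' c).1 v
      one_smul := fun v => by show (ρ' 1).1 v = v; rw [map_one]; rfl
      mul_smul := fun a b v => by show (ρ' (a * b)).1 v = _; rw [map_mul]; rfl
      smul_zero := fun a => map_zero (ρ' a).1
      smul_add := fun a u v => map_add (ρ' a).1 u v }
  have hsmul : ∀ (c : centralizer ({z} : Set G)) (v : ι → ZMod 2),
      (QuotientGroup.mk c : (centralizer ({z} : Set G)) ⧸ Q) • v = (ρ c).1 v := fun c v => rfl
  set mk := QuotientGroup.mk' Q with hmk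
  have hkerN : ∀ {S : Subgroup (centralizer ({z} : Set G))}, Q ≤ S → mk.ker ≤ S := fun h => by
    rw [hmk, QuotientGroup.ker_mk']; exact h
  have hNbar : Nat.card ↥(N₀.map mk) = 3 := by
    have h1 : (N₀.map mk).index = N₀.index := index_map_eq N₀ (QuotientGroup.mk'_surjective Q) (hkerN hQN)
    have h2 := (N₀.map mk).card_mul_index
    have h3 := N₀.card_mul_index
    rw [Subgroup.card_eq_card_quotient_mul_card_subgroup Q, hNcard] at h3
    rw [h1] at h2
    have hpos : 0 < N₀.index := Nat.pos_of_ne_zero Subgroup.index_ne_zero_of_finite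
    have hQpos : 0 < Nat.card ↥Q := Nat.card_pos
    rw [← h2] at h3
    have h4 : 3 * (Nat.card ↥Q * N₀.index) = Nat.card ↥(N₀.map mk) * (Nat.card ↥Q * N₀.index) := by linarith
    exact (Nat.eq_of_mul_eq_mul_right (Nat.mul_pos hQpos hpos) h4).symm
  haveI := Fact.mk Nat.prime_three
  obtain ⟨n', hn'⟩ := exists_prime_orderOf_dvd_card' (G := ↥(N₀.map mk)) 3 (by rw [hNbar])
  have hn3 : orderOf (n' : (centralizer ({z} : Set G)) ⧸ Q) = 3 := by rw [Subgroup.orderOf_coe, hn']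
  have hzn : zpowers (n' : (centralizer ({z} : Set G)) ⧸ Q) = N₀.map mk :=
    eq_of_le_of_card_ge (zpowers_le.2 n'.2) (by rw [Nat.card_zpowers, hn3, hNbar])
  obtain ⟨eH⟩ := psu_equiv_H4 k hk9
  let f : ↥M₀ →* ↥H4 := (eH.symm.toMonoidHom.comp e.toMonoidHom).comp (QuotientGroup.mk' (N₀.subgroupOf M₀))
  let p : ↥M₀ →* ↥(M₀.map mk) := mk.subgroupMap M₀
  have hp : Function.Surjective p := mk.subgroupMap_surjective M₀
  have hf : ∀ x : ↥M₀, f x = 1 ↔ (x : centralizer ({z} : Set G)) ∈ N₀ := by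
    intro x
    show eH.symm (e (QuotientGroup.mk' (N₀.subgroupOf M₀) x)) = 1 ↔ _
    rw [MulEquiv.map_eq_one_iff, MulEquiv.map_eq_one_iff, ← MonoidHom.mem_ker, QuotientGroup.ker_mk',
      mem_subgroupOf]
  have hple : p.ker ≤ f.ker := fun x hx => by
    rw [MonoidHom.mem_ker, hf]
    refine hQN ?_
    rw [← QuotientGroup.ker_mk' Q, MonoidHom.mem_ker]
    exact congrArg Subtype.val (MonoidHom.mem_ker.1 hx)
  let φ : ↥(M₀.map mk) →* ↥H4 := p.liftOfSurjective hp ⟨f, hple⟩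
  have hφ : ∀ x, φ (p x) = f x := fun x => p.liftOfRightInverse_comp_apply _ _ ⟨f, hple⟩ x
  have hqadd : ∀ a b : ↥Q, a * b = b * a → polar q (C.π a) (C.π b) = 0 := by
    intro a b hab
    rcases z2_cases (polar q (C.π a) (C.π b)) with h | h
    · exact h
    exfalso
    have e1 : a * b * (a * b) = (a * a) * (b * b) := by
      rw [mul_assoc, ← mul_assoc b, ← hab]; group
    rw [C.sq_eq, C.sq_eq, C.sq_eq, C.pi_mul, q_add, h] at e1
    have hzz := C.z_sq
    have hz1 := C.z_ne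
    rcases z2_cases (q (C.π a)) with h1 | h1 <;> rcases z2_cases (q (C.π b)) with h2 | h2 <;>
      simp [h1, h2, hzz, show (1 : ZMod 2) + 1 = 0 from rfl] at e1
    all_goals first | exact hz1 e1 | exact hz1 e1.symm
  have hnd : ∀ v, (∀ w, polar q v w = 0) → v = 0 := by
    intro v hv
    obtain ⟨a, rfl⟩ := C.surj v
    have hc : ∀ b : ↥Q, b * a = a * b := by
      intro b
      have e1 : a * b * (a * b) = (a * a) * (b * b) := by
        rw [C.sq_eq (a * b), C.sq_eq a, C.sq_eq b, C.pi_mul, q_add, hv (C.π b), add_zero]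
        have hzz := C.z_sq
        rcases z2_cases (q (C.π a)) with h1 | h1 <;> rcases z2_cases (q (C.π b)) with h2 | h2 <;>
          simp [h1, h2, hzz, show (1 : ZMod 2) + 1 = 0 from rfl]
      calc b * a = a⁻¹ * (a * b * (a * b)) * b⁻¹ := by group
        _ = a * b := by rw [e1]; group
    exact (C.ker_iff a).2 (C.center_le hQ hz₀ a (mem_center_iff.2 hc))
  refine ⟨inst, C.π, n', φ, ⟨?_, ?_, hnd, ?_, hn3, ?_, ?_, ?_, ?_, ?_⟩, C.pi_mul, C.surj, ?_, ?_, ?_⟩
  · intro c v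
    obtain ⟨c, rfl⟩ := QuotientGroup.mk_surjective c
    rw [hsmul]
    exact (ρ c).2 v
  · intro c hc
    obtain ⟨c, rfl⟩ := QuotientGroup.mk_surjective c
    rw [QuotientGroup.eq_one_iff, ← hker, MonoidHom.mem_ker]
    exact CfsgLib.Classical.qAut_ext fun v => (hsmul c v).symm.trans (hc v)
  · rw [Nat.card_fun, Nat.card_zmod, Nat.card_eq_fintype_card (α := ι), hι]; norm_num
  · intro c
    rw [hzn]
    haveI : (N₀.map mk).Normal := hNn.map mk (QuotientGroup.mk'_surjective Q)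
    exact Normal.conj_mem inferInstance _ n'.2 c
  · exact hMn.map mk (QuotientGroup.mk'_surjective Q)
  · exact map_mono hNM n'.2
  · intro y
    obtain ⟨x, hx⟩ := (eH.symm.surjective.comp e.surjective).comp (QuotientGroup.mk'_surjective _) y
    exact ⟨p x, (hφ x).trans hx⟩
  · intro m
    obtain ⟨x, rfl⟩ := hp m
    rw [hφ, hf, hzn]
    show _ ↔ mk (x : centralizer ({z} : Set G)) ∈ N₀.map mk
    rw [← Subgroup.mem_comap, comap_map_eq_self (hkerN hQN)]
  · intro x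
    rw [C.ker_iff]
    refine or_congr ?_ ?_
    · exact ⟨fun h => by rw [h]; rfl, fun h => Subtype.ext (Subtype.ext h)⟩
    · exact ⟨fun h => by rw [h, hz₀z], fun h => Subtype.ext (Subtype.ext (h.trans hz₀z.symm))⟩
  · intro x
    rw [C.sq_eq]
    rcases z2_cases (q (C.π x)) with h | h <;> simp [h, C.z_ne]
  · intro c x
    rw [hsmul, hρ]

/-- The model with the given layers. -/
theorem exists_gmodel_layers (z : G) (Q : Subgroup (centralizer ({z} : Set G))) [Q.Normal] (hz : orderOf z = 2)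
    (hQ : Cfsg.IsExtraspecial 2 Q) (hcardQ : Nat.card Q = 2 ^ 13)
    (hself : centralizer (Q : Set (centralizer ({z} : Set G))) ≤ Q)
    (N₀ M₀ : Subgroup (centralizer ({z} : Set G))) [N₀.Normal] [M₀.Normal] (hQN : Q ≤ N₀) (hNM : N₀ ≤ M₀)
    (hNcard : Nat.card N₀ = 3 * Nat.card Q) (k : Type) [Field k] [Fintype k] (hk9 : Fintype.card k = 9)
    (e : M₀ ⧸ N₀.subgroupOf M₀ ≃* Cfsg.PSU 4 k 3) :
    ∃ (ι : Type) (_ : Fintype ι) (q : QuadraticForm (ZMod 2) (ι → ZMod 2))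
      (_ : DistribMulAction ((centralizer ({z} : Set G)) ⧸ Q) (ι → ZMod 2)) (π : ↥Q → ι → ZMod 2)
      (n : (centralizer ({z} : Set G)) ⧸ Q) (φ : ↥(M₀.map (QuotientGroup.mk' Q)) →* ↥H4),
      GModel z Q q π n (M₀.map (QuotientGroup.mk' Q)) φ := by
  classical
  have hz1 : z ≠ 1 := fun h => by rw [h, orderOf_one] at hz; omega
  have hzQ : (⟨z, mem_centralizer_singleton_iff.2 rfl⟩ : centralizer ({z} : Set G)) ∈ Q :=
    hself (mem_centralizer_iff.2 fun x _ => Subtype.ext (mem_centralizer_singleton_iff.1 x.2))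
  have hzc : (⟨_, hzQ⟩ : ↥Q) ∈ center ↥Q := mem_center_iff.2 fun y =>
    Subtype.ext (Subtype.ext (mem_centralizer_singleton_iff.1 (y : centralizer ({z} : Set G)).2))
  obtain ⟨z₀, hz₀, hch⟩ := OutExtra.exists_chart hQ 5 (by rw [hcardQ])
  obtain ⟨w, -, -, hwc⟩ := exists_centre_gen hQ
  have hz₀z : ((z₀ : centralizer ({z} : Set G)) : G) = z := by
    have hz₀1 : z₀ ≠ 1 := by rcases hch with h | h <;> obtain ⟨C⟩ := h <;> exact C.z_ne
    have h2 : (⟨_, hzQ⟩ : ↥Q) ≠ 1 := fun h => hz1 (congrArg (fun y : ↥Q => ((y : centralizer ({z} : Set G)) : G)) h)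
    rw [(hwc _ hz₀).resolve_left hz₀1, ← (hwc _ hzc).resolve_left h2]
  rcases hch with h | h <;> obtain ⟨C⟩ := h
  · obtain ⟨i, π, n, φ, hm⟩ := exists_gmodel_of_chart z Q hQ hself hQN hNM hNcard hk9 e (by simp) _ hz₀ hz₀z C
    exact ⟨_, inferInstance, _, i, π, n, φ, hm⟩
  · obtain ⟨i, π, n, φ, hm⟩ := exists_gmodel_of_chart z Q hQ hself hQN hNM hNcard hk9 e (by simp) _ hz₀ hz₀z C
    exact ⟨_, inferInstance, _, i, π, n, φ, hm⟩

theorem exists_gmodel (z : G) (Q : Subgroup (centralizer ({z} : Set G))) [Q.Normal] (hS : Shape z Q) :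
    ∃ (ι : Type) (_ : Fintype ι) (q : QuadraticForm (ZMod 2) (ι → ZMod 2))
      (_ : DistribMulAction ((centralizer ({z} : Set G)) ⧸ Q) (ι → ZMod 2)) (π : ↥Q → ι → ZMod 2)
      (n : (centralizer ({z} : Set G)) ⧸ Q) (M : Subgroup ((centralizer ({z} : Set G)) ⧸ Q)) (φ : ↥M →* ↥H4),
      GModel z Q q π n M φ := by
  obtain ⟨hz, hQ, hcardQ, hself, N₀, M₀, hNn, hMn, hQN, hNM, hNcard, k, fk, ftk, hk9, ⟨e⟩⟩ := hS
  obtain ⟨ι, i1, q, i2, π, n, φ, hm⟩ :=
    exists_gmodel_layers z Q hz hQ hcardQ hself N₀ M₀ hQN hNM hNcard k hk9 e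
  exact ⟨ι, i1, q, i2, π, n, _, φ, hm⟩

end CfsgLib.LargeFischer
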