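import Cfsg.Agent.Lib.LargeFischer.General.Sub
import Cfsg.Agent.Lib.LargeFischer.General.Pairs
import Cfsg.Agent.Lib.LargeFischer.General.Fused
import Cfsg.Agent.Lib.LargeFischer.General.Bound
import Cfsg.Agent.Lib.LargeFischer.General.Char
import Cfsg.Agent.Lib.LargeFischer.Rest

/-!
# A fused involution with quotient of order four forces a subgroup of index two

The character killing the subgroup of index two generated with the elementary groups of the conjugates is
transferred. The orbits on which it is one at the conjugate are handled by two elementary groups of order 32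
above singular planes invariant under the element at which the transfer is evaluated.
-/

set_option autoImplicit false
set_option linter.unusedSectionVars false
set_option linter.style.haveILetI false
set_option maxHeartbeats 1000000

namespace CfsgLib.LargeFischer

open Subgroup QuadraticMap
open CfsgLib.Schur.Tails.UFour (H4)
open CfsgLib.InvolChar.OrbitTransfer CfsgLib.InvolChar.LargeExtraChar

/-- A character of a subgroup of an elementary group of order a power of two extends. -/
theorem extend_char {G : Type*} [Group G] [Finite G] (A : Subgroup G) (hA : ∀ a ∈ A, a * a = 1)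
    (P : Subgroup G) (hPA : P ≤ A) (ν : G → ZMod 2) (hν : ∀ a ∈ P, ∀ b ∈ P, ν (a * b) = ν a + ν b) :
    ∃ ω : G → ZMod 2, (∀ a ∈ A, ∀ b ∈ A, ω (a * b) = ω a + ω b) ∧ (∀ a ∈ P, ω a = ν a) ∧
      ((∀ a ∈ P, ν a = 0) → ∀ a ∈ A, ω a = 0) := by
  classical
  by_cases h0 : ∀ a ∈ P, ν a = 0
  · exact ⟨fun _ => 0, fun _ _ _ _ => (add_zero 0).symm, fun a ha => (h0 a ha).symm, fun _ _ _ => rfl⟩
  push Not at h0
  obtain ⟨p, hp, hp0⟩ := h0
  have hp1 : ν p = 1 := (z2_cases _).resolve_left hp0
  have hν1 : ν 1 = 0 := by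
    have h := hν 1 (one_mem P) 1 (one_mem P)
    rw [mul_one] at h
    exact left_eq_add.1 h
  have hcomm : ∀ a ∈ A, ∀ b ∈ A, a * b = b * a := fun a ha b hb => by
    calc a * b = (b * b) * (a * b) * (a * a) := by rw [hA a ha, hA b hb, one_mul, mul_one]
      _ = b * ((b * a) * (b * a)) * a := by group
      _ = b * a := by rw [hA _ (mul_mem hb ha), mul_one]
  have hinv : ∀ a ∈ A, a⁻¹ = a := fun a ha => inv_eq_of_mul_eq_one_right (hA a ha)
  let P0 : Subgroup G :=
    { carrier := {a | a ∈ P ∧ ν a = 0}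
      one_mem' := ⟨one_mem P, hν1⟩
      mul_mem' := fun {a b} ha hb => ⟨mul_mem ha.1 hb.1, by rw [hν a ha.1 b hb.1, ha.2, hb.2, add_zero]⟩
      inv_mem' := fun {a} ha => by rw [hinv a (hPA ha.1)]; exact ha }
  obtain ⟨L, hP0L, hL⟩ := Finite.exists_le_maximal (p := fun L : Subgroup G => P0 ≤ L ∧ L ≤ A ∧ p ∉ L) (a := P0)
    ⟨le_rfl, fun a ha => hPA ha.1, fun h => hp0 h.2⟩
  have hout : ∀ a ∈ A, a ∉ L → p * a ∈ L := by
    intro a ha hna
    by_contra hpa
    let L' : Subgroup G :=
      { carrier := {x | x ∈ L ∨ a * x ∈ L ∧ x ∈ A}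
        one_mem' := .inl (one_mem L)
        mul_mem' := by
          rintro x y (hx | ⟨hx, hxA⟩) (hy | ⟨hy, hyA⟩)
          · exact .inl (mul_mem hx hy)
          · refine .inr ⟨?_, mul_mem (hL.1.2.1 hx) hyA⟩
            rw [← mul_assoc, hcomm a ha x (hL.1.2.1 hx), mul_assoc]
            exact mul_mem hx hy
          · refine .inr ⟨?_, mul_mem hxA (hL.1.2.1 hy)⟩
            rw [← mul_assoc]
            exact mul_mem hx hy
          · refine .inl ?_
            have e : x * y = (a * x) * (a * y) := by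
              calc x * y = (a * a) * (x * y) := by rw [hA a ha, one_mul]
                _ = a * (a * x) * y := by group
                _ = (a * x) * a * y := by rw [hcomm a ha (a * x) (mul_mem ha hxA)]
                _ = _ := by group
            rw [e]
            exact mul_mem hx hy
        inv_mem' := by
          rintro x (hx | ⟨hx, hxA⟩)
          · exact .inl (inv_mem hx)
          · rw [hinv x hxA]; exact .inr ⟨hx, hxA⟩ }
    have hpL' : p ∉ L' := by
      rintro (h | ⟨h, -⟩)
      · exact hL.1.2.2 h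
      · exact hpa (by rw [hcomm p (hPA hp) a ha]; exact h)
    have hle : L ≤ L' := fun x hx => .inl hx
    have haL' : a ∈ L' := .inr ⟨by rw [hA a ha]; exact one_mem L, ha⟩
    exact hna (hL.2 ⟨hP0L.trans hle, fun x hx => hx.elim (fun h => hL.1.2.1 h) (fun h => h.2), hpL'⟩ hle haL')
  refine ⟨fun a => if a ∈ L then 0 else 1, fun a ha b hb => ?_, fun a ha => ?_, fun h => absurd (h p hp) hp0⟩
  · by_cases h : a ∈ L
    · simp only [mul_mem_cancel_left h, if_pos h, zero_add]
    · by_cases h' : b ∈ L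
      · simp only [mul_mem_cancel_right h', if_pos h', if_neg h, add_zero]
      · have hm : a * b ∈ L := by
          have e : a * b = (p * a) * (p * b) := by
            calc a * b = (p * p) * (a * b) := by rw [hA p (hPA hp), one_mul]
              _ = p * (p * a) * b := by group
              _ = (p * a) * p * b := by rw [hcomm p (hPA hp) (p * a) (mul_mem (hPA hp) ha)]
              _ = _ := by group
          rw [e]
          exact mul_mem (hout a ha h) (hout b hb h')
        simp only [if_neg h, if_neg h', if_pos hm]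
        decide
  · show (if a ∈ L then (0 : ZMod 2) else 1) = ν a
    rcases z2_cases (ν a) with e | e
    · rw [if_pos (hP0L ⟨ha, e⟩), e]
    · rw [e, if_neg]
      intro haL
      have h1 : p * a ∈ P0 := ⟨mul_mem hp ha, by rw [hν p hp a ha, hp1, e]; decide⟩
      exact hL.1.2.2 (by simpa [mul_assoc, hA a (hPA ha)] using mul_mem (hP0L h1) haL)

namespace GModel

variable {G : Type*} [Group G] [Finite G] {z : G} {Q : Subgroup (centralizer ({z} : Set G))} [Q.Normal]
  {V : Type*} [AddCommGroup V] [Module (ZMod 2) V] [DistribMulAction ((centralizer ({z} : Set G)) ⧸ Q) V] [Finite V]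
  {q : QuadraticForm (ZMod 2) V} {π : ↥Q → V} {n : (centralizer ({z} : Set G)) ⧸ Q}
  {M : Subgroup ((centralizer ({z} : Set G)) ⧸ Q)} {φ : ↥M →* ↥H4} (m : GModel z Q q π n M φ)

set_option quotPrecheck false
local notation "CC" => (centralizer ({z} : Set G))

/-- The image of an element of the centraliser, one elsewhere. -/
noncomputable def img' (Q : Subgroup (centralizer ({z} : Set G))) [Q.Normal] (y : G) :
    (centralizer ({z} : Set G)) ⧸ Q := by
  classical
  exact if h : y ∈ centralizer ({z} : Set G) then QuotientGroup.mk ⟨y, h⟩ else 1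

theorem img'_eq {y : G} (h : y ∈ CC) : img' Q y = QuotientGroup.mk ⟨y, h⟩ := by
  classical
  rw [img', dif_pos h]

/-- The elementary group above a singular subspace. -/
def plane (m : GModel z Q q π n M φ) (U : AddSubgroup V) : Subgroup G :=
  Subgroup.map ((Subgroup.subtype CC).comp Q.subtype)
    { carrier := {a : ↥Q | π a ∈ U}
      one_mem' := by show π 1 ∈ U; rw [m.pi_one]; exact U.zero_mem
      mul_mem' := fun {a b} (ha : π a ∈ U) (hb : π b ∈ U) => by show π (a * b) ∈ U; rw [m.pi_mul]; exact U.add_mem ha hb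
      inv_mem' := fun {a} (ha : π a ∈ U) => by show π a⁻¹ ∈ U; rw [m.pi_inv]; exact ha }

include m

theorem mem_plane {U : AddSubgroup V} {y : G} :
    y ∈ m.plane U ↔ ∃ a : ↥Q, π a ∈ U ∧ ((a : CC) : G) = y := Iff.rfl

theorem plane_comm {U : AddSubgroup V} (hU : ∀ u ∈ U, q u = 0) : ∀ a ∈ m.plane U, a * a = 1 := by
  rintro _ ⟨a, ha, rfl⟩
  exact congrArg (fun t : ↥Q => ((t : CC) : G)) ((m.sq a).1 (hU _ ha))

/-- Orbits on which the value is one: the centraliser in `Q` is elementary, so the plane moves. -/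
theorem plane_index (hfree : ∀ v : V, n • v = v → v = 0) (hz : orderOf z = 2)
    (hzQ : z ∈ Q.map (Subgroup.subtype CC)) {χ : G → ZMod 2} (hχ : Additive' CC χ)
    {c : G ⧸ CC} (hy : cj z c ∈ CC) (hne : img' Q (cj z c) ≠ 1) (h1 : χ (c.out⁻¹ * z * c.out) = 1)
    {U : AddSubgroup V} (hU16 : Nat.card ↥U = 16) (hU : ∀ u ∈ U, q u = 0 ∧ n • u ∈ U) :
    ((img' Q (cj z c) * n = n * img' Q (cj z c)) →
      (∀ u ∈ fixOne (V := V) (img' Q (cj z c)), ∀ v ∈ fixOne (V := V) (img' Q (cj z c)), polar q u v = 0)) ∧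
    (¬ (U ≤ fixOne (V := V) (img' Q (cj z c)) ∧ img' Q (cj z c) * n = n * img' Q (cj z c)) →
      4 ∣ Nat.card (orb (m.plane U) c)) := by
  classical
  obtain ⟨hzz, hz1⟩ := m.z_sq hz
  set y := cj z c with hyd
  set ū := img' Q y with hud
  have hue : ū = QuotientGroup.mk ⟨y, hy⟩ := img'_eq hy
  have hyy : y * y = 1 := by
    rw [hyd]; unfold cj
    rw [show c.out * z * c.out⁻¹ * (c.out * z * c.out⁻¹) = c.out * (z * z) * c.out⁻¹ by group, hzz]; group
  have hu2 : ū * ū = 1 := by
    rw [hue, ← QuotientGroup.mk_mul, show (⟨y, hy⟩ : CC) * ⟨y, hy⟩ = 1 from Subtype.ext hyy, QuotientGroup.mk_one]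
  obtain ⟨zQ, hzQe⟩ : ∃ a : ↥Q, ((a : CC) : G) = z := by
    obtain ⟨a, ha, e⟩ := hzQ
    exact ⟨⟨a, ha⟩, e⟩
  -- the centraliser of `y` in `Q`
  let P : Subgroup ↥Q := (centralizer ({y} : Set G)).comap ((Subgroup.subtype CC).comp Q.subtype)
  have hPiff : ∀ {a : ↥Q}, a ∈ P ↔ ((a : CC) : G) * y = y * ((a : CC) : G) := fun {a} => mem_centralizer_singleton_iff
  have hPfix : ∀ a ∈ P, ū • π a = π a := fun a ha => by
    rw [hue]
    refine (m.fixed_iff _ a).2 (.inl ?_)
    show y * ((a : CC) : G) * y⁻¹ = _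
    rw [← hPiff.1 ha, mul_inv_cancel_right]
  have hcout : ∀ {g : G}, g * y = y * g → c.out⁻¹ * g * c.out ∈ CC := by
    intro g hg
    refine mem_centralizer_singleton_iff.2 ?_
    rw [hyd] at hg
    unfold cj at hg
    calc c.out⁻¹ * g * c.out * z = c.out⁻¹ * (g * (c.out * z * c.out⁻¹)) * c.out := by group
      _ = c.out⁻¹ * (c.out * z * c.out⁻¹ * g) * c.out := by rw [hg]
      _ = z * (c.out⁻¹ * g * c.out) := by group
  have hνmul : ∀ g g' : G, g * y = y * g → g' * y = y * g' →
      χ (c.out⁻¹ * (g * g') * c.out) = χ (c.out⁻¹ * g * c.out) + χ (c.out⁻¹ * g' * c.out) := by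
    intro g g' hg hg'
    rw [← hχ _ (hcout hg) _ (hcout hg')]
    congr 1; group
  have hone : χ (c.out⁻¹ * 1 * c.out) = 0 := by rw [mul_one, inv_mul_cancel, map_one' hχ]
  have hzy : z * y = y * z := (mem_centralizer_singleton_iff.1 hy).symm
  -- `P` is elementary
  have hcase : ∀ a : ↥Q, a ∈ P → (π a = 0 → ((a : CC) : G) = 1 ∨ χ (c.out⁻¹ * ((a : CC) : G) * c.out) = 1) := by
    intro a _ h0
    rcases (m.ker a).1 h0 with e | e
    · exact .inl e
    · exact .inr (by rw [e]; exact h1)
  have hsq : ∀ a ∈ P, q (π a) = 0 := by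
    intro a ha
    rw [m.sq]
    refine Subtype.ext (Subtype.ext ?_)
    rcases hcase (a * a) (mul_mem ha ha) (by rw [m.pi_mul, vadd_self]) with e | e
    · exact e
    · exfalso
      simp only [Subgroup.coe_mul] at e
      rw [hνmul _ _ (hPiff.1 ha) (hPiff.1 ha), CharTwo.add_self_eq_zero] at e
      exact zero_ne_one e
  have hiso : ∀ v ∈ m.img P, ∀ w ∈ m.img P, polar q v w = 0 := by
    intro v hv w hw
    obtain ⟨a, ha, hav⟩ := (m.img P).add_mem hv hw
    have h := hsq a ha
    rw [hav, q_add] at h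
    obtain ⟨b, hb, rfl⟩ := hv
    obtain ⟨b', hb', rfl⟩ := hw
    rw [hsq b hb, hsq b' hb', zero_add, zero_add] at h
    exact h
  have hPC : m.img P ≤ fixOne (V := V) ū := by
    rintro _ ⟨a, ha, rfl⟩
    exact hPfix a ha
  have hP64 : Nat.card ↥(m.img P) ≤ 64 := by
    have hle : m.img P ≤ perpSub q (m.img P) := fun v hv w hw => hiso v hv w hw
    have h2 := Nat.le_of_dvd Nat.card_pos (AddSubgroup.card_dvd_of_le hle)
    have h3 := perpSub_card q m.gen.nondeg (m.img P)
    rw [m.gen.cardV] at h3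
    norm_num at h3
    nlinarith
  have hfixle : Nat.card ↥(fixOne (V := V) ū) ≤ 2 * Nat.card ↥(m.img P) := by
    by_cases hall : ∀ v ∈ fixOne (V := V) ū, v ∈ m.img P
    · have := Nat.le_of_dvd Nat.card_pos (AddSubgroup.card_dvd_of_le hall)
      omega
    push Not at hall
    obtain ⟨v₀, hv₀, hv₀P⟩ := hall
    have key : ∀ v, ū • v = v → v ∉ m.img P → ∀ a : ↥Q, π a = v → y * ((a : CC) : G) = ((a : CC) : G) * y * z := by
      intro v hv hvP a ha
      have haf : ū • π a = π a := by rw [ha]; exact hv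
      rw [hue] at haf
      rcases (m.fixed_iff _ a).1 haf with e | e
      · exact absurd ⟨a, hPiff.2 (mul_inv_eq_iff_eq_mul.1 e).symm, ha⟩ hvP
      · change y * ((a : CC) : G) * y⁻¹ = ((a : CC) : G) * z at e
        rw [mul_inv_eq_iff_eq_mul.1 e, mul_assoc, hzy, ← mul_assoc]
    let F : ↥(fixOne (V := V) ū) → Bool × ↥(m.img P) := fun v =>
      if hv : (v : V) ∈ m.img P then (true, ⟨v, hv⟩) else (false, ⟨(v : V) + v₀, by
        obtain ⟨a, ha⟩ := m.surj (v : V)
        obtain ⟨b, hb⟩ := m.surj v₀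
        refine ⟨a * b, hPiff.2 ?_, by rw [m.pi_mul, ha, hb]⟩
        have ea := key _ v.2 hv a ha
        have eb := key _ hv₀ hv₀P b hb
        simp only [Subgroup.coe_mul]
        calc ((a : CC) : G) * ((b : CC) : G) * y = ((a : CC) : G) * (((b : CC) : G) * y * z) * z := by
              rw [mul_assoc _ (((b : CC) : G) * y * z) z, mul_assoc _ z z, hzz, mul_one, mul_assoc]
          _ = ((a : CC) : G) * y * (((b : CC) : G) * z) := by rw [← eb]; group
          _ = ((a : CC) : G) * y * z * ((b : CC) : G) := by rw [m.z_comm (b : CC)]; group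
          _ = y * (((a : CC) : G) * ((b : CC) : G)) := by rw [← ea]; group⟩)
    have hF : Function.Injective F := by
      intro v w e
      simp only [F] at e
      split_ifs at e <;> simp only [Prod.mk.injEq, Subtype.mk.injEq] at e
      · exact Subtype.ext e.2
      · exact absurd e.1 (by decide)
      · exact absurd e.1 (by decide)
      · exact Subtype.ext (add_right_cancel e.2)
    have := Nat.card_le_card_of_injective F hF
    rwa [Nat.card_prod, Nat.card_eq_fintype_card (α := Bool), Fintype.card_bool] at this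
  have hC64 : ū * n = n * ū → Nat.card ↥(fixOne (V := V) ū) = 64 ∧
      ∀ u ∈ fixOne (V := V) ū, ∀ v ∈ fixOne (V := V) ū, polar q u v = 0 := by
    intro hun
    obtain ⟨k, hk3, -, hkC, hkW⟩ := Gen.linear_cases m.gen hfree hu2 hne hun
    have hk : k = 3 := by
      by_contra hc
      have h4 : 4 ^ 4 ≤ 4 ^ k := Nat.pow_le_pow_right (by norm_num) (by omega)
      rw [show (4 : ℕ) ^ 4 = 256 by norm_num] at h4
      omega
    subst hk
    refine ⟨by rw [hkC]; norm_num, fun u hu v hv => ?_⟩
    have hWC : (moveHom (V := V) ū).range = fixOne ū :=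
      SetLike.coe_injective (Set.eq_of_subset_of_ncard_le (move_le_fix (V := V) hu2) (by
        rw [← Nat.card_coe_set_eq, ← Nat.card_coe_set_eq]
        show Nat.card ↥(fixOne (V := V) ū) ≤ Nat.card ↥(moveHom (V := V) ū).range
        rw [hkC, hkW]) (Set.toFinite _))
    exact Gen.move_fix_perp m.gen hfree (hWC.ge hu) hv
  refine ⟨fun hun => (hC64 hun).2, fun hbad => ?_⟩
  -- the stabiliser in the plane
  have hsmall : Nat.card ↥(U ⊓ m.img P) ≤ 4 := by
    by_contra hbig
    have hle : Nat.card ↥(U ⊓ m.img P) ≤ Nat.card ↥(U ⊓ fixOne (V := V) ū) :=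
      Nat.le_of_dvd Nat.card_pos (AddSubgroup.card_dvd_of_le (inf_le_inf_left U hPC))
    rcases m.gen.conj_n ū with e | e
    · have hun : ū * n = n * ū := mul_inv_eq_iff_eq_mul.1 e
      obtain ⟨j, hj⟩ := Gen.card_four m.gen hfree (A := U ⊓ fixOne (V := V) ū)
        fun v hv => ⟨(hU v hv.1).2, Gen.fix_inv m.gen hfree hun v hv.2⟩
      have hdiv := AddSubgroup.card_dvd_of_le (inf_le_left : U ⊓ fixOne (V := V) ū ≤ U)
      rw [hU16, hj] at hdiv
      have hj2 : j = 2 := by
        have h1 := Nat.le_of_dvd (by norm_num) hdiv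
        rw [hj] at hle
        by_contra hc
        rcases (by omega : j ≤ 1 ∨ 3 ≤ j) with h2 | h2
        · have := Nat.pow_le_pow_right (show 1 ≤ 4 by norm_num) h2
          rw [pow_one] at this
          omega
        · have h3 := Nat.pow_le_pow_right (show 1 ≤ 4 by norm_num) h2
          rw [show (4 : ℕ) ^ 3 = 64 by norm_num] at h3
          omega
      subst hj2
      refine hbad ⟨fun v hv => ?_, hun⟩
      have e1 : U ⊓ fixOne (V := V) ū = U := SetLike.coe_injective (Set.eq_of_subset_of_ncard_le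
        Set.inter_subset_left (by
          rw [← Nat.card_coe_set_eq, ← Nat.card_coe_set_eq]
          show Nat.card ↥U ≤ Nat.card ↥(U ⊓ fixOne (V := V) ū)
          rw [hj, hU16]; norm_num) (Set.toFinite _))
      exact (e1.ge hv).2
    · have := Gen.semi_small m.gen hfree (mul_inv_eq_iff_eq_mul.1 e) fun v hv => (hU v hv).2
      rw [hU16] at this
      nlinarith
  -- count
  have hcard : Nat.card ↥(m.plane U) = 32 := by
    rw [plane, card_map_of_injective (fun a b e => Subtype.ext (Subtype.ext e))]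
    rw [m.card_img hz hzQe (by show π zQ ∈ U; rw [m.pi_z hzQe]; exact U.zero_mem),
      show m.img _ = U from SetLike.ext fun v => ⟨by rintro ⟨a, ha, rfl⟩; exact ha, fun hv => by
        obtain ⟨a, rfl⟩ := m.surj v; exact ⟨a, hv, rfl⟩⟩, hU16]
  have hst : Nat.card ↥(MulAction.stabilizer (m.plane U) c) ≤ 8 := by
    let R : Subgroup ↥Q := P ⊓ (m.plane U).comap ((Subgroup.subtype CC).comp Q.subtype)
    have h1 : Nat.card ↥(MulAction.stabilizer (m.plane U) c) ≤ Nat.card ↥R := by
      have hpick : ∀ t : ↥(MulAction.stabilizer (m.plane U) c), ∃ a : ↥R,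
          (((a : ↥Q) : CC) : G) = ((t : ↥(m.plane U)) : G) := by
        intro t
        obtain ⟨a, ha, hat⟩ := (t : ↥(m.plane U)).2
        refine ⟨⟨a, hPiff.2 ?_, ?_⟩, hat⟩
        · rw [show ((a : CC) : G) = ((t : ↥(m.plane U)) : G) from hat]
          exact (smul_eq_iff_comm _ c).1 t.2
        · show ((a : CC) : G) ∈ m.plane U
          exact ⟨a, ha, rfl⟩
      choose f hf using hpick
      refine Nat.card_le_card_of_injective f fun t t' e => Subtype.ext (Subtype.ext ?_)
      rw [← hf t, ← hf t', e]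
    have h2 : Nat.card ↥R = 2 * Nat.card ↥(m.img R) :=
      m.card_img hz hzQe ⟨hPiff.2 (by rw [hzQe]; exact hzy),
        ⟨zQ, by show π zQ ∈ U; rw [m.pi_z hzQe]; exact U.zero_mem, rfl⟩⟩
    have h3 : Nat.card ↥(m.img R) ≤ Nat.card ↥(U ⊓ m.img P) := by
      refine Nat.le_of_dvd Nat.card_pos (AddSubgroup.card_dvd_of_le ?_)
      rintro _ ⟨a, ⟨haP, b, hb, hab⟩, rfl⟩
      refine ⟨?_, a, haP, rfl⟩
      rw [show a = b from Subtype.ext (Subtype.ext hab.symm)]
      exact hb
    omega
  rw [CfsgLib.InvolChar.LargeExtraChar.orb_card]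
  have h3 := (MulAction.stabilizer (m.plane U) c).card_mul_index
  rw [hcard] at h3
  have hd : (MulAction.stabilizer (m.plane U) c).index ∣ 2 ^ 5 := ⟨_, by rw [mul_comm, h3]; norm_num⟩
  obtain ⟨i, hi, hi'⟩ := (Nat.dvd_prime_pow Nat.prime_two).1 hd
  rw [hi'] at h3 ⊢
  rcases Nat.lt_or_ge i 2 with h | h
  · exfalso
    have h4 := Nat.pow_le_pow_right (show 1 ≤ 2 by norm_num) (show i ≤ 1 by omega)
    rw [pow_one] at h4
    nlinarith
  · exact (pow_dvd_pow 2 h :)

end GModel

end CfsgLib.LargeFischer
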